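import Cfsg.Agent.Lib.Classical.PauliMax.Main
import Cfsg.Agent.Lib.Classical.AschForm.SymTypeData

/-!
# Normalisers of two-groups of symplectic type with centre of order four are maximal
-/

set_option autoImplicit false
set_option linter.unusedSectionVars false
set_option maxHeartbeats 400000

namespace CfsgLib.Classical.PauliMax

open Module Matrix Cfsg Cfsg.Geo CfsgLib.Classical.AschPrime CfsgLib.Classical.AschGen
open scoped MatrixGroups commutatorElement

theorem sq_commutator {G : Type*} [Group G] {a b z : G} (hz : ∀ x, z * x = x * z) (hab : a * b = z * (b * a))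
    (ha : a ^ 4 = 1) (hb : b ^ 4 = 1) (hab4 : (a * b) ^ 4 = 1) : z ^ 2 = 1 := by
  have hpow : ∀ k : ℕ, a ^ k * b = z ^ k * (b * a ^ k) := by
    intro k
    induction k with
    | zero => simp
    | succ k ih =>
      have hc : a ^ k * z = z * a ^ k := (hz _).symm
      have hz' : z * z ^ k = z ^ (k + 1) := (pow_succ' z k).symm
      calc a ^ (k + 1) * b = a ^ k * z * (b * a) := by rw [pow_succ, mul_assoc, hab, mul_assoc (a ^ k) z]
        _ = z * (a ^ k * b) * a := by rw [hc]; simp only [mul_assoc]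
        _ = z ^ (k + 1) * (b * a ^ (k + 1)) := by
          rw [ih, pow_succ a k, ← hz']; simp only [mul_assoc]
  have hz4 : z ^ 4 = 1 := by
    have h5 := hpow 4
    rw [ha, one_mul, mul_one] at h5
    exact mul_eq_right.1 h5.symm
  have hzc : ∀ x, z⁻¹ * x = x * z⁻¹ := fun x => (Commute.inv_left (hz x)).eq
  have hba : b * a = z⁻¹ * (a * b) := by rw [hab, inv_mul_cancel_left]
  have h2b : a ^ 2 * (b * b) = b * b * a ^ 2 := by
    have hc : b * z ^ 2 = z ^ 2 * b := ((Commute.pow_left (hz b) 2).eq).symm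
    calc a ^ 2 * (b * b) = z ^ 2 * (b * (a ^ 2 * b)) := by conv_lhs => rw [← mul_assoc, hpow 2]; simp only [mul_assoc]
      _ = z ^ 2 * z ^ 2 * (b * b * a ^ 2) := by
        rw [hpow 2, ← mul_assoc b (z ^ 2), hc]; simp only [mul_assoc]
      _ = b * b * a ^ 2 := by rw [← pow_add, hz4, one_mul]
  have h2 : a * b * (a * b) = z⁻¹ * (a ^ 2 * (b * b)) := by
    calc a * b * (a * b) = a * (b * a) * b := by simp only [mul_assoc]
      _ = a * z⁻¹ * (a * b) * b := by rw [hba]; simp only [mul_assoc]
      _ = z⁻¹ * (a ^ 2 * (b * b)) := by rw [← hzc a, pow_two]; simp only [mul_assoc]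
  have h4 : (z⁻¹) ^ 2 = 1 := by
    have e : (a * b) ^ 4 = (z⁻¹) ^ 2 * (a ^ 2 * (b * b) * (a ^ 2 * (b * b))) := by
      rw [show (4 : ℕ) = 2 * 2 from rfl, pow_mul, pow_two (a * b), h2, (show Commute z⁻¹ _ from hzc _).mul_pow,
        pow_two (a ^ 2 * (b * b))]
    have e2 : a ^ 2 * (b * b) * (a ^ 2 * (b * b)) = 1 := by
      calc a ^ 2 * (b * b) * (a ^ 2 * (b * b)) = a ^ 2 * (b * b * a ^ 2) * (b * b) := by simp only [mul_assoc]
        _ = (a ^ 2 * a ^ 2) * (b * b * (b * b)) := by rw [← h2b]; simp only [mul_assoc]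
        _ = 1 := by rw [← pow_add, ha, one_mul, ← pow_two b, ← pow_add, hb]
    rw [hab4, e2, mul_one] at e
    exact e.symm
  rwa [inv_pow, inv_eq_one] at h4

theorem commutator_central {G : Type*} [Group G] {a b u v : G} (hu : ∀ w, u * w = w * u)
    (hv : ∀ w, v * w = w * v) : ⁅a * u, b * v⁆ = ⁅a, b⁆ := by
  calc ⁅a * u, b * v⁆ = a * u * (b * v) * (b * v * (a * u))⁻¹ := by rw [commutatorElement_def]; group
    _ = a * b * (u * v) * (b * a * (u * v))⁻¹ := by
      rw [Commute.mul_mul_mul_comm (hu b), Commute.mul_mul_mul_comm (hv a), hv u]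
    _ = ⁅a, b⁆ := by rw [commutatorElement_def]; group

variable {F : Type*} [Field F] {n : ℕ}

/-- The linear maps of the elements of a group of matrices. -/
def mapSet (R : Subgroup (GL (Fin n) F)) : Set (Module.End F (Fin n → F)) :=
  Matrix.toLinAlgEquiv' '' matrixSet R

theorem mem_mapSet {R : Subgroup (GL (Fin n) F)} {x : GL (Fin n) F} (hx : x ∈ R) :
    Matrix.toLinAlgEquiv' (x : Matrix (Fin n) (Fin n) F) ∈ mapSet R := ⟨_, ⟨x, hx, rfl⟩, rfl⟩

theorem mem_of_mapSet {R : Subgroup (GL (Fin n) F)} {x : GL (Fin n) F}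
    (hx : Matrix.toLinAlgEquiv' (x : Matrix (Fin n) (Fin n) F) ∈ mapSet R) : x ∈ R := by
  obtain ⟨_, ⟨y, hy, rfl⟩, e⟩ := hx
  rwa [← Units.ext (Matrix.toLinAlgEquiv'.injective e)]

/-- A two-group of symplectic type with centre of order four gives a Pauli system. -/
theorem pauli_of_symType [Finite F] (hn : 0 < n) {R : Subgroup (GL (Fin n) F)} (hR : SymType 2 R) {i : F}
    (hi : i * i = -1) : Pauli i (mapSet R) := by
  classical
  haveI : NeZero n := ⟨hn.ne'⟩
  set ψ : Matrix (Fin n) (Fin n) F ≃ₐ[F] Module.End F (Fin n → F) := Matrix.toLinAlgEquiv' with hψ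
  have h2 : (2 : F) ≠ 0 := by simpa using hR.natCast_ne
  have hp4 : ∀ x ∈ R, x ^ 4 = 1 := fun x hx => by simpa using hR.pow_eq x hx
  have key : ∀ x ∈ R, ∀ y ∈ R, ∃ c : F, (c = 1 ∨ c = -1) ∧
      ((x * y : GL (Fin n) F) : Matrix (Fin n) (Fin n) F) = c • ((y * x : GL (Fin n) F) : Matrix _ _ F) ∧
      (x * y * x⁻¹ * y⁻¹) ^ 2 = 1 ∧ ∀ w, x * y * x⁻¹ * y⁻¹ * w = w * (x * y * x⁻¹ * y⁻¹) := by
    intro x hx y hy
    obtain ⟨c, hc⟩ := (mem_scalars_iff _).1 (hR.comm x hx y hy)
    set z := x * y * x⁻¹ * y⁻¹ with hz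
    have hzc : ∀ w, z * w = w * z := fun w => Units.ext (by
      rw [Units.val_mul z w, Units.val_mul w z, hc, smul_mul_assoc, one_mul, mul_smul_comm, mul_one])
    have hxy : x * y = z * (y * x) := by rw [hz]; group
    have hz2 := sq_commutator hzc hxy (hp4 x hx) (hp4 y hy) (hp4 _ (R.mul_mem hx hy))
    refine ⟨(c : F), ?_, ?_, hz2, hzc⟩
    · have := scalar_pow_eq_one hn hc hz2
      exact mul_self_eq_one_iff.1 (by rwa [pow_two] at this)
    · conv_lhs => rw [hxy]
      rw [Units.val_mul, hc, smul_mul_assoc, one_mul]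
  have hcomm : ∀ x ∈ R, ∀ y ∈ R, x * x * y = y * (x * x) := by
    intro x hx y hy
    obtain ⟨c, -, -, hz2, hzc⟩ := key x hx y hy
    set z := x * y * x⁻¹ * y⁻¹ with hz
    have hxy : x * y = z * (y * x) := by rw [hz]; group
    calc x * x * y = x * z * (y * x) := by rw [mul_assoc, hxy, ← mul_assoc]
      _ = z * (x * y) * x := by rw [← hzc x]; simp only [mul_assoc]
      _ = z ^ 2 * (y * (x * x)) := by rw [hxy, pow_two]; simp only [mul_assoc]
      _ = y * (x * x) := by rw [hz2, one_mul]
  refine ⟨hi, h2, ?_, ?_, ?_, ?_, ?_, ?_⟩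
  · have := mem_mapSet R.one_mem
    rwa [Units.val_one, map_one] at this
  · rintro _ ⟨_, ⟨x, hx, rfl⟩, rfl⟩ _ ⟨_, ⟨y, hy, rfl⟩, rfl⟩
    rw [← map_mul, ← Units.val_mul]
    exact mem_mapSet (R.mul_mem hx hy)
  · have hi0 : i ≠ 0 := fun e => by simp [e] at hi
    have hu := scalar_unit (n := n) (Units.mk0 i hi0)
    set u : GL (Fin n) F := Units.map (Matrix.scalar (Fin n) : F →+* _).toMonoidHom (Units.mk0 i hi0) with hudef
    have hmem : u ∈ R := hR.mem_of_pow u ⟨_, rfl⟩ (Units.ext (by
      rw [Units.val_pow_eq_pow_val, hu, smul_pow, one_pow, Units.val_one, Units.val_mk0,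
        show i ^ (2 * Nat.gcd 2 2) = (i * i) * (i * i) by norm_num; ring, hi]
      simp))
    have := mem_mapSet hmem
    rwa [hu, map_smul, map_one] at this
  · rintro _ ⟨_, ⟨x, hx, rfl⟩, rfl⟩
    obtain ⟨c, hc⟩ := full_commutant hn hR.full (M := ((x * x : GL (Fin n) F) : Matrix _ _ F)) fun y hy =>
      congrArg Units.val (hcomm x hx y hy)
    have hc2 := scalar_pow_eq_one hn hc (r := 2) (by
      rw [← pow_two, ← pow_mul]; exact hp4 x hx)
    rw [← map_mul, ← Units.val_mul, hc, map_smul, map_one]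
    rcases mul_self_eq_one_iff.1 (by rwa [pow_two] at hc2) with e | e <;> rw [e]
    · exact .inl (by rw [one_smul])
    · exact .inr (LinearMap.ext fun v => by simp)
  · rintro _ ⟨_, ⟨x, hx, rfl⟩, rfl⟩ _ ⟨_, ⟨y, hy, rfl⟩, rfl⟩
    obtain ⟨c, hc, e, -⟩ := key y hy x hx
    simp only [← map_mul, ← Units.val_mul, e, map_smul]
    rcases hc with rfl | rfl
    · exact .inl (by rw [one_smul])
    · exact .inr (LinearMap.ext fun v => by simp)
  · have := congrArg (Submodule.map ψ.toLinearMap) hR.span_eq_top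
    rw [Submodule.map_span, Submodule.map_top] at this
    exact this.trans (LinearMap.range_eq_top.2 ψ.surjective)

section

variable {V : Type*} [AddCommGroup V] [Module F V] [FiniteDimensional F V] {i : F} {R : Set (Module.End F V)}

/-- A basis with the two eigenspaces of an involution of the system. -/
theorem Pauli.exists_half_basis (h : Pauli i R) {a : Module.End F V} (ha : a ∈ R) (haa : a * a = 1)
    (has : ¬ IsScalarMap a) : ∃ (k : ℕ) (B : Basis (Fin k ⊕ Fin k) F V), 2 * k = finrank F V ∧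
      ∀ m, a (B m) = Sum.elim (fun _ => (1 : F)) (fun _ => -1) m • B m := by
  have hnaa : -a * -a = 1 := by rw [neg_mul_neg, haa]
  have h1 := h.res_finrank ha haa has
  have h2 := h.res_finrank (h.neg_mem ha) hnaa (fun hs => has (by
    have := hs.smul (-1)
    rwa [neg_smul, one_smul, neg_neg] at this))
  let B1 := Module.finBasisOfFinrankEq F (plusSpace a) (n := finrank F (plusSpace a)) rfl
  let B2 := Module.finBasisOfFinrankEq F (plusSpace (-a)) (n := finrank F (plusSpace a)) (by omega)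
  refine ⟨_, (B1.prod B2).map (Submodule.prodEquivOfIsCompl _ _ (isCompl_plus_minus haa h.two_ne)), h1,
    fun m => ?_⟩
  rcases m with m | m
  · simpa using a_apply_of_mem haa h.two_ne (B1 m)
  · have e := a_apply_of_mem hnaa h.two_ne (B2 m)
    rw [LinearMap.neg_apply, neg_eq_iff_eq_neg] at e
    simpa using e

theorem Pauli.det_scaled_quarter (h : Pauli i R) (h8 : 8 ∣ finrank F V) {a : Module.End F V} (ha : a ∈ R)
    (haa : a * a = 1) (has : ¬ IsScalarMap a) : LinearMap.det ((1 + i)⁻¹ • quarter i a) = 1 := by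
  classical
  obtain ⟨k, B, hk, hB⟩ := h.exists_half_basis ha haa has
  obtain ⟨l, hl⟩ := h8
  have h1i : (1 + i) ≠ 0 := fun e => h.two_ne (by linear_combination (1 - i) * e + h.hi)
  have hq : ∀ m, ((1 + i)⁻¹ • quarter i a) (B m) = Sum.elim (fun _ => (1 : F)) (fun _ => -i) m • B m := by
    intro m
    rcases m with m | m <;>
      simp only [quarter, LinearMap.smul_apply, LinearMap.add_apply, Module.End.one_apply, hB, smul_smul,
        smul_add, Sum.elim_inl, Sum.elim_inr] <;> match_scalars <;> field_simp <;>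
      first | ring1 | linear_combination h.hi
  rw [← LinearMap.det_toMatrix B]
  show (LinearMap.toMatrixAlgEquiv B _).det = 1
  rw [matrix_eq_diagonal B hq, Matrix.det_diagonal, Fintype.prod_sum_type]
  simp only [Sum.elim_inl, Sum.elim_inr, Finset.prod_const_one, one_mul, Finset.prod_const, Finset.card_univ,
    Fintype.card_fin]
  rw [show k = 4 * l by omega, pow_mul, show (-i) ^ 4 = (i * i) * (i * i) by ring, h.hi, neg_mul_neg, one_mul,
    one_pow]

theorem Pauli.exists_not_nor [Finite F] [Nontrivial V] (h : Pauli i R) (hn : (finrank F V : F) ≠ 0)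
    (hdim : 2 ≤ finrank F V) : ∃ g : Module.End F V, LinearMap.det g = 1 ∧ ¬ Nor R g := by
  classical
  obtain ⟨x, hx, hxs⟩ := h.exists_non_scalar hdim
  obtain ⟨a, ha, haa, has, -⟩ := h.exists_invol hx hxs
  obtain ⟨k, B, hk, hB⟩ := h.exists_half_basis ha haa has
  have hk0 : 0 < k := by omega
  set tm := LinearMap.toMatrixAlgEquiv B with htm
  have hne : (Sum.inl ⟨0, hk0⟩ : Fin k ⊕ Fin k) ≠ Sum.inr ⟨0, hk0⟩ := Sum.inl_ne_inr
  refine ⟨tm.symm (Matrix.transvection (Sum.inl ⟨0, hk0⟩) (Sum.inr ⟨0, hk0⟩) 1), ?_, fun hT => ?_⟩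
  · rw [← LinearMap.det_toMatrix B]
    show (tm (tm.symm _)).det = 1
    rw [AlgEquiv.apply_symm_apply, Matrix.det_transvection_of_ne _ _ hne]
  obtain ⟨y, hy, e⟩ := hT a ha
  have e' := congrArg tm e
  rw [map_mul, map_mul, AlgEquiv.apply_symm_apply, matrix_eq_diagonal B hB] at e'
  set σ := (Sum.elim (fun _ => (1 : F)) (fun _ => -1) : Fin k ⊕ Fin k → F) with hσ
  set j : Fin k ⊕ Fin k := Sum.inl ⟨0, hk0⟩ with hj
  set l : Fin k ⊕ Fin k := Sum.inr ⟨0, hk0⟩ with hl
  have hy' : tm y = Matrix.diagonal σ + Matrix.single j l (-2 : F) := by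
    have h5 := congrArg (· * Matrix.transvection j l (-1 : F)) e'
    simp only [mul_assoc (tm y), Matrix.transvection_mul_transvection_same (i := j) (j := l) hne, add_neg_cancel,
      Matrix.transvection_zero, mul_one] at h5
    rw [← h5]
    simp only [Matrix.transvection, mul_add, add_mul, one_mul, mul_one]
    have e1 : Matrix.single j l (1 : F) * Matrix.diagonal σ = Matrix.single j l (-1) := by
      ext r c
      rw [Matrix.mul_diagonal, Matrix.single_apply, Matrix.single_apply]
      split_ifs with he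
      · rw [← he.2]; simp [hσ, hl]
      · rw [zero_mul]
    have e2 : Matrix.diagonal σ * Matrix.single j l (-1 : F) = Matrix.single j l (-1) := by
      ext r c
      rw [Matrix.diagonal_mul, Matrix.single_apply]
      split_ifs with he
      · rw [← he.1]; simp [hσ, hj]
      · rw [mul_zero]
    rw [e1, e2, Matrix.single_mul_single_of_ne (h := hne.symm), add_zero, add_assoc, ← Matrix.single_add]
    norm_num
  have htr : LinearMap.trace F V (a * y) ≠ 0 := by
    rw [LinearMap.trace_eq_matrix_trace F B]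
    show (tm (a * y)).trace ≠ 0
    rw [map_mul, matrix_eq_diagonal B hB, hy', mul_add, Matrix.diagonal_mul_diagonal, Matrix.trace_add]
    have hd : (Matrix.diagonal σ * Matrix.single j l (-2 : F)).trace = 0 := by
      rw [Matrix.trace]
      refine Finset.sum_eq_zero fun m _ => ?_
      rw [Matrix.diag_apply, Matrix.diagonal_mul, Matrix.single_apply, if_neg, mul_zero]
      rintro ⟨rfl, e0⟩
      exact hne e0.symm
    have hσσ : ∀ m, σ m * σ m = 1 := fun m => by rcases m with m | m <;> simp [hσ]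
    rw [hd, add_zero, Matrix.trace_diagonal]
    simp only [hσσ, Finset.sum_const, Finset.card_univ, Fintype.card_sum, Fintype.card_fin, nsmul_eq_mul, mul_one]
    rwa [show k + k = finrank F V by omega]
  obtain ⟨c, rfl⟩ := h.eq_smul_of_trace ha hy htr
  rw [map_smul, matrix_eq_diagonal B hB] at hy'
  have h00 := congrFun (congrFun hy' j) l
  rw [Matrix.smul_apply, Matrix.diagonal_apply_ne _ hne, Matrix.add_apply, Matrix.diagonal_apply_ne _ hne,
    Matrix.single_apply_same, smul_zero, zero_add] at h00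
  exact h.two_ne (by linear_combination h00)

end

/-- The normaliser of a two-group of symplectic type with centre of order four, in dimension a multiple of eight,
is maximal in the special linear group of a prime field. -/
theorem symType_maximal [Fintype F] {p : ℕ} (hp : p.Prime) (hF : Fintype.card F = p) (hp4 : p % 4 = 1) {m : ℕ}
    (hn : n = 2 ^ (m + 1)) (h8 : 8 ∣ n) {R : Subgroup (GL (Fin n) F)} (hR : SymType 2 R) :
    IsMaximalIn (specialLinear (Fin n) F) (subgroupNormalizer R ⊓ specialLinear (Fin n) F) := by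
  classical
  haveI := Fact.mk hp
  have hFc : Nat.card F = p := by rw [Nat.card_eq_fintype_card, hF]
  haveI : CharP F p := charP_of_card_eq_prime hF
  obtain ⟨i, hi⟩ : ∃ i : F, i * i = -1 := by
    obtain ⟨i, hi⟩ := FiniteField.isSquare_neg_one_iff.2 (by rw [hF]; omega : Fintype.card F % 4 ≠ 3)
    exact ⟨i, hi.symm⟩
  have hn0 : 0 < n := by rw [hn]; positivity
  haveI : NeZero n := ⟨hn0.ne'⟩
  haveI : Nontrivial (Fin n → F) := Function.nontrivial
  have h := pauli_of_symType hn0 hR hi
  set ψ : Matrix (Fin n) (Fin n) F ≃ₐ[F] Module.End F (Fin n → F) := Matrix.toLinAlgEquiv' with hψ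
  have hfr : finrank F (Fin n → F) = n := Module.finrank_fin_fun F
  have hdet : ∀ M : Matrix (Fin n) (Fin n) F, LinearMap.det (ψ M) = M.det := fun M => by
    show LinearMap.det (Matrix.toLin' M) = _
    exact LinearMap.det_toLin' M
  have mem_sl : ∀ g : GL (Fin n) F, g ∈ specialLinear (Fin n) F ↔ (g : Matrix (Fin n) (Fin n) F).det = 1 := by
    intro g
    rw [specialLinear, MonoidHom.mem_ker, Units.ext_iff]
    rfl
  -- normalising maps
  have nor_norm : ∀ g : GL (Fin n) F, Nor (mapSet R) (ψ (g : Matrix (Fin n) (Fin n) F)) →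
      g ∈ subgroupNormalizer R := by
    intro g hg
    have hmaps : ∀ x ∈ R, g * x * g⁻¹ ∈ R := by
      intro x hx
      obtain ⟨y, hy, e⟩ := hg _ (mem_mapSet hx)
      refine mem_of_mapSet ?_
      rw [Units.val_mul, Units.val_mul, map_mul, map_mul, e, mul_assoc, ← map_mul, Units.mul_inv, map_one, mul_one]
      exact hy
    haveI : Finite R := inferInstance
    have hbij : Function.Bijective fun x : R => (⟨g * x * g⁻¹, hmaps x x.2⟩ : R) :=
      Finite.injective_iff_bijective.1 fun x y e => Subtype.ext (by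
        have := congrArg Subtype.val e
        simpa using this)
    rw [subgroupNormalizer, Subgroup.mem_normalizer_iff]
    refine fun x => ⟨hmaps x, fun hx => ?_⟩
    obtain ⟨⟨y, hy⟩, e⟩ := hbij.2 ⟨_, hx⟩
    have e' : g * y * g⁻¹ = g * x * g⁻¹ := congrArg Subtype.val e
    rwa [← mul_left_cancel (mul_right_cancel e')]
  have norm_nor : ∀ g : GL (Fin n) F, g ∈ subgroupNormalizer R →
      Nor (mapSet R) (ψ (g : Matrix (Fin n) (Fin n) F)) := by
    rintro g hg _ ⟨_, ⟨x, hx, rfl⟩, rfl⟩
    rw [subgroupNormalizer, Subgroup.mem_normalizer_iff] at hg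
    refine ⟨_, mem_mapSet ((hg x).1 hx), ?_⟩
    rw [← map_mul, ← map_mul, ← Units.val_mul, ← Units.val_mul, inv_mul_cancel_right]
  have hndim : (finrank F (Fin n → F) : F) ≠ 0 := by
    rw [hfr, hn, Nat.cast_pow]
    exact pow_ne_zero _ h.two_ne
  refine ⟨lt_of_le_of_ne inf_le_right fun e => ?_, fun M hNM hMS => ?_⟩
  · obtain ⟨f, hf, hfN⟩ := h.exists_not_nor hndim (by rw [hfr]; omega)
    have hd : (ψ.symm f).det = 1 := by rw [← hdet, AlgEquiv.apply_symm_apply, hf]
    let g : GL (Fin n) F := Matrix.GeneralLinearGroup.mkOfDetNeZero (ψ.symm f) (by rw [hd]; exact one_ne_zero)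
    have hg : g ∈ subgroupNormalizer R ⊓ specialLinear (Fin n) F := by rw [e, mem_sl]; exact hd
    have := norm_nor g hg.1
    rw [show (g : Matrix (Fin n) (Fin n) F) = ψ.symm f from rfl, AlgEquiv.apply_symm_apply] at this
    exact hfN this
  haveI : (scalars (Fin n) F).Normal := ⟨fun z hz g => by rwa [← scalars_comm hz g, mul_inv_cancel_right]⟩
  let Φ : GL (Fin n) F →* (Module.End F (Fin n → F))ˣ := Units.map ψ.toAlgHom.toRingHom.toMonoidHom
  set Γ := (M ⊔ scalars (Fin n) F).map Φ with hΓdef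
  have inΓ : ∀ g ∈ M ⊔ scalars (Fin n) F, InG Γ (ψ (g : Matrix (Fin n) (Fin n) F)) := fun g hg =>
    ⟨Φ g, Subgroup.mem_map_of_mem _ hg, rfl⟩
  have hscal : ∀ c : F, c ≠ 0 → InG Γ (c • 1) := fun c hc => by
    have := inΓ _ (Subgroup.mem_sup_right (show _ ∈ scalars (Fin n) F from ⟨Units.mk0 c hc, rfl⟩))
    rwa [scalar_unit, map_smul, map_one, Units.val_mk0] at this
  have h1i : (1 + i) ≠ 0 := fun e => h.two_ne (by linear_combination (1 - i) * e + hi)
  have h1i' : (1 - i) ≠ 0 := fun e => h.two_ne (by linear_combination (1 + i) * e + hi)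
  have hquar : ∀ a ∈ mapSet R, a * a = 1 → InG Γ (quarter i a) := by
    intro a ha haa
    by_cases has : IsScalarMap a
    · obtain ⟨c, rfl⟩ := has
      rw [quarter, smul_smul, show (1 : Module.End F (Fin n → F)) + (i * c) • 1 = (1 + i * c) • 1 by
        rw [add_smul, one_smul]]
      refine hscal _ fun e => ?_
      have hc : c * c = 1 := by
        have : (c * c - 1) • (1 : Module.End F (Fin n → F)) = 0 := by
          rw [smul_mul_smul_comm, one_mul] at haa
          linear_combination (norm := module) haa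
        exact sub_eq_zero.1 ((smul_eq_zero.1 this).resolve_right one_ne_zero)
      rcases mul_self_eq_one_iff.1 hc with rfl | rfl
      · exact h1i (by linear_combination e)
      · exact h1i' (by linear_combination e)
    set u := (1 + i)⁻¹ • quarter i a with hu
    have hd : (ψ.symm u).det = 1 := by
      rw [← hdet, AlgEquiv.apply_symm_apply, hu, h.det_scaled_quarter (by rw [hfr]; exact h8) ha haa has]
    let g : GL (Fin n) F := Matrix.GeneralLinearGroup.mkOfDetNeZero (ψ.symm u) (by rw [hd]; exact one_ne_zero)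
    have hgu : ψ (g : Matrix (Fin n) (Fin n) F) = u := ψ.apply_symm_apply u
    have hgM : g ∈ M := hNM ⟨nor_norm g (by rw [hgu, hu]; exact (h.nor_quarter ha haa).smul _), (mem_sl g).2 hd⟩
    have := (hscal _ h1i).mul (inΓ g (Subgroup.mem_sup_left hgM))
    rwa [hgu, hu, smul_mul_smul_comm, one_mul, mul_inv_cancel₀ h1i, one_smul] at this
  have hamb : Ambient i (mapSet R) Γ := by
    refine ⟨hscal, fun x hx => ?_, hquar⟩
    by_cases hxs : IsScalarMap x
    · obtain ⟨c, rfl⟩ := hxs
      exact hscal c fun e => h.ne_zero hx (by rw [e, zero_smul])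
    obtain ⟨a, ha, haa, -, c, hc, rfl⟩ := h.exists_invol hx hxs
    have hq := (hquar a ha haa).mul (hquar a ha haa)
    rw [quarter_mul_self hi haa] at hq
    have := (hscal (c * (2 * i)⁻¹) (mul_ne_zero hc (inv_ne_zero (mul_ne_zero h.two_ne h.i_ne)))).mul hq
    rwa [smul_mul_smul_comm, one_mul, mul_assoc, inv_mul_cancel₀ (mul_ne_zero h.two_ne h.i_ne), mul_one] at this
  rcases Pauli.nor_or_sl hFc (p := p) (by omega) (by omega) m h (hfr.trans hn) hamb with hnor | hsl
  · left
    refine le_antisymm (fun g hg => ⟨nor_norm g (hnor _ (inΓ g (Subgroup.mem_sup_left hg))), hMS hg⟩) hNM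
  · right
    refine le_antisymm hMS fun g hg => ?_
    let toG : SpecialLinearGroup (Fin n) F →* GL (Fin n) F := SpecialLinearGroup.toGL
    have hall : ∀ A : SpecialLinearGroup (Fin n) F, toG A ∈ M ⊔ scalars (Fin n) F := by
      intro A
      obtain ⟨u, hu, hue⟩ := hsl (ψ (A : Matrix (Fin n) (Fin n) F)) ((hdet _).trans A.2)
      obtain ⟨k, hk, rfl⟩ := Subgroup.mem_map.1 hu
      have hue' : ψ (k : Matrix (Fin n) (Fin n) F) = ψ (A : Matrix (Fin n) (Fin n) F) := hue
      rwa [show toG A = k from (Units.ext (ψ.injective hue')).symm]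
    have htop : M.comap toG = ⊤ := by
      rw [eq_top_iff, ← sl_perfect (F := F) (n := Fin n) (by rw [Fintype.card_fin]; omega), _root_.commutator,
        Subgroup.commutator_le]
      intro A _ B _
      rw [Subgroup.mem_comap, map_commutatorElement]
      obtain ⟨a, ha, za, hza, ea⟩ := Subgroup.mem_sup_of_normal_right.1 (hall A)
      obtain ⟨b, hb, zb, hzb, eb⟩ := Subgroup.mem_sup_of_normal_right.1 (hall B)
      rw [← ea, ← eb]
      have e1 : ⁅a * za, b * zb⁆ = ⁅a, b⁆ := commutator_central (fun w => scalars_comm hza w)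
        (fun w => scalars_comm hzb w)
      rw [e1]
      exact M.mul_mem (M.mul_mem (M.mul_mem ha hb) (M.inv_mem ha)) (M.inv_mem hb)
    let A0 : SpecialLinearGroup (Fin n) F := ⟨(g : Matrix (Fin n) (Fin n) F), (mem_sl g).1 hg⟩
    have hmem : A0 ∈ M.comap toG := by rw [htop]; exact Subgroup.mem_top _
    rw [Subgroup.mem_comap] at hmem
    rwa [show toG A0 = g from Units.ext rfl] at hmem

/-- The same for the data of a symplectic-type group. -/
theorem data_maximal [Fintype F] {p : ℕ} (hp : p.Prime) (hF : Fintype.card F = p) (hp4 : p % 4 = 1) {m : ℕ}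
    (hn : n = 2 ^ (m + 1)) (h8 : 8 ∣ n) {R : Subgroup (GL (Fin n) F)} (hR : IsLinearSymplecticTypeData 2 R) :
    IsMaximalIn (specialLinear (Fin n) F) (subgroupNormalizer R ⊓ specialLinear (Fin n) F) := by
  have hn0 : 0 < n := by rw [hn]; positivity
  obtain ⟨q, e, -, -, hcase⟩ := hR.field
  rcases hcase with ⟨ho, -⟩ | ⟨-, -, hz, -, -⟩ | ⟨-, -, hc, -⟩
  · exact absurd ho (by decide)
  · refine symType_maximal hp hF hp4 hn h8 (AschForm.symType_of_data (by omega) hR.symplecticType hR.absIrred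
      (by rw [hz]; rfl) ?_)
    rw [hz, Nat.card_eq_fintype_card, hF]
    exact ⟨p / 4, by omega⟩
  · exfalso
    rw [Fintype.card_fin] at hc
    omega

end CfsgLib.Classical.PauliMax
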