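import Cfsg.Agent.Lib.Classical.PauliMax.Residue

/-!
# Unipotent elements from two-dimensional constituents
-/

set_option autoImplicit false
set_option linter.unusedSectionVars false
set_option maxHeartbeats 400000

namespace CfsgLib.Classical.PauliMax

open Matrix Module OnePoint CfsgLib.Classical.Dickson
open scoped MatrixGroups

variable {F : Type*} [Field F] {V : Type*} [AddCommGroup V] [Module F V] [FiniteDimensional F V]

/-- The matrices over an extension field. -/
noncomputable def embed {n : ℕ} (B : Basis (Fin n) F V) (L : Type*) [Field L] [Algebra F L] :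
    Module.End F V →ₐ[F] Matrix (Fin n) (Fin n) L :=
  ((Algebra.ofId F L).mapMatrix).comp (LinearMap.toMatrixAlgEquiv B).toAlgHom

theorem embed_injective {n : ℕ} (B : Basis (Fin n) F V) (L : Type*) [Field L] [Algebra F L] :
    Function.Injective (embed B L) :=
  (Matrix.map_injective (algebraMap F L).injective).comp (LinearMap.toMatrixAlgEquiv B).injective

theorem affGL_pow_four {L : Type*} [Field L] [DecidableEq L] {ι : Lˣ} (hi : (ι : L) * ι = -1) :
    aff ι (0 : L) ^ 2 = aff (-1 : Lˣ) 0 := by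
  rw [pow_two, aff_mul]
  congr 1
  · exact Units.ext (by simpa using hi)
  · simp

/-- The image of a two-column matrix relation in `PGL₂`. -/
theorem mk_eq_aff {L : Type*} [Field L] [DecidableEq L] {Z : GL (Fin 2) L} {u : Lˣ} {x : L}
    (h00 : Z 0 0 = u * x) (h11 : Z 1 1 = x) (h01 : Z 0 1 = 0) (h10 : Z 1 0 = 0) :
    ProjGenLinGroup.mk Z = aff u 0 := by
  have hx : x ≠ 0 := fun e => Z.det_ne_zero (by rw [det_fin_two, h00, h01, h11, e]; simp)
  rw [aff, ProjGenLinGroup.mk_eq_mk_iff]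
  refine ⟨(Units.mk0 x hx)⁻¹, ?_⟩
  apply Units.ext
  ext r c
  fin_cases r <;> fin_cases c <;>
    simp [affGL, Matrix.mul_apply, Fin.sum_univ_two, Matrix.GeneralLinearGroup.scalar, h00, h11, h01, h10, hx,
      mul_assoc]

variable {i : F} {Γ : Subgroup (Module.End F V)ˣ}

/-- A constituent with two quarter turns generating a large subgroup of `PGL₂` gives an element of order `p`
inverted by an involution. -/
theorem exists_inverted [Finite F] {n : ℕ} (B : Basis (Fin n) F V) {L : Type*} [Field L] [Fintype L]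
    [DecidableEq L] [Algebra F L] {p : ℕ} [Fact p.Prime] [CharP L p] [CharP F p] (hp2 : p ≠ 2) (hF : Nat.card F = p) (hi : i * i = -1)
    {X : Matrix (Fin n) (Fin 2) L} {Y : Matrix (Fin 2) (Fin n) L} (hY : Y * X = 1)
    {ua ut us uq : (Module.End F V)ˣ} (ha : ua ∈ Γ) (ht : ut ∈ Γ) (hs : us ∈ Γ) (hq : uq ∈ Γ)
    (haa : (ua : Module.End F V) * ua = 1) {Za Zt Zs Zq : GL (Fin 2) L}
    (ea : embed B L (ua : Module.End F V) * X = X * (Za : Matrix (Fin 2) (Fin 2) L))
    (et : embed B L (ut : Module.End F V) * X = X * (Zt : Matrix (Fin 2) (Fin 2) L))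
    (es : embed B L (us : Module.End F V) * X = X * (Zs : Matrix (Fin 2) (Fin 2) L))
    (eq' : embed B L (uq : Module.End F V) * X = X * (Zq : Matrix (Fin 2) (Fin 2) L))
    (hZa : (Za : Matrix (Fin 2) (Fin 2) L) = !![1, 0; 0, -1])
    (hZt : (Zt : Matrix (Fin 2) (Fin 2) L) = !![1 + algebraMap F L i, 0; 0, 1 - algebraMap F L i])
    (hs01 : Zs 0 1 ≠ 0) (hs10 : Zs 1 0 ≠ 0)
    (hq4 : ProjGenLinGroup.mk Zq ^ 4 = (1 : ProjGenLinGroup (Fin 2) L))
    (hq2 : ProjGenLinGroup.mk Zq ^ 2 ≠ (1 : ProjGenLinGroup (Fin 2) L))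
    (hqne : ProjGenLinGroup.mk Zq ^ 2 ≠ ProjGenLinGroup.mk Za)
    (hnS : ∀ K : Subgroup (ProjGenLinGroup (Fin 2) L),
      (∀ g ∈ colStab (embed B L).toMonoidHom X Γ, ∀ Z : GL (Fin 2) L,
        embed B L (g : Module.End F V) * X = X * (Z : Matrix (Fin 2) (Fin 2) L) → ProjGenLinGroup.mk Z ∈ K) →
      ¬ Nonempty (K ≃* Equiv.Perm (Fin 4))) :
    ∃ U : (Module.End F V)ˣ, U ∈ Γ ∧ (U : Module.End F V) ≠ 1 ∧ (U : Module.End F V) ^ p = 1 ∧
      (U : Module.End F V) * (ua * U * ua) = 1 := by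
  classical
  haveI : Finite (Module.End F V) := Module.finite_of_finite F
  haveI : Finite (colStab (embed B L).toMonoidHom X Γ) :=
    Finite.of_injective (fun g => ((g : (Module.End F V)ˣ) : Module.End F V))
      (fun _ _ e => Subtype.ext (Units.ext e))
  set φ := (embed B L).toMonoidHom with hφ
  set pr := (ProjGenLinGroup.mk (n := Fin 2) (R := L)).comp (colRep (φ := φ) (X := X) (Γ := Γ) hY) with hpr
  have hmem : ∀ {g : (Module.End F V)ˣ}, g ∈ Γ → ∀ {Z : GL (Fin 2) L},
      embed B L (g : Module.End F V) * X = X * (Z : Matrix (Fin 2) (Fin 2) L) →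
      ∃ h : g ∈ colStab φ X Γ, pr ⟨g, h⟩ = ProjGenLinGroup.mk Z := fun {g} hg {Z} e =>
    ⟨mem_colStab_of_eq hg e, by rw [hpr, MonoidHom.comp_apply, colRep_apply hY (Z := Z) e]⟩
  obtain ⟨ha', pa⟩ := hmem ha ea
  obtain ⟨ht', pt⟩ := hmem ht et
  obtain ⟨hs', ps⟩ := hmem hs es
  obtain ⟨hq', pq⟩ := hmem hq eq'
  have h2 : (2 : L) ≠ 0 := by
    intro e
    have : (p : ℕ) ∣ 2 := (CharP.cast_eq_zero_iff L p 2).1 (by exact_mod_cast e)
    exact hp2 ((Nat.prime_dvd_prime_iff_eq Fact.out Nat.prime_two).1 this)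
  set j := algebraMap F L i with hj
  have hjj : j * j = -1 := by rw [hj, ← map_mul, hi, map_neg, map_one]
  set ι : Lˣ := Units.mk0 j (fun e => by rw [e, mul_zero] at hjj; simp at hjj) with hι
  have hιι : (ι : L) * ι = -1 := hjj
  have hιne : (ι : L) ≠ 1 := fun e => by
    rw [e, one_mul] at hιι
    exact h2 (by linear_combination hιι)
  have hZt' : ProjGenLinGroup.mk Zt = aff ι 0 := by
    refine mk_eq_aff (x := 1 - j) ?_ ?_ ?_ ?_ <;> rw [hZt] <;> simp [hι]
    linear_combination hjj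
  have hZa' : ProjGenLinGroup.mk Za = aff ι (0 : L) ^ 2 := by
    rw [affGL_pow_four hιι]
    refine mk_eq_aff (x := -1) ?_ ?_ ?_ ?_ <;> rw [hZa] <;> simp
  have hiA : ∀ A : Subfield L, (ι : L) ∈ A := by
    intro A
    obtain ⟨k, hk⟩ := natCast_surj hF i
    have : (ι : L) = (k : L) := by rw [hι, Units.val_mk0, hj, ← hk, map_natCast]
    rw [this]
    exact natCast_mem A k
  set K := pr.range with hK
  have hS : ¬ Nonempty (K ≃* Equiv.Perm (Fin 4)) := hnS K fun g hg Z e =>
    ⟨⟨g, hg⟩, by rw [hpr, MonoidHom.comp_apply, colRep_apply hY (Z := Z) e]⟩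
  obtain ⟨_, ⟨⟨g, hg⟩, rfl⟩, hg1, hgp, hginv⟩ := exists_unip_inverted p hp2 K hιι hiA
    ⟨⟨ut, ht'⟩, pt.trans hZt'⟩ (s := ProjGenLinGroup.mk Zs) (t := ProjGenLinGroup.mk Zq) ⟨_, ps⟩ ⟨_, pq⟩
    (by rw [mk_smul, Ne, smul_infty_eq_self_iff]; exact hs10)
    (by
      rw [mk_smul, smul_some_eq_ite]
      split_ifs with e
      · exact infty_ne_coe _
      · rw [Ne, coe_eq_coe, mul_zero, zero_add, mul_zero, zero_add, div_eq_zero_iff, not_or]
        exact ⟨hs01, by simpa using e⟩)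
    (by
      intro e
      rw [aff, ← map_mul, ← map_mul, ProjGenLinGroup.mk_eq_mk_iff] at e
      obtain ⟨u, hu⟩ := e
      have h01 := congrArg (fun M : GL (Fin 2) L => (M : Matrix (Fin 2) (Fin 2) L) 0 1) hu
      have h10 := congrArg (fun M : GL (Fin 2) L => (M : Matrix (Fin 2) (Fin 2) L) 1 0) hu
      simp [affGL, Matrix.mul_apply, Fin.sum_univ_two, Matrix.GeneralLinearGroup.scalar, Matrix.vecMul,
        dotProduct] at h01 h10
      have e1 : (ι : L) * u = 1 := mul_right_cancel₀ hs01 (by linear_combination h01)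
      have e2 : (u : L) = ι := h10.resolve_right hs10
      rw [e2, hιι] at e1
      exact h2 (by linear_combination -e1))
    hq4 hq2 (by rw [← hZa']; exact hqne) hS
  obtain ⟨U, hU1, hUp, hUinv⟩ := exists_inverted_of_hom pr hp2 (a := ⟨ua, ha'⟩) (g := ⟨g, hg⟩)
    (Subtype.ext (Units.ext haa)) hg1 hgp (by rw [pa, hZa']; exact hginv)
  refine ⟨U, U.2.1, fun e => hU1 (Subtype.ext (Units.ext e)), ?_, ?_⟩
  · have := congrArg (fun W : colStab φ X Γ => ((W : (Module.End F V)ˣ) : Module.End F V)) hUp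
    simpa using this
  · have := congrArg (fun W : colStab φ X Γ => ((W : (Module.End F V)ˣ) : Module.End F V)) hUinv
    simpa using this

end CfsgLib.Classical.PauliMax
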