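import Cfsg.Agent.Lib.Classical.PauliMax.Tools
import Cfsg.Agent.Lib.Classical.PauliMax.Embed

/-!
# The two-dimensional case
-/

set_option autoImplicit false
set_option linter.unusedSectionVars false
set_option maxHeartbeats 400000

namespace CfsgLib.Classical.PauliMax

open Matrix Module OnePoint CfsgLib.Classical.Dickson
open scoped MatrixGroups

variable {F : Type*} [Field F] {V : Type*} [AddCommGroup V] [Module F V] [FiniteDimensional F V]

local notation "E" => Module.End F V

/-- The image in `PGL₂` of an invertible map of a plane. -/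
noncomputable def toPGL2 (B : Basis (Fin 2) F V) : (Module.End F V)ˣ →* ProjGenLinGroup (Fin 2) F :=
  (ProjGenLinGroup.mk (n := Fin 2) (R := F)).comp (Units.map (LinearMap.toMatrixAlgEquiv B).toAlgHom.toRingHom.toMonoidHom)

theorem toPGL2_eq_iff (B : Basis (Fin 2) F V) {u v : Eˣ} :
    toPGL2 B u = toPGL2 B v ↔ ∃ c : F, c ≠ 0 ∧ (v : E) = c • (u : E) := by
  set φ := LinearMap.toMatrixAlgEquiv B with hφ
  have hsc : ∀ (c : Fˣ) (M : Matrix (Fin 2) (Fin 2) F),
      M * ((Matrix.GeneralLinearGroup.scalar (Fin 2) c : GL (Fin 2) F) : Matrix (Fin 2) (Fin 2) F) = (c : F) • M := by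
    intro c M
    ext r s
    simp [Matrix.mul_apply, Fin.sum_univ_two, Matrix.GeneralLinearGroup.scalar]
    fin_cases s <;> simp [mul_comm]
  rw [toPGL2, MonoidHom.comp_apply, MonoidHom.comp_apply, ProjGenLinGroup.mk_eq_mk_iff]
  constructor
  · rintro ⟨c, hc⟩
    refine ⟨c, c.ne_zero, φ.injective ?_⟩
    have := congrArg Units.val hc
    rw [Units.val_mul, hsc] at this
    rw [_root_.map_smul]
    exact this.symm
  · rintro ⟨c, hc, e⟩
    refine ⟨Units.mk0 c hc, Units.ext ?_⟩
    rw [Units.val_mul, hsc]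
    show c • φ (u : E) = φ (v : E)
    rw [e, _root_.map_smul]

namespace Pauli

variable {i : F} {R : Set (Module.End F V)} (h : Pauli i R)
include h

theorem exists_non_scalar (hdim : 2 ≤ finrank F V) : ∃ x ∈ R, ¬ IsScalarMap x := by
  classical
  by_contra hcon
  push Not at hcon
  have h1 : Submodule.span F R ≤ Submodule.span F ({1} : Set E) :=
    Submodule.span_le.2 fun x hx => by
      obtain ⟨c, rfl⟩ := hcon x hx
      exact Submodule.smul_mem _ _ (Submodule.subset_span rfl)
  rw [h.full] at h1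
  have h2 := (Submodule.finrank_mono h1).trans (finrank_span_le_card ({1} : Set E))
  rw [finrank_top, Module.finrank_linearMap] at h2
  simp at h2
  nlinarith

/-- The two-dimensional case. -/
theorem nor_or_sl_two [Finite F] {p : ℕ} [Fact p.Prime] [CharP F p] (hF : Nat.card F = p)
    (hV : finrank F V = 2) {Γ : Subgroup Eˣ} (hΓ : Ambient i R Γ) :
    (∀ g : E, InG Γ g → Nor R g) ∨ ∀ g : E, LinearMap.det g = 1 → InG Γ g := by
  classical
  haveI : Nontrivial V := Module.finrank_pos_iff.1 (by omega : 0 < finrank F V)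
  haveI : Fintype F := Fintype.ofFinite F
  haveI : Finite E := Module.finite_of_finite F
  have hn : (finrank F V : F) ≠ 0 := by rw [hV]; exact_mod_cast h.two_ne
  -- two anticommuting involutions
  obtain ⟨x₀, hx₀, hx₀s⟩ := h.exists_non_scalar hV.ge
  obtain ⟨a, ha, haa, has, -⟩ := h.exists_invol hx₀ hx₀s
  obtain ⟨b₀, hb₀, hab₀⟩ := h.exists_anti ha has
  obtain ⟨b, hb, hbb, hbs, c₀, hc₀, rfl⟩ := h.exists_invol hb₀
    (h.not_scalar_of_anti hb₀ ha (by rw [hab₀, neg_neg]))
  have hab : b * a = -(a * b) := smul_right_injective E hc₀ (by simpa [smul_neg] using hab₀)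
  -- a basis of eigenvectors of `a` exchanged by `b`
  have hrank := h.res_finrank ha haa has
  haveI : Nontrivial (plusSpace a) := Module.finrank_pos_iff.1 (by omega : 0 < finrank F (plusSpace a))
  obtain ⟨⟨v, hvmem⟩, hv⟩ := exists_ne (0 : plusSpace a)
  have hv0 : v ≠ 0 := fun e => hv (Subtype.ext e)
  have hav : a v = v := a_apply_of_mem haa h.two_ne ⟨v, hvmem⟩
  have habv : a (b v) = -(b v) := by
    have h5 := LinearMap.congr_fun hab v
    simp only [Module.End.mul_apply, LinearMap.neg_apply, hav] at h5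
    exact neg_eq_iff_eq_neg.1 h5.symm
  have hli : LinearIndependent F ![v, b v] := by
    rw [LinearIndependent.pair_iff]
    intro s t e
    have e' := congrArg a e
    rw [map_add, _root_.map_smul, _root_.map_smul, hav, habv, map_zero] at e'
    have h2s : ((2 : F) * s) • v = 0 := by linear_combination (norm := module) e + e'
    have hs : s = 0 := (mul_eq_zero.1 ((smul_eq_zero.1 h2s).resolve_right hv0)).resolve_left h.two_ne
    refine ⟨hs, ?_⟩
    rw [hs, zero_smul, zero_add] at e
    refine (smul_eq_zero.1 e).resolve_right fun e0 => hv0 ?_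
    have := LinearMap.congr_fun hbb v
    rw [Module.End.mul_apply, e0, map_zero, Module.End.one_apply] at this
    exact this.symm
  let B : Basis (Fin 2) F V := basisOfLinearIndependentOfCardEqFinrank hli (by rw [Fintype.card_fin, hV])
  have hB : ∀ k, B k = ![v, b v] k := fun k => by
    simp [B]
  have hBb : b (b v) = v := by
    have := LinearMap.congr_fun hbb v
    rwa [Module.End.mul_apply, Module.End.one_apply] at this
  set φ := LinearMap.toMatrixAlgEquiv B with hφ
  have hφa : φ a = !![1, 0; 0, -1] := by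
    ext r c
    rw [hφ, LinearMap.toMatrixAlgEquiv_apply]
    have h0 : a (B c) = if c = 0 then B c else -B c := by
      fin_cases c <;> simp [hB, hav, habv]
    rw [h0]
    fin_cases r <;> fin_cases c <;> simp
  have hφb : φ b = !![0, 1; 1, 0] := by
    ext r c
    rw [hφ, LinearMap.toMatrixAlgEquiv_apply]
    have h0 : b (B c) = if c = 0 then B 1 else B 0 := by
      fin_cases c <;> simp [hB, hBb]
    rw [h0]
    fin_cases r <;> fin_cases c <;> simp
  set π := toPGL2 B with hπ
  set G := Γ.map π with hG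
  obtain ⟨ua, hua, hua'⟩ := hΓ.mem a ha
  obtain ⟨ub, hub, hub'⟩ := hΓ.mem b hb
  obtain ⟨ta, hta, hta'⟩ := hΓ.quarter a ha haa
  obtain ⟨tb, htb, htb'⟩ := hΓ.quarter b hb hbb
  have h2i : (2 : F) * i ≠ 0 := mul_ne_zero h.two_ne h.i_ne
  have hsqa : π ta ^ 2 = π ua := by
    rw [← map_pow, eq_comm, toPGL2_eq_iff]
    exact ⟨2 * i, h2i, by rw [pow_two, Units.val_mul, hta', hua', quarter_mul_self h.hi haa]⟩
  have hsqb : π tb ^ 2 = π ub := by
    rw [← map_pow, eq_comm, toPGL2_eq_iff]
    exact ⟨2 * i, h2i, by rw [pow_two, Units.val_mul, htb', hub', quarter_mul_self h.hi hbb]⟩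
  have hsq1 : ∀ {u : Eˣ}, (u : E) * u = 1 → π u * π u = 1 := fun {u} e => by
    rw [← map_mul, show u * u = 1 from Units.ext (by rw [Units.val_mul, e, Units.val_one]), map_one]
  have hne1 : ∀ {u : Eˣ}, ¬ IsScalarMap (u : E) → π u ≠ 1 := fun {u} hu e => by
    rw [← map_one π, eq_comm, toPGL2_eq_iff] at e
    obtain ⟨c, -, e⟩ := e
    exact hu ⟨c, by rw [e, Units.val_one]⟩
  have ha1 : π ua ≠ 1 := hne1 (by rw [hua']; exact has)
  have hb1 : π ub ≠ 1 := hne1 (by rw [hub']; exact hbs)
  have hab1 : π ua ≠ π ub := by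
    intro e
    obtain ⟨c, hc, e'⟩ := (toPGL2_eq_iff B).1 e
    rw [hua', hub'] at e'
    have h6 : (2 : F) • (a * b) = 0 := by
      rw [two_smul]
      nth_rw 1 [show a * b = b * a by rw [e', mul_smul_comm, smul_mul_assoc]]
      rw [hab, neg_add_cancel]
    exact h.ne_zero (h.mul_mem _ ha _ hb) ((smul_eq_zero.1 h6).resolve_left h.two_ne)
  have h4a : π ta ^ 4 = 1 := by
    rw [show (4 : ℕ) = 2 * 2 from rfl, pow_mul, hsqa, pow_two, hsq1 (by rw [hua', haa])]
  have h4b : π tb ^ 4 = 1 := by
    rw [show (4 : ℕ) = 2 * 2 from rfl, pow_mul, hsqb, pow_two, hsq1 (by rw [hub', hbb])]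
  have mta : π ta ∈ G := Subgroup.mem_map_of_mem _ hta
  have mtb : π tb ∈ G := Subgroup.mem_map_of_mem _ htb
  -- everything of determinant one once the image is large
  have fullcase : (∀ z : SL(2, F), SpecialLinearGroup.toPGL z ∈ G) →
      ∀ g : E, LinearMap.det g = 1 → InG Γ g := by
    intro hall g hg
    have hdet : (φ g).det = 1 := by
      rw [← hg, ← LinearMap.det_toMatrix B]
      rfl
    obtain ⟨u, hu, hue⟩ := hall ⟨φ g, hdet⟩
    have hgu : IsUnit g := by
      rw [← isUnit_map_iff φ, Matrix.isUnit_iff_isUnit_det, hdet]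
      exact isUnit_one
    have h5 : π u = π hgu.unit := by
      rw [hue]
      exact congrArg ProjGenLinGroup.mk (Units.ext rfl)
    obtain ⟨c, hc, e⟩ := (toPGL2_eq_iff B).1 h5
    rw [IsUnit.unit_spec] at e
    rw [e]
    exact InG.smul hΓ ⟨u, hu, rfl⟩ hc
  have hiA : ∀ (A : Subfield F) (x : F), x ∈ A := by
    intro A x
    obtain ⟨k, rfl⟩ := natCast_surj hF x
    exact natCast_mem A k
  have large : ∀ (A : Subfield F) (k : ProjGenLinGroup (Fin 2) F),
      (∀ z : SL(2, A), ProjGenLinGroup.map A.subtype (SpecialLinearGroup.toPGL z) ∈ G.map (MulAut.conj k).toMonoidHom) →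
      ∀ z : SL(2, F), SpecialLinearGroup.toPGL z ∈ G := by
    intro A k hA z
    obtain ⟨K, rfl⟩ := ProjGenLinGroup.mk_surjective k
    let M : Matrix (Fin 2) (Fin 2) F := (K : Matrix (Fin 2) (Fin 2) F) * z.1 * ((K⁻¹ : GL (Fin 2) F) : Matrix _ _ F)
    have hM : M.det = 1 := by
      show (_ * _ * _ : Matrix _ _ F).det = 1
      rw [det_mul, det_mul, z.2, mul_one, ← det_mul, ← Units.val_mul, mul_inv_cancel, Units.val_one, det_one]
    let M' : Matrix (Fin 2) (Fin 2) A := Matrix.of fun r c => ⟨M r c, hiA A _⟩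
    have hM' : M'.det = 1 := A.subtype.injective (by rw [RingHom.map_det, map_one]; exact hM)
    obtain ⟨g, hg, e⟩ := hA ⟨M', hM'⟩
    have h5 : MulAut.conj (ProjGenLinGroup.mk K) g =
        MulAut.conj (ProjGenLinGroup.mk K) (SpecialLinearGroup.toPGL z) := by
      refine e.trans ?_
      show ProjGenLinGroup.map A.subtype (ProjGenLinGroup.mk _) = _
      rw [ProjGenLinGroup.map_mk, MulAut.conj_apply, ← map_inv]
      show _ = ProjGenLinGroup.mk K * ProjGenLinGroup.mk _ * ProjGenLinGroup.mk K⁻¹
      rw [← map_mul, ← map_mul]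
      congr 1
      apply Units.ext
      ext r c
      rfl
    rwa [← (MulAut.conj _).injective h5]
  have hιA : π ta = aff (Units.mk0 i h.i_ne) 0 := by
    have e : φ (ta : E) = 1 + i • !![(1 : F), 0; 0, -1] := by
      rw [hta', quarter, map_add, map_one, _root_.map_smul, hφa]
    rw [hπ, toPGL2, MonoidHom.comp_apply]
    refine mk_eq_aff (x := 1 - i) ?_ ?_ ?_ ?_ <;>
      show φ (ta : E) _ _ = _ <;> rw [e] <;> simp [Matrix.one_fin_two, sub_eq_add_neg]
    linear_combination h.hi
  rcases Dickson.kind p G with ⟨x, hfix⟩ | ⟨c, hc, -⟩ | ⟨c, -, -, hc2, ⟨f⟩⟩ | ⟨⟨f⟩⟩ | ⟨⟨f⟩⟩ | ⟨⟨f⟩⟩ |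
    ⟨A, k, hk⟩ | ⟨A, -, k, hk⟩
  · exfalso
    have hι1 : aff (Units.mk0 i h.i_ne) (0 : F) ≠ 1 := by
      rw [← hιA]
      intro e
      exact ha1 (by rw [← hsqa, e, one_pow])
    have hx := hfix _ mta
    rw [hιA] at hx
    have hbx := hfix _ (Subgroup.mem_map_of_mem π hub)
    rw [hπ, toPGL2, MonoidHom.comp_apply, mk_smul] at hbx
    rcases eq_or_eq_of_fix hι1 (infty_ne_coe 0) (aff_smul_infty _ _) (by rw [aff_smul_coe]; simp) hx with rfl | rfl
    · rw [smul_infty_eq_self_iff] at hbx
      have h5 : φ (ub : E) 1 0 = 0 := hbx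
      rw [hub', hφb] at h5
      simp at h5
    · rw [smul_some_eq_ite, if_pos] at hbx
      · exact infty_ne_coe _ hbx
      · show φ (ub : E) 1 0 * 0 + φ (ub : E) 1 1 = 0
        rw [hub', hφb]
        simp
  · exfalso
    rw [hc] at mta mtb
    obtain ⟨l, hl⟩ := Subgroup.mem_zpowers_iff.1 mta
    obtain ⟨m, hm⟩ := Subgroup.mem_zpowers_iff.1 mtb
    have hcm : π (ta * tb) = π (tb * ta) := by
      rw [map_mul, map_mul, ← hl, ← hm]; exact ((Commute.refl c).zpow_zpow l m).eq
    obtain ⟨d, -, e⟩ := (toPGL2_eq_iff B).1 hcm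
    rw [Units.val_mul, Units.val_mul, hta', htb'] at e
    have hexp : quarter i a * quarter i b = 1 + i • a + i • b - a * b ∧
        quarter i b * quarter i a = 1 + i • a + i • b + a * b := by
      constructor <;>
        simp only [quarter, mul_add, add_mul, mul_one, one_mul, smul_mul_smul_comm, h.hi, neg_smul, one_smul, hab] <;>
        abel
    rw [hexp.1, hexp.2] at e
    have htr := congrArg (LinearMap.trace F V) e
    have habt : LinearMap.trace F V (a * b) = 0 := h.trace_eq_zero (h.mul_mem _ ha _ hb)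
      (fun hs => by
        obtain ⟨q, hq⟩ := h.mul_eq_smul ha hs
        refine h.not_scalar_of_anti (h.mul_mem _ ha _ hb) ha ?_ hs
        rw [mul_assoc, hab, mul_neg, neg_neg])
    simp only [map_add, map_sub, _root_.map_smul, LinearMap.trace_one, h.trace_eq_zero ha has, h.trace_eq_zero hb hbs, habt,
      smul_eq_mul, mul_zero, add_zero, sub_zero] at htr
    have hd : d = 1 := mul_right_cancel₀ hn (by rw [one_mul]; exact htr.symm)
    rw [hd, one_smul] at e
    have h6 : (2 : F) • (a * b) = 0 := by linear_combination (norm := module) e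
    exact h.ne_zero (h.mul_mem _ ha _ hb) ((smul_eq_zero.1 h6).resolve_left h.two_ne)
  · exfalso
    haveI : NeZero (orderOf c) := ⟨by omega⟩
    refine hab1 ?_
    have key := dihedral_sq (x := f ⟨_, mta⟩) (y := f ⟨_, mtb⟩)
      (by rw [← map_pow, map_eq_one_iff f f.injective]; exact Subtype.ext h4a)
      (by rw [← map_pow, map_eq_one_iff f f.injective]; exact Subtype.ext h4b)
      (fun e => ha1 (by
        rw [← map_pow, map_eq_one_iff f f.injective] at e
        rw [← hsqa]; exact congrArg Subtype.val e))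
      (fun e => hb1 (by
        rw [← map_pow, map_eq_one_iff f f.injective] at e
        rw [← hsqb]; exact congrArg Subtype.val e))
    rw [← map_pow, ← map_pow] at key
    rw [← hsqa, ← hsqb]
    exact congrArg Subtype.val (f.injective key)
  · exfalso
    refine ha1 ?_
    have := alt_four_order (f ⟨_, mta⟩) (by rw [← map_pow, map_eq_one_iff f f.injective]; exact Subtype.ext h4a)
    rw [← map_pow, map_eq_one_iff f f.injective] at this
    rw [← hsqa]; exact congrArg Subtype.val this
  · left
    intro g hg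
    obtain ⟨g', -, h1, h2⟩ := hg.exists_inv
    have hinv : ∀ x ∈ R, x * x = 1 → ¬ IsScalarMap x → g * x * g' ∈ R := by
      intro x hx hxx hxs
      have hww : g * x * g' * (g * x * g') = 1 := by rw [conj_mul h2, hxx, mul_one, h1]
      have hws : ¬ IsScalarMap (g * x * g') := fun ⟨c, hc⟩ => hxs ⟨c, by
        calc x = g' * (g * x * g') * g := by rw [← mul_assoc, ← mul_assoc, h2, one_mul, mul_assoc, h2, mul_one]
          _ = c • 1 := by rw [hc, mul_smul_comm, smul_mul_assoc, mul_one, h2]⟩
      obtain ⟨w, hw, hw'⟩ := InG.conj hg (hΓ.mem x hx) h1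
      obtain ⟨tx, htx, htx'⟩ := InG.conj hg (hΓ.quarter x hx hxx) h1
      rw [quarter_conj h1] at htx'
      have hsqx : π tx ^ 2 = π w := by
        rw [← map_pow, eq_comm, toPGL2_eq_iff]
        exact ⟨2 * i, h2i, by rw [pow_two, Units.val_mul, htx', hw', quarter_mul_self h.hi hww]⟩
      have h4x : π tx ^ 4 = 1 := by
        rw [show (4 : ℕ) = 2 * 2 from rfl, pow_mul, hsqx, pow_two, hsq1 (by rw [hw', hww])]
      have mtx : π tx ∈ G := Subgroup.mem_map_of_mem _ htx
      have key := perm_four_sq (f ⟨_, mta⟩) (f ⟨_, mtb⟩) (f ⟨_, mtx⟩)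
        (by rw [← map_pow, map_eq_one_iff f f.injective]; exact Subtype.ext h4a)
        (by rw [← map_pow, map_eq_one_iff f f.injective]; exact Subtype.ext h4b)
        (by rw [← map_pow, map_eq_one_iff f f.injective]; exact Subtype.ext h4x)
        (fun e => ha1 (by
          rw [← map_pow, map_eq_one_iff f f.injective] at e
          rw [← hsqa]; exact congrArg Subtype.val e))
        (fun e => hb1 (by
          rw [← map_pow, map_eq_one_iff f f.injective] at e
          rw [← hsqb]; exact congrArg Subtype.val e))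
        (fun e => hne1 (u := w) (by rw [hw']; exact hws) (by
          rw [← map_pow, map_eq_one_iff f f.injective] at e
          rw [← hsqx]; exact congrArg Subtype.val e))
        (fun e => hab1 (by
          rw [← map_pow, ← map_pow] at e
          rw [← hsqa, ← hsqb]; exact congrArg Subtype.val (f.injective e)))
      simp only [← map_pow, ← map_mul, f.injective.eq_iff, Subtype.ext_iff, Subgroup.coe_mul, SubmonoidClass.coe_pow]
        at key
      simp only [map_pow, hsqa, hsqb, hsqx, map_mul] at key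
      have fin : ∀ {r : E} {ur : Eˣ}, r ∈ R → (ur : E) = r → π w = π ur → g * x * g' ∈ R := by
        intro r ur hr hr' e
        obtain ⟨c, -, e'⟩ := (toPGL2_eq_iff B).1 e.symm
        rw [hw', hr'] at e'
        rw [e'] at hww ⊢
        exact h.mem_of_smul hr hww
      rcases key with e | e | e
      · exact fin ha hua' e
      · exact fin hb hub' e
      · exact fin (ur := ua * ub) (h.mul_mem _ ha _ hb) (by rw [Units.val_mul, hua', hub']) (by rw [map_mul]; exact e)
    intro x hx
    refine ⟨g * x * g', ?_, by rw [mul_assoc (g * x) g' g, h2, mul_one]⟩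
    by_cases hxs : IsScalarMap x
    · obtain ⟨c, rfl⟩ := hxs
      rwa [conj_smul, mul_one, h1]
    obtain ⟨x', hx', hxx', hxs', c, hc, rfl⟩ := h.exists_invol hx hxs
    rw [conj_smul]
    refine h.root_smul_mem (hinv x' hx' hxx' hxs') ?_
    rcases h.sq _ hx with e | e <;> rw [smul_mul_smul_comm, hxx'] at e
    · refine .inl ?_
      have : (c * c - 1) • (1 : E) = 0 := by rw [sub_smul, e, one_smul, sub_self]
      exact sub_eq_zero.1 ((smul_eq_zero.1 this).resolve_right one_ne_zero)
    · refine .inr ?_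
      have : (c * c + 1) • (1 : E) = 0 := by rw [add_smul, e, one_smul, neg_add_cancel]
      exact eq_neg_of_add_eq_zero_left ((smul_eq_zero.1 this).resolve_right one_ne_zero)
  · exfalso
    refine ha1 ?_
    have := alt_five_order (f ⟨_, mta⟩) (by rw [← map_pow, map_eq_one_iff f f.injective]; exact Subtype.ext h4a)
    rw [← map_pow, map_eq_one_iff f f.injective] at this
    rw [← hsqa]; exact congrArg Subtype.val this
  · refine .inr (fullcase (large A k fun z => ?_))
    rw [hk]; exact ⟨_, rfl⟩
  · refine .inr (fullcase (large A k fun z => ?_))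
    rw [hk]; exact ⟨z, rfl⟩

end Pauli

end CfsgLib.Classical.PauliMax
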