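import Cfsg.Agent.Lib.Classical.PauliMax.Lift

/-!
# A large compression gives all maps of determinant one
-/

set_option autoImplicit false
set_option linter.unusedSectionVars false
set_option maxHeartbeats 400000

namespace CfsgLib.Classical.PauliMax

open Module Matrix

variable {F : Type*} [Field F] {V : Type*} [AddCommGroup V] [Module F V] [FiniteDimensional F V]

local notation "E" => Module.End F V

/-- All square-zero perturbations of the identity supported on the fixed space of `a` lie in `Γ`. -/
def FullOn (Γ : Subgroup (Module.End F V)ˣ) (a : Module.End F V) : Prop :=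
  ∀ N : Module.End F V, N * N = 0 → N * a = N → a * N = N → InG Γ (1 + N)

theorem det_one_add {W : Type*} [AddCommGroup W] [Module F W] [FiniteDimensional F W] {p : ℕ} [Fact p.Prime]
    [CharP F p] {N : Module.End F W} (hN : N * N = 0) : LinearMap.det (1 + N) = 1 := by
  have hk : ∀ k : ℕ, (1 + N) ^ k = 1 + (k : F) • N := by
    intro k
    induction k with
    | zero => simp
    | succ k ih =>
      rw [pow_succ, ih, mul_add, mul_one, add_mul, one_mul, smul_mul_assoc, hN, smul_zero, add_zero, Nat.cast_succ,
        add_smul, one_smul, add_assoc]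
  have := congrArg LinearMap.det (hk p)
  rw [CharP.cast_eq_zero, zero_smul, add_zero, map_pow, map_one] at this
  have h2 : (LinearMap.det (1 + N) - 1) ^ p = 0 := by rw [sub_pow_char, one_pow, this, sub_self]
  exact sub_eq_zero.1 (eq_zero_of_pow_eq_zero h2)

theorem FullOn.transport {Γ : Subgroup Eˣ} {a g g' : E} (hF : FullOn Γ a) (hg : InG Γ g) (h1 : g * g' = 1)
    (h2 : g' * g = 1) : FullOn Γ (g * a * g') := by
  intro N hNN hNa haN
  have e : 1 + N = g * (1 + g' * N * g) * g' := by
    rw [mul_add, add_mul, mul_one, h1]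
    simp only [← mul_assoc, h1, one_mul]
    rw [mul_assoc N g g', h1, mul_one]
  rw [e]
  refine InG.conj hg (hF _ ?_ ?_ ?_) h1
  · rw [conj_mul h1, hNN, mul_zero, zero_mul]
  · nth_rw 1 [show a = g' * (g * a * g') * g by
      simp only [← mul_assoc, h2, one_mul]; rw [mul_assoc a g' g, h2, mul_one]]
    rw [conj_mul h1, hNa]
  · nth_rw 1 [show a = g' * (g * a * g') * g by
      simp only [← mul_assoc, h2, one_mul]; rw [mul_assoc a g' g, h2, mul_one]]
    rw [conj_mul h1, haN]

theorem diagonal_single_diagonal {n : ℕ} (σ τ : Fin n → F) (j k : Fin n) (u : F) :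
    Matrix.diagonal σ * Matrix.single j k u * Matrix.diagonal τ = Matrix.single j k (σ j * u * τ k) := by
  ext r c
  rw [Matrix.mul_diagonal, Matrix.diagonal_mul]
  by_cases e : j = r ∧ k = c
  · obtain ⟨rfl, rfl⟩ := e; simp
  · simp [Matrix.single_apply, e]

theorem commutator_formula {M : Type*} [Ring M] {A B : M} (hA : A * A = 0) (hB : B * B = 0) (hBA : B * A = 0) :
    (1 + A) * (1 + B) * (1 + -A) * (1 + -B) = 1 + A * B := by
  have hA' : ∀ x, A * (A * x) = 0 := fun x => by rw [← mul_assoc, hA, zero_mul]
  have hB' : ∀ x, B * (B * x) = 0 := fun x => by rw [← mul_assoc, hB, zero_mul]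
  have hBA' : ∀ x, B * (A * x) = 0 := fun x => by rw [← mul_assoc, hBA, zero_mul]
  simp only [mul_add, add_mul, mul_neg, neg_mul, mul_one, one_mul, mul_assoc, hA, hB, hBA, hA', hB', hBA',
    mul_zero, zero_mul, neg_zero]
  abel

theorem single_mul_diagonal_eq {n : ℕ} (τ : Fin n → F) (j k : Fin n) (u : F) :
    Matrix.single j k u * Matrix.diagonal τ = Matrix.single j k (u * τ k) := by
  have := diagonal_single_diagonal (1 : Fin n → F) τ j k u
  simpa using this

theorem diagonal_mul_single_eq {n : ℕ} (σ : Fin n → F) (j k : Fin n) (u : F) :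
    Matrix.diagonal σ * Matrix.single j k u = Matrix.single j k (σ j * u) := by
  have := diagonal_single_diagonal σ (1 : Fin n → F) j k u
  simpa using this

namespace Pauli

variable {i : F} {R : Set (Module.End F V)} (h : Pauli i R)
include h

/-- The product of two quarter turns is a lifted map. -/
theorem inG_lift_quarter {Γ : Subgroup Eˣ} (hΓ : Ambient i R Γ) {a d : E} (ha : a ∈ R) (haa : a * a = 1)
    (hd : d ∈ R) (hdd : d * d = 1) (hda : d * a = a * d) : InG Γ (lift a (i • res a d)) := by
  have had : a * d * (a * d) = 1 := by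
    rw [mul_assoc, ← mul_assoc d a d, hda, mul_assoc a d d, hdd, mul_one, haa]
  have hmem := InG.smul hΓ ((hΓ.quarter d hd hdd).mul (hΓ.quarter (a * d) (h.mul_mem _ ha _ hd) had))
    (inv_ne_zero h.two_ne)
  have hm : proj (-a) = (2 : F)⁻¹ • (1 + -a) := rfl
  have hp : proj a = (2 : F)⁻¹ • (1 + a) := rfl
  have hdp : d * proj a = (2 : F)⁻¹ • (d + a * d) := by
    rw [hp, mul_smul_comm, mul_add, mul_one, hda]
  have e : quarter i d * quarter i (a * d) = 1 + i • d + i • (a * d) - a := by
    simp only [quarter, mul_add, add_mul, mul_one, one_mul, smul_mul_smul_comm, h.hi, neg_smul, one_smul]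
    rw [← mul_assoc d a d, hda, mul_assoc a d d, hdd, mul_one]
    abel
  suffices lift a (i • res a d) = (2 : F)⁻¹ • (quarter i d * quarter i (a * d)) by rwa [this]
  rw [e]
  refine LinearMap.ext fun v => ?_
  calc lift a (i • res a d) v = i • ((res a d ((proj a).rangeRestrict v) : plusSpace a) : V) + proj (-a) v := rfl
    _ = i • ((d * proj a) v) + proj (-a) v := by
      rw [res_apply, apply_comm haa h.two_ne hda]; rfl
    _ = ((2 : F)⁻¹ • (1 + i • d + i • (a * d) - a)) v := by
      rw [hdp, hm]
      simp only [LinearMap.smul_apply, LinearMap.add_apply, LinearMap.sub_apply, LinearMap.neg_apply,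
        Module.End.one_apply, smul_add, smul_sub, smul_neg, smul_smul, mul_comm i (2 : F)⁻¹]
      abel

/-- A compression with all maps of determinant one gives full support on the fixed space. -/
theorem fullOn_of_res [Finite F] [Nontrivial V] (hdim : 3 ≤ finrank F V) {p : ℕ} [Fact p.Prime] [CharP F p]
    {Γ : Subgroup Eˣ} (hΓ : Ambient i R Γ) {a : E} (ha : a ∈ R) (haa : a * a = 1) (has : ¬ IsScalarMap a)
    (hsl : ∀ x : Module.End F (plusSpace a), LinearMap.det x = 1 →
      ∃ g : E, InG Γ g ∧ g * a = a * g ∧ res a g = x) : FullOn Γ a := by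
  classical
  have h2 := h.two_ne
  obtain ⟨d, hd, hdd, hda, -, hds, hdne⟩ := h.exists_comm_invol hdim ha h.one_mem a
  set D := res a d with hD
  have hDD : D * D = 1 := by rw [hD, ← res_mul haa h2 hda, hdd, res_one haa h2]
  have hDs : ¬ IsScalarMap D := h.res_not_scalar ha haa has hd hda hds hdne
  obtain ⟨n, B, s, -, hs, -⟩ := exists_sign_basis hDD h2 hDD rfl
  set tm := LinearMap.toMatrixAlgEquiv B with htm
  have htD : tm D = Matrix.diagonal s := matrix_eq_diagonal B fun k => (hs k).2
  let P : Matrix (Fin n) (Fin n) F → Prop := fun M => InG Γ (lift a (tm.symm M))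
  have Pmul : ∀ M N, P M → P N → P (M * N) := fun M N hM hN => by
    have := InG.mul hM hN
    rw [lift_mul haa h2, ← map_mul] at this
    exact this
  have P1 : P 1 := by
    show InG Γ (lift a (tm.symm 1))
    rw [map_one, lift_one haa h2]
    exact ⟨1, Γ.one_mem, rfl⟩
  have hzz : ∀ c : F, c = i ∨ c = -i → P (c • Matrix.diagonal s) := by
    rintro c (rfl | rfl) <;> show InG Γ (lift a (tm.symm (_ • Matrix.diagonal s))) <;>
      rw [map_smul, ← htD, AlgEquiv.symm_apply_apply]
    · exact h.inG_lift_quarter hΓ ha haa hd hdd hda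
    · have := h.inG_lift_quarter hΓ ha haa (h.neg_mem hd) (by rw [neg_mul_neg, hdd]) (by rw [neg_mul, hda, mul_neg])
      rwa [map_neg, smul_neg, ← neg_smul] at this
  -- elementary maps joining different signs
  have hdiff : ∀ j k, j ≠ k → s j ≠ s k → ∀ t : F, P (Matrix.transvection j k t) := by
    intro j k hjk hst t
    have hss : s j * s k = -1 := by
      rcases (hs j).1 with e | e <;> rcases (hs k).1 with e' | e' <;> simp_all
    set u := (2 : F)⁻¹ * t with hu
    obtain ⟨g, hg, hga, hgx⟩ := hsl (tm.symm (Matrix.transvection j k u)) (by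
      rw [← LinearMap.det_toMatrix B]
      show (tm (tm.symm _)).det = 1
      rw [AlgEquiv.apply_symm_apply, Matrix.det_transvection_of_ne _ _ hjk])
    obtain ⟨g', hg', h1, h1'⟩ := hg.exists_inv
    have hg'a := comm_inv h1 h1' hga
    have hgx' : res a g' = tm.symm (Matrix.transvection j k (-u)) := by
      have e1 : res a g' * res a g = 1 := by rw [← res_mul haa h2 hga, h1', res_one haa h2]
      have e2 : res a g * tm.symm (Matrix.transvection j k (-u)) = 1 := by
        rw [hgx, ← map_mul, Matrix.transvection_mul_transvection_same (i := j) (j := k) hjk, add_neg_cancel,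
          Matrix.transvection_zero, map_one]
      exact left_inv_eq_right_inv e1 e2
    have hP : P (Matrix.transvection j k u * (i • Matrix.diagonal s) * Matrix.transvection j k (-u)) := by
      show InG Γ (lift a (tm.symm (_ * _ * _)))
      rw [map_mul, map_mul, ← hgx, ← hgx', ← lift_conj haa h2 hga h1 hg'a]
      exact InG.conj hg (hzz i (.inl rfl)) h1
    have := Pmul _ _ hP (hzz (-i) (.inr rfl))
    have hdiag : Matrix.diagonal s * Matrix.diagonal s = 1 := by
      rw [Matrix.diagonal_mul_diagonal, ← Matrix.diagonal_one]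
      congr 1; funext l
      rcases (hs l).1 with e | e <;> simp [e]
    have hconj : Matrix.diagonal s * Matrix.transvection j k (-u) * Matrix.diagonal s = Matrix.transvection j k u := by
      rw [Matrix.transvection, Matrix.transvection, mul_add, add_mul, mul_one, hdiag]
      congr 1
      rw [diagonal_single_diagonal, mul_right_comm, hss, neg_one_mul, neg_neg]
    simp only [mul_smul_comm, smul_mul_assoc, smul_smul, neg_mul, h.hi, neg_neg, one_smul] at this
    rw [show t = u + u by rw [hu]; field_simp; ring,
      ← Matrix.transvection_mul_transvection_same (i := j) (j := k) hjk]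
    nth_rw 2 [← hconj]
    simpa only [mul_assoc] using this
  -- all elementary maps
  have hall : ∀ j k, j ≠ k → ∀ t : F, P (Matrix.transvection j k t) := by
    intro j k hjk t
    by_cases hst : s j = s k
    swap
    · exact hdiff j k hjk hst t
    obtain ⟨l, hl⟩ : ∃ l, s l ≠ s j := by
      by_contra hcon
      push Not at hcon
      refine hDs ⟨s j, B.ext fun m => ?_⟩
      rw [(hs m).2, hcon m]
      rfl
    have hjl : j ≠ l := fun e => hl (by rw [e])
    have hlk : l ≠ k := fun e => hl (by rw [e, hst])
    have e : Matrix.transvection j k t = Matrix.transvection j l t * Matrix.transvection l k 1 *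
        Matrix.transvection j l (-t) * Matrix.transvection l k (-1) := by
      simp only [Matrix.transvection, ← Matrix.single_neg]
      rw [commutator_formula (A := Matrix.single j l t) (B := Matrix.single l k (1 : F))
        (by rw [Matrix.single_mul_single_of_ne (h := hjl.symm)])
        (by rw [Matrix.single_mul_single_of_ne (h := hlk.symm)])
        (by rw [Matrix.single_mul_single_of_ne (h := hjk.symm)]),
        Matrix.single_mul_single_same, mul_one]
    rw [e]
    exact Pmul _ _ (Pmul _ _ (Pmul _ _ (hdiff j l hjl hl.symm t) (hdiff l k hlk (hst ▸ hl) 1))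
      (hdiff j l hjl hl.symm (-t))) (hdiff l k hlk (hst ▸ hl) (-1))
  intro N hNN hNa haN
  have hm : N * proj (-a) = 0 := by
    rw [proj, mul_smul_comm, mul_add, mul_one, mul_neg, hNa, add_neg_cancel, smul_zero]
  have hfix : (1 + N) * proj (-a) = proj (-a) := by rw [add_mul, one_mul, hm, add_zero]
  have hcom : (1 + N) * a = a * (1 + N) := by rw [add_mul, mul_add, one_mul, mul_one, hNa, haN]
  rw [← lift_res haa h2 hcom hfix]
  refine of_elementary B (fun x => InG Γ (lift a x)) ?_ (fun f g hf hg => by rw [← lift_mul haa h2]; exact hf.mul hg)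
    hall ?_
  · rw [lift_one haa h2]; exact ⟨1, Γ.one_mem, rfl⟩
  · rw [map_add, res_one haa h2]
    refine det_one_add (p := p) ?_
    rw [← res_mul haa h2 (by rw [hNa, haN]), hNN, map_zero]

/-- Full support on one fixed space gives it on all of them. -/
theorem fullOn_all [Nontrivial V] {Γ : Subgroup Eˣ} (hΓ : Ambient i R Γ) {a c : E} (ha : a ∈ R) (haa : a * a = 1)
    (has : ¬ IsScalarMap a) (hc : c ∈ R) (hcc : c * c = 1) (hcs : ¬ IsScalarMap c) (hF : FullOn Γ a) :
    FullOn Γ c := by
  have step : ∀ x y : E, x ∈ R → y ∈ R → x * x = 1 → y * y = 1 → y * x = -(x * y) → FullOn Γ x → FullOn Γ y := by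
    intro x y hx hy hxx hyy hxy hFx
    set z := i • (x * y) with hz
    have hzR : z ∈ R := h.i_smul_mem (h.mul_mem _ hx _ hy)
    have hzz : z * z = 1 := by
      rw [hz, smul_mul_smul_comm, h.hi, mul_assoc, ← mul_assoc y x y, hxy, neg_mul, mul_assoc x y y, hyy, mul_one,
        mul_neg, hxx, neg_smul, one_smul, neg_neg]
    have hxz : x * z = -(z * x) := by
      rw [hz, mul_smul_comm, smul_mul_assoc, mul_assoc x y x, hxy, mul_neg, smul_neg, neg_neg]
    have hq := quarter_mul_anti h.hi hzz hxz
    have hxzy : (-i) • (x * z) = y := by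
      rw [hz, mul_smul_comm, ← mul_assoc, hxx, one_mul, smul_smul, neg_mul, h.hi, neg_neg, one_smul]
    rw [hxzy] at hq
    obtain ⟨t', -, h1, h1'⟩ := (hΓ.quarter z hzR hzz).exists_inv
    have e : y = quarter i z * x * t' := by rw [hq, mul_assoc, h1, mul_one]
    rw [e]
    exact hFx.transport (hΓ.quarter z hzR hzz) h1 h1'
  obtain ⟨y, hy, hya, hyc⟩ := h.exists_anti_both ha has hc hcs
  obtain ⟨y', hy', hyy', -, k, hk, rfl⟩ := h.exists_invol hy
    (h.not_scalar_of_anti hy ha (by rw [hya, neg_neg]))
  refine step y' c hy' hc hyy' hcc ?_ (step a y' ha hy' haa hyy' (smul_right_injective E hk ?_) hF)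
  · refine neg_eq_iff_eq_neg.1 (smul_right_injective E hk ?_)
    simpa [smul_neg] using hyc.symm
  · simpa [smul_neg] using hya

/-- A compression with all maps of determinant one gives all maps of determinant one. -/
theorem sl_of_res [Finite F] (hdim : 3 ≤ finrank F V) {p : ℕ} [Fact p.Prime] [CharP F p]
    {Γ : Subgroup Eˣ} (hΓ : Ambient i R Γ) {a : E} (ha : a ∈ R) (haa : a * a = 1) (has : ¬ IsScalarMap a)
    (hsl : ∀ x : Module.End F (plusSpace a), LinearMap.det x = 1 →
      ∃ g : E, InG Γ g ∧ g * a = a * g ∧ res a g = x) :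
    ∀ f : E, LinearMap.det f = 1 → InG Γ f := by
  classical
  haveI : Nontrivial V := Module.finrank_pos_iff.1 (by omega : 0 < finrank F V)
  have h2 := h.two_ne
  have hF := h.fullOn_of_res (p := p) hdim hΓ ha haa has hsl
  obtain ⟨d, hd, hdd, hda, -, hds, hdne⟩ := h.exists_comm_invol hdim ha h.one_mem a
  obtain ⟨n, B, s, t, hs, ht⟩ := exists_sign_basis haa h2 hdd hda
  set tm := LinearMap.toMatrixAlgEquiv B with htm
  have hta : tm a = Matrix.diagonal s := matrix_eq_diagonal B fun k => (hs k).2
  have htd : tm d = Matrix.diagonal t := matrix_eq_diagonal B fun k => (ht k).2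
  have had : a * d * (a * d) = 1 := by
    rw [mul_assoc, ← mul_assoc d a d, hda, mul_assoc a d d, hdd, mul_one, haa]
  have hads : ¬ IsScalarMap (a * d) := fun hc => by
    obtain ⟨c, hc⟩ := h.mul_eq_smul ha hc
    exact hdne c hc
  have use : ∀ (c : E) (σ : Fin n → F) (e : F), c ∈ R → c * c = 1 → ¬ IsScalarMap c → (e = 1 ∨ e = -1) →
      tm c = Matrix.diagonal σ → ∀ j k, j ≠ k → σ j = e → σ k = e → ∀ u : F,
      InG Γ (tm.symm (Matrix.transvection j k u)) := by
    intro c σ e hc hcc hcs he htc j k hjk hj hk u
    have hee : e * e = 1 := by rcases he with rfl | rfl <;> ring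
    have hec : e • c ∈ R := h.sign_smul_mem hc he
    have hecs : ¬ IsScalarMap (e • c) := fun hh => hcs (by
      have := hh.smul e
      rwa [smul_smul, hee, one_smul] at this)
    rw [Matrix.transvection, map_add, map_one]
    refine h.fullOn_all hΓ ha haa has hec (by rw [smul_mul_smul_comm, hee, hcc, one_smul]) hecs hF _ ?_ ?_ ?_
    · rw [← map_mul, Matrix.single_mul_single_of_ne (h := hjk.symm), map_zero]
    · apply tm.injective
      rw [map_mul, map_smul, htc, AlgEquiv.apply_symm_apply, mul_smul_comm, single_mul_diagonal_eq, hk,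
        Matrix.smul_single, smul_eq_mul, mul_left_comm, hee, mul_one]
    · apply tm.injective
      rw [map_mul, map_smul, htc, AlgEquiv.apply_symm_apply, smul_mul_assoc, diagonal_mul_single_eq, hj,
        Matrix.smul_single, smul_eq_mul, ← mul_assoc, hee, one_mul]
  intro f hf
  refine of_elementary B (InG Γ) ⟨1, Γ.one_mem, rfl⟩ (fun f g => InG.mul) (fun j k hjk u => ?_) hf
  by_cases e1 : s j = s k
  · exact use a s _ ha haa has (hs j).1 hta j k hjk rfl e1.symm u
  by_cases e2 : t j = t k
  · exact use d t _ hd hdd hds (ht j).1 htd j k hjk rfl e2.symm u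
  refine use (a * d) (fun l => s l * t l) (s j * t j) (h.mul_mem _ ha _ hd) had hads ?_
    (by rw [map_mul, hta, htd, Matrix.diagonal_mul_diagonal]) j k hjk rfl ?_ u
  · rcases (hs j).1 with p1 | p1 <;> rcases (ht j).1 with p2 | p2 <;> simp [p1, p2]
  · rcases (hs j).1 with p1 | p1 <;> rcases (ht j).1 with p2 | p2 <;> rcases (hs k).1 with p3 | p3 <;>
      rcases (ht k).1 with p4 | p4 <;> simp_all

end Pauli

end CfsgLib.Classical.PauliMax
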