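import Cfsg.Agent.Lib.Classical.PauliMax.Final
import Cfsg.Agent.Lib.Classical.PauliMax.Base
import Cfsg.Agent.Lib.Classical.PauliMax.SLStep

/-!
# A group containing a Pauli system and its quarter turns normalises it or is large
-/

set_option autoImplicit false
set_option linter.unusedSectionVars false
set_option maxHeartbeats 400000

namespace CfsgLib.Classical.PauliMax

open Module

universe uF uV

variable {F : Type uF} [Field F] {V : Type uV} [AddCommGroup V] [Module F V] [FiniteDimensional F V]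

local notation "E" => Module.End F V

theorem inG_resGroup_iff {a : E} (haa : a * a = 1) (h2 : (2 : F) ≠ 0) {Γ : Subgroup Eˣ}
    {f : Module.End F (plusSpace a)} :
    InG (resGroup haa h2 Γ) f ↔ ∃ g : E, InG Γ g ∧ g * a = a * g ∧ res a g = f := by
  constructor
  · rintro ⟨u, ⟨g, hg, hga, hgu⟩, rfl⟩
    exact ⟨(g : E), ⟨g, hg, rfl⟩, hga, hgu⟩
  · rintro ⟨g, hg, hga, rfl⟩
    obtain ⟨g', -, h1, h1'⟩ := hg.exists_inv
    obtain ⟨u, hu, rfl⟩ := hg
    exact ⟨⟨res a (u : E), res a g',
      by rw [← res_mul haa h2 (comm_inv h1 h1' hga), h1, res_one haa h2],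
      by rw [← res_mul haa h2 hga, h1', res_one haa h2]⟩, ⟨u, hu, hga, rfl⟩, rfl⟩

namespace Pauli

variable {i : F} {R : Set (Module.End F V)} (h : Pauli i R)
include h

theorem ambient_res [Nontrivial V] {Γ : Subgroup Eˣ} (hΓ : Ambient i R Γ) {a : E} (ha : a ∈ R) (haa : a * a = 1)
    (has : ¬ IsScalarMap a) : Ambient i (resSet a R) (resGroup haa h.two_ne Γ) := by
  haveI : Nontrivial (plusSpace a) := by
    have h0 := h.res_finrank ha haa has
    have h3 : 0 < finrank F V := Module.finrank_pos
    exact Module.finrank_pos_iff.1 (by omega : 0 < finrank F (plusSpace a))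
  refine ⟨fun c hc => ?_, ?_, ?_⟩
  · exact (inG_resGroup_iff haa h.two_ne).2 ⟨c • 1, hΓ.scal c hc, by simp, res_smul_one haa h.two_ne c⟩
  · rintro _ ⟨x, ⟨hx, hxa⟩, rfl⟩
    exact (inG_resGroup_iff haa h.two_ne).2 ⟨x, hΓ.mem x hx, hxa, rfl⟩
  · rintro _ ⟨x, ⟨hx, hxa⟩, rfl⟩ hxx
    have hx1 : x * x = 1 := by
      refine (h.sq x hx).resolve_right fun e => (h.pauli_res ha haa).neg_one_ne ?_
      rwa [← res_mul haa h.two_ne hxa, e, map_neg, res_one haa h.two_ne] at hxx
    exact (inG_resGroup_iff haa h.two_ne).2 ⟨PauliMax.quarter i x, hΓ.quarter x hx hx1,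
      (quarter_comm (i := i) (a := x) (f := a) hxa.symm).symm, res_quarter haa h.two_ne⟩

end Pauli

/-- A group containing the scalars, a Pauli system and its quarter turns normalises the system, or contains all
maps of determinant one. -/
theorem Pauli.nor_or_sl [Finite F] {p : ℕ} [Fact p.Prime] [CharP F p] (hF : Nat.card F = p) (hp2 : p ≠ 2)
    (hp3 : p ≠ 3) {i : F} : ∀ (m : ℕ) {V : Type uV} [AddCommGroup V] [Module F V] [FiniteDimensional F V]
    {R : Set (Module.End F V)}, Pauli i R → finrank F V = 2 ^ (m + 1) →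
    ∀ {Γ : Subgroup (Module.End F V)ˣ}, Ambient i R Γ →
      (∀ g : Module.End F V, InG Γ g → Nor R g) ∨
        ∀ g : Module.End F V, LinearMap.det g = 1 → InG Γ g := by
  intro m
  induction m with
  | zero =>
    intro V _ _ _ R h hV Γ hΓ
    exact h.nor_or_sl_two hF (by simpa using hV) hΓ
  | succ m ih =>
    intro V _ _ _ R h hV Γ hΓ
    have hdim : 4 ≤ finrank F V := by
      rw [hV, show (4 : ℕ) = 2 ^ 2 from rfl]
      exact Nat.pow_le_pow_right (by norm_num) (by omega)
    haveI : Nontrivial V := Module.finrank_pos_iff.1 (by omega : 0 < finrank F V)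
    by_cases hbig : ∃ a ∈ R, ∃ haa : a * a = 1, ¬ IsScalarMap a ∧
        ∀ x : Module.End F (plusSpace a), LinearMap.det x = 1 → InG (resGroup haa h.two_ne Γ) x
    · obtain ⟨a, ha, haa, has, hsl⟩ := hbig
      exact .inr (h.sl_of_res (p := p) (by omega) hΓ ha haa has fun x hx =>
        (inG_resGroup_iff haa h.two_ne).1 (hsl x hx))
    · left
      have hS : Small R Γ := by
        intro x hx hxx hxs g hg hgx
        have hW : finrank F (plusSpace x) = 2 ^ (m + 1) := by
          have := h.res_finrank hx hxx hxs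
          rw [hV, pow_succ] at this
          omega
        rcases ih (h.pauli_res hx hxx) hW (h.ambient_res hΓ hx hxx hxs) with hn | hs
        · exact hn _ ((inG_resGroup_iff hxx h.two_ne).2 ⟨g, hg, hgx, rfl⟩)
        · exact absurd ⟨x, hx, hxx, hxs, hs⟩ hbig
      have hn : (finrank F V : F) ≠ 0 := by
        rw [hV, Nat.cast_pow]
        exact pow_ne_zero _ h.two_ne
      have heven : Even (finrank F V) := by rw [hV, pow_succ]; exact ⟨2 ^ (m + 1), by ring⟩
      exact h.nor_of_central hF hp2 hn hdim hΓ hS (h.centralNor_of_small hF hp2 hp3 hn hdim heven hΓ hS)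

end CfsgLib.Classical.PauliMax
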