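import Cfsg.Agent.Lib.Classical.PauliMax.Centralizer

/-!
# Elements centralising an involution of the system normalise it
-/

set_option autoImplicit false
set_option linter.unusedSectionVars false
set_option maxHeartbeats 400000

namespace CfsgLib.Classical.PauliMax

open Module

variable {F : Type*} [Field F] {V : Type*} [AddCommGroup V] [Module F V] [FiniteDimensional F V]

local notation "E" => Module.End F V

/-- Every element of `Γ` centralising an involution of the system normalises the system. -/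
def CentralNor (R : Set (Module.End F V)) (Γ : Subgroup (Module.End F V)ˣ) : Prop :=
  ∀ a ∈ R, a * a = 1 → ¬ IsScalarMap a → ∀ g : Module.End F V, InG Γ g → g * a = a * g → Nor R g

namespace Pauli

variable {i : F} {R : Set (Module.End F V)} (h : Pauli i R)
include h

theorem conj_mem_centralizer_or [Finite F] (hor : 8 ≤ finrank F V ∨ ∃ p : ℕ, p.Prime ∧ CharP F p ∧ Nat.card F = p ∧
      p ≠ 2 ∧ p ≠ 3) (hn : (finrank F V : F) ≠ 0) (hdim : 4 ≤ finrank F V) (heven : Even (finrank F V))
    {Γ : Subgroup Eˣ} (hΓ : Ambient i R Γ) (hS : Small R Γ) {a g g' x : E} (ha : a ∈ R) (haa : a * a = 1)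
    (hna : ¬ IsScalarMap a) (hg : InG Γ g) (h1 : g * g' = 1) (h2 : g' * g = 1) (hga : g * a = a * g)
    (hx : x ∈ R) (hxa : x * a = a * x) : g * x * g' ∈ R := by
  haveI : Nontrivial V := Module.finrank_pos_iff.1 (by omega : 0 < finrank F V)
  by_cases hxs : IsScalarMap x
  · obtain ⟨c, rfl⟩ := hxs
    rwa [conj_smul, mul_one, h1]
  by_cases hxn : ∃ c : F, x = c • a
  · obtain ⟨c, rfl⟩ := hxn
    rwa [conj_smul, hga, mul_assoc, h1, mul_one]
  push Not at hxn
  obtain ⟨x', hx', hxx', hxs', c, hc, rfl⟩ := h.exists_invol hx hxs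
  have hm := h.conj_mem_of_comm_or hor hn hdim heven hΓ hS ha haa hna hg h1 h2 hga hx' hxx'
    (smul_right_injective E hc (by simpa using hxa)) hxs' (fun d hd => hxn (c * d) (by rw [hd, smul_smul]))
  rw [conj_smul]
  refine h.root_smul_mem hm ?_
  rcases h.sq _ hx with e | e <;> rw [smul_mul_smul_comm, hxx'] at e
  · refine .inl ?_
    have : (c * c - 1) • (1 : E) = 0 := by rw [sub_smul, e, one_smul, sub_self]
    exact sub_eq_zero.1 ((smul_eq_zero.1 this).resolve_right one_ne_zero)
  · refine .inr ?_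
    have : (c * c + 1) • (1 : E) = 0 := by rw [add_smul, e, one_smul, neg_add_cancel]
    exact eq_neg_of_add_eq_zero_left ((smul_eq_zero.1 this).resolve_right one_ne_zero)

theorem centralNor_of_small_or [Finite F] (hor : 8 ≤ finrank F V ∨ ∃ p : ℕ, p.Prime ∧ CharP F p ∧ Nat.card F = p ∧
      p ≠ 2 ∧ p ≠ 3) (hn : (finrank F V : F) ≠ 0) (hdim : 4 ≤ finrank F V) (heven : Even (finrank F V))
    {Γ : Subgroup Eˣ} (hΓ : Ambient i R Γ) (hS : Small R Γ) : CentralNor R Γ := by
  classical
  intro a ha haa hna g hg hga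
  haveI : Nontrivial V := Module.finrank_pos_iff.1 (by omega : 0 < finrank F V)
  haveI : Finite E := Module.finite_of_finite F
  obtain ⟨g', hg', h1, h2⟩ := hg.exists_inv
  have hga' : g' * a = a * g' := comm_inv h1 h2 hga
  suffices hall : ∀ x ∈ R, g * x * g' ∈ R from fun x hx =>
    ⟨g * x * g', hall x hx, by rw [mul_assoc (g * x) g' g, h2, mul_one]⟩
  intro x hx
  rcases h.comm a ha x hx with hxa | hxa
  · exact h.conj_mem_centralizer_or hor hn hdim heven hΓ hS ha haa hna hg h1 h2 hga hx hxa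
  -- `x` anticommutes with `a`
  obtain ⟨x', hx', hxx', -, cx, hcx, rfl⟩ := h.exists_invol hx (h.not_scalar_of_anti hx ha (by rw [hxa, neg_neg]))
  have hxa' : x' * a = -(a * x') := smul_right_injective E hcx (by simpa [smul_neg] using hxa)
  suffices hw : g * x' * g' ∈ R by
    rw [conj_smul]
    refine h.root_smul_mem hw ?_
    rcases h.sq _ hx with e | e <;> rw [smul_mul_smul_comm, hxx'] at e
    · refine .inl ?_
      have : (cx * cx - 1) • (1 : E) = 0 := by rw [sub_smul, e, one_smul, sub_self]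
      exact sub_eq_zero.1 ((smul_eq_zero.1 this).resolve_right one_ne_zero)
    · refine .inr ?_
      have : (cx * cx + 1) • (1 : E) = 0 := by rw [add_smul, e, one_smul, neg_add_cancel]
      exact eq_neg_of_add_eq_zero_left ((smul_eq_zero.1 this).resolve_right one_ne_zero)
  -- an involution centralising `a` and `x'`
  obtain ⟨y, hy, hyy, hya, hyx, hys, hyn⟩ := h.exists_comm_invol (by omega) ha hx' a
  have hy'R := h.conj_mem_centralizer_or hor hn hdim heven hΓ hS ha haa hna hg h1 h2 hga hy hya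
  obtain ⟨y', hy'⟩ : ∃ y' : E, y' = g * y * g' := ⟨_, rfl⟩
  obtain ⟨w, hw⟩ : ∃ w : E, w = g * x' * g' := ⟨_, rfl⟩
  rw [← hw]
  rw [← hy'] at hy'R
  have hy'y' : y' * y' = 1 := by rw [hy', conj_mul h2, hyy, mul_one, h1]
  have hy's : ¬ IsScalarMap y' := fun ⟨c, hc⟩ => hys ⟨c, by
    calc y = g' * y' * g := by rw [hy', ← mul_assoc, ← mul_assoc, h2, one_mul, mul_assoc, h2, mul_one]
      _ = c • 1 := by rw [hc, mul_smul_comm, smul_mul_assoc, mul_one, h2]⟩
  have hwy : w * y' = y' * w := by rw [hw, hy', conj_mul h2, conj_mul h2, hyx]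
  have hga2 : g * a * g' = a := by rw [hga, mul_assoc, h1, mul_one]
  have hwa : w * a = -(a * w) := by
    nth_rw 1 [← hga2]
    nth_rw 2 [← hga2]
    rw [hw, conj_mul h2, conj_mul h2, hxa', mul_neg, neg_mul]
  have hy'a : y' * a = a * y' := by
    nth_rw 1 [← hga2]
    nth_rw 2 [← hga2]
    rw [hy', conj_mul h2, conj_mul h2, hya]
  have hy'n : ∀ c : F, y' ≠ c • a := fun c hc => hyn c (by
    calc y = g' * y' * g := by rw [hy', ← mul_assoc, ← mul_assoc, h2, one_mul, mul_assoc, h2, mul_one]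
      _ = c • a := by rw [hc, mul_smul_comm, smul_mul_assoc, mul_assoc, ← hga, ← mul_assoc, h2, one_mul])
  -- `w` commutes up to sign with the members centralising `a`
  have hwr : ∀ r ∈ R, r * a = a * r → w * r = r * w ∨ w * r = -(r * w) := by
    intro r hr hra
    have hr0 := h.conj_mem_centralizer_or hor hn hdim heven hΓ hS ha haa hna hg' h2 h1 hga' hr hra
    have hr1 : r = g * (g' * r * g) * g' := by
      rw [← mul_assoc, ← mul_assoc, h1, one_mul, mul_assoc, h1, mul_one]
    rcases h.comm (g' * r * g) hr0 x' hx' with e | e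
    · refine .inl ?_
      rw [hr1, hw, conj_mul h2, conj_mul h2, e]
    · refine .inr ?_
      rw [hr1, hw, conj_mul h2, conj_mul h2, e, mul_neg, neg_mul]
  obtain ⟨b, hb, hba⟩ := h.exists_anti ha hna
  obtain ⟨tb, htb, hbb⟩ := h.sq_sign hb
  set k := b * w with hk
  have hka : k * a = a * k := by
    rw [hk, mul_assoc, hwa, mul_neg, ← mul_assoc, hba, neg_mul, neg_neg, mul_assoc]
  have hkr : ∀ r ∈ R, r * a = a * r → k * r = r * k ∨ k * r = -(r * k) := by
    intro r hr hra
    rcases hwr r hr hra with e | e <;> rcases h.comm r hr b hb with e' | e'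
    · exact .inl (by rw [hk, mul_assoc, e, ← mul_assoc, e', mul_assoc])
    · exact .inr (by rw [hk, mul_assoc, e, ← mul_assoc, e', neg_mul, mul_assoc])
    · exact .inr (by rw [hk, mul_assoc, e, mul_neg, ← mul_assoc, e', mul_assoc])
    · exact .inl (by rw [hk, mul_assoc, e, mul_neg, ← mul_assoc, e', neg_mul, neg_neg, mul_assoc])
  have hwu : IsUnit w := ⟨⟨w, w, by rw [hw, conj_mul h2, hxx', mul_one, h1],
    by rw [hw, conj_mul h2, hxx', mul_one, h1]⟩, rfl⟩
  have hku : IsUnit k := by rw [hk]; exact (h.isUnit hb).mul hwu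
  clear_value k
  -- the compression of `k` at an involution `a'` of the centre
  have hline : ∀ a' : E, a' ∈ R → a' * a' = 1 → ¬ IsScalarMap a' → (∀ f : E, f * a' = a' * f ↔ f * a = a * f) →
      ∃ r ∈ R, r * a' = a' * r ∧ ∃ c : F, c ≠ 0 ∧ res a' k = c • res a' r := by
    intro a' ha' haa' hna' hiff
    haveI : Nontrivial (plusSpace a') := by
      have := h.res_finrank ha' haa' hna'
      exact Module.finrank_pos_iff.1 (by omega : 0 < finrank F (plusSpace a'))
    haveI : Finite (Module.End F (plusSpace a')) := Module.finite_of_finite F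
    haveI : Finite (resSet a' R) := Finite.of_injective Subtype.val Subtype.val_injective
    obtain ⟨u, hu⟩ := hku
    have hka' : k * a' = a' * k := (hiff k).2 hka
    obtain ⟨_, ⟨r, ⟨hr, hra⟩, rfl⟩, c, hc, e⟩ := (h.pauli_res ha' haa').exists_line' (f := res a' k)
      (fun e => by
        have hu' : k * (↑u⁻¹ : E) = 1 := by rw [← hu, Units.mul_inv]
        have h5 : (↑u⁻¹ : E) * a' = a' * (↑u⁻¹ : E) := comm_inv hu' (by rw [← hu, Units.inv_mul]) hka'
        have := congrArg (res a') hu'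
        rw [res_mul haa' h.two_ne h5, e, zero_mul, res_one haa' h.two_ne] at this
        exact zero_ne_one this)
      (by
        rintro _ ⟨r, ⟨hr, hra⟩, rfl⟩
        rw [← res_mul haa' h.two_ne hra, ← res_mul haa' h.two_ne hka']
        rcases hkr r hr ((hiff r).1 hra) with e | e
        · exact .inl (by rw [e])
        · exact .inr (by rw [e, map_neg]))
    exact ⟨r, hr, hra, c, hc, e⟩
  have hneg : (-a) * (-a) = 1 := by rw [neg_mul_neg, haa]
  have hnna : ¬ IsScalarMap (-a) := fun hc => hna (by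
    have := hc.smul (-1)
    rwa [neg_one_smul, neg_neg] at this)
  have hiff : ∀ f : E, f * -a = -a * f ↔ f * a = a * f := fun f => by rw [mul_neg, neg_mul, neg_inj]
  obtain ⟨r₀, hr₀, hr₀a, c₀, hc₀, e₀⟩ := hline a ha haa hna (fun _ => Iff.rfl)
  obtain ⟨r₁, hr₁, hr₁a, c₁, hc₁, e₁⟩ := hline (-a) (h.neg_mem ha) hneg hnna hiff
  rw [hiff] at hr₁a
  set P := proj a with hP
  set Q := proj (-a) with hQ
  have hkPQ : ∀ (a' : E) (r : E) (c : F), a' * a' = 1 → k * a' = a' * k → r * a' = a' * r →
      res a' k = c • res a' r → k * proj a' = c • (r * proj a') := by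
    intro a' r c haa' hk' hr' e
    rw [← map_smul, res_eq_iff haa' h.two_ne, mul_smul_comm, smul_mul_assoc, ← comm_proj haa' h.two_ne hk',
      ← comm_proj haa' h.two_ne hr', mul_assoc, mul_assoc, proj_mul_self haa' h.two_ne] at e
    exact e
  have hkP := hkPQ a r₀ c₀ haa hka hr₀a e₀
  have hkQ := hkPQ (-a) r₁ c₁ hneg ((hiff k).2 hka) ((hiff r₁).2 hr₁a) e₁
  have hPQ : P + Q = 1 := proj_add_neg haa h.two_ne
  have hPP : P * P = P := proj_mul_self haa h.two_ne
  have hQQ : Q * Q = Q := proj_mul_self hneg h.two_ne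
  have hQP : Q * P = 0 := by
    have := proj_neg_mul hneg h.two_ne
    rwa [neg_neg] at this
  have hPQ0 : P * Q = 0 := proj_neg_mul haa h.two_ne
  have hkne : ∀ f : E, f ≠ 0 → k * f ≠ 0 := fun f hf e => hf (hku.mul_left_cancel (e.trans (mul_zero k).symm))
  have hP0 : P ≠ 0 := fun e0 => hna ⟨-1, by
    rw [hP, proj] at e0
    rw [neg_smul, one_smul]
    exact eq_neg_of_add_eq_zero_right ((smul_eq_zero.1 e0).resolve_left (inv_ne_zero h.two_ne))⟩
  have hQ0 : Q ≠ 0 := fun e0 => hna ⟨1, by
    rw [hQ, proj] at e0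
    rw [one_smul]
    have := eq_neg_of_add_eq_zero_right ((smul_eq_zero.1 e0).resolve_left (inv_ne_zero h.two_ne))
    exact neg_injective this⟩
  -- the two members have the same signs, so differ by the centre
  have hsign : ∀ r ∈ R, r * a = a * r → (r₀ * r₁) * r = r * (r₀ * r₁) := by
    intro r hr hra
    have hrP : r * P = P * r := comm_proj haa h.two_ne hra
    have hrQ : r * Q = Q * r := comm_proj hneg h.two_ne ((hiff r).2 hra)
    obtain ⟨u₀, -, es₀⟩ := h.comm_sign hr hr₀
    obtain ⟨u₁, -, es₁⟩ := h.comm_sign hr hr₁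
    obtain ⟨u, hu, esu⟩ : ∃ u : F, (u = 1 ∨ u = -1) ∧ k * r = u • (r * k) := by
      rcases hkr r hr hra with e | e
      · exact ⟨1, .inl rfl, by rw [e, one_smul]⟩
      · exact ⟨-1, .inr rfl, by rw [e, neg_smul, one_smul]⟩
    have same : ∀ (D r' : E) (c u' : F), c ≠ 0 → D ≠ 0 → r' ∈ R → k * D = c • (r' * D) → r * D = D * r →
        r' * r = u' • (r * r') → u' = u := by
      intro D r' c u' hc hD hr' eD hrD es
      have h5 : u • (c • (r * r' * D)) = u' • (c • (r * r' * D)) := by
        calc u • (c • (r * r' * D)) = (k * r) * D := by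
              rw [esu, smul_mul_assoc, mul_assoc r k D, eD, mul_smul_comm, ← mul_assoc]
          _ = u' • (c • (r * r' * D)) := by
              rw [mul_assoc, hrD, ← mul_assoc, eD, smul_mul_assoc, mul_assoc r' D r, ← hrD, ← mul_assoc, es,
                smul_mul_assoc, smul_comm]
      have h6 : (u - u') • (c • (r * r' * D)) = 0 := by rw [sub_smul, h5, sub_self]
      rcases smul_eq_zero.1 h6 with e | e
      · exact (sub_eq_zero.1 e).symm
      · exact absurd ((h.isUnit (h.mul_mem _ hr _ hr')).mul_left_cancel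
          (((smul_eq_zero.1 e).resolve_left hc).trans (mul_zero _).symm)) hD
    have hu0 := same P r₀ c₀ u₀ hc₀ hP0 hr₀ hkP hrP es₀
    have hu1 := same Q r₁ c₁ u₁ hc₁ hQ0 hr₁ hkQ hrQ es₁
    rw [mul_assoc, es₁, mul_smul_comm, ← mul_assoc, es₀, smul_mul_assoc, smul_smul, hu0, hu1, mul_assoc,
      show u * u = 1 by rcases hu with rfl | rfl <;> ring, one_smul]
  obtain ⟨d, hd⟩ : ∃ d : F, r₁ * Q = d • (r₀ * Q) := by
    have hr01 : r₀ * r₁ * a = a * (r₀ * r₁) := by rw [mul_assoc, hr₁a, ← mul_assoc, hr₀a, mul_assoc]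
    obtain ⟨s, hs, hr00⟩ := h.sq_sign hr₀
    have hss : s * s = 1 := by rcases hs with rfl | rfl <;> ring
    have hr1e : r₁ = s • (r₀ * (r₀ * r₁)) := by
      rw [← mul_assoc, hr00, smul_mul_assoc, one_mul, smul_smul, hss, one_smul]
    by_cases hsc : IsScalarMap (r₀ * r₁)
    · obtain ⟨c, hc⟩ := hsc
      exact ⟨s * c, by rw [hr1e, hc, mul_smul_comm, mul_one, smul_smul, smul_mul_assoc]⟩
    by_cases hsa : ∃ c : F, r₀ * r₁ = c • a
    · obtain ⟨c, hc⟩ := hsa
      refine ⟨-(s * c), ?_⟩
      have haQ : a * Q = -Q := by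
        have := mul_proj hneg h.two_ne
        rw [neg_mul] at this
        exact neg_eq_iff_eq_neg.1 this
      rw [hr1e, hc, mul_smul_comm, smul_smul, smul_mul_assoc, mul_assoc, haQ, mul_neg, smul_neg, neg_smul]
    push Not at hsa
    exfalso
    refine h.res_not_scalar ha haa hna (h.mul_mem _ hr₀ _ hr₁) hr01 hsc hsa ?_
    haveI : Nontrivial (plusSpace a) := by
      have := h.res_finrank ha haa hna
      exact Module.finrank_pos_iff.1 (by omega : 0 < finrank F (plusSpace a))
    refine (h.pauli_res ha haa).scalar_of_comm ?_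
    rintro _ ⟨r, ⟨hr, hra⟩, rfl⟩
    rw [← res_mul haa h.two_ne hr01, ← res_mul haa h.two_ne hra, hsign r hr hra]
  have hkD : k = r₀ * (c₀ • P + (c₁ * d) • Q) := by
    calc k = k * P + k * Q := by rw [← mul_add, hPQ, mul_one]
      _ = _ := by rw [hkP, hkQ, hd, smul_smul, mul_add, mul_smul_comm, mul_smul_comm]
  set D := c₀ • P + (c₁ * d) • Q with hD
  set b' := tb • (b * r₀) with hb'
  have hb'R : b' ∈ R := h.sign_smul_mem (h.mul_mem _ hb _ hr₀) htb
  have hb'a : b' * a = -(a * b') := by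
    rw [hb', smul_mul_assoc, mul_assoc, hr₀a, ← mul_assoc, hba, neg_mul, smul_neg, mul_smul_comm, mul_assoc]
  have hwD : w = b' * D := by
    have h5 : w = tb • (b * k) := by
      rw [hk, ← mul_assoc, hbb, smul_mul_assoc, one_mul, smul_smul,
        show tb * tb = 1 by rcases htb with rfl | rfl <;> ring, one_smul]
    rw [h5, hkD, hb', smul_mul_assoc, mul_assoc]
  clear_value b'
  have hDlin : ∃ α β : F, D = α • 1 + β • a ∧ c₀ = α + β ∧ c₁ * d = α - β := by
    have := h.two_ne
    refine ⟨(c₀ + c₁ * d) / 2, (c₀ - c₁ * d) / 2, ?_, by field_simp; ring, by field_simp; ring⟩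
    rw [hD, hP, hQ, proj, proj]
    match_scalars <;> field_simp <;> ring
  obtain ⟨α, β, hDαβ, -, -⟩ := hDlin
  obtain ⟨r, hr, hry, c, hc, er⟩ :=
    h.conj_line hn hΓ hS hg h1 h2 hx' hxx' hy'R hy'y' hy's (hw ▸ hwy)
  rw [← hw] at er
  have hDy : D * y' = y' * D := by
    rw [hDαβ, add_mul, mul_add, smul_mul_assoc, one_mul, mul_smul_comm, mul_one, smul_mul_assoc, mul_smul_comm, hy'a]
  have hb'y : b' * y' = y' * b' := by
    rcases h.comm y' hy'R b' hb'R with e | e
    · exact e
    exfalso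
    rw [hwD, mul_assoc, hDy, ← mul_assoc, e, neg_mul, ← mul_assoc] at hwy
    have h5 : (2 : F) • (y' * b' * D) = 0 := by rw [two_smul]; nth_rw 1 [← hwy]; exact neg_add_cancel _
    have h6 := (smul_eq_zero.1 h5).resolve_left h.two_ne
    rw [mul_assoc, ← hwD] at h6
    exact hwu.ne_zero (h.mul_left_cancel' hy'R (h6.trans (mul_zero _).symm))
  -- one of the coefficients vanishes
  haveI : Nontrivial (plusSpace y') := by
    have := h.res_finrank hy'R hy'y' hy's
    exact Module.finrank_pos_iff.1 (by omega : 0 < finrank F (plusSpace y'))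
  have hay : a * y' = y' * a := hy'a.symm
  have hm : ∀ u t : E, t * y' = y' * t → res y' (u * t) = res y' u * res y' t := fun u t => res_mul hy'y' h.two_ne
  have hAns : ¬ IsScalarMap (res y' a) := h.res_not_scalar hy'R hy'y' hy's ha hay hna (fun e he => by
    rcases eq_or_ne e 0 with rfl | he0
    · exact h.ne_zero ha (by rw [he, zero_smul])
    · exact hy'n e⁻¹ (by rw [he, inv_smul_smul₀ he0]))
  obtain ⟨sb, hsb, hbb'⟩ := h.sq_sign hb'R
  have hz : α • (1 : Module.End F (plusSpace y')) + β • res y' a = (sb * c) • res y' (b' * r) := by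
    rw [hwD, hm _ _ hDy, hDαβ, map_add, map_smul, map_smul, res_one hy'y' h.two_ne] at er
    have h5 := congrArg (res y' b' * ·) er
    simp only [← mul_assoc, ← hm _ _ hb'y, hbb', res_smul_one hy'y' h.two_ne, smul_mul_assoc, one_mul,
      mul_smul_comm] at h5
    rw [← hm _ _ hry] at h5
    have h6 := congrArg (sb • ·) h5
    simp only [smul_smul, show sb * sb = 1 by rcases hsb with rfl | rfl <;> ring, one_smul] at h6
    exact h6
  have hb'rR : res y' (b' * r) ∈ resSet y' R := h.res_mem (h.mul_mem _ hb'R _ hr)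
    (by rw [mul_assoc, hry, ← mul_assoc, hb'y, mul_assoc])
  have hhy := h.pauli_res hy'R hy'y'
  have hAR : res y' a ∈ resSet y' R := h.res_mem ha hay
  have hαβ : α = 0 ∨ β = 0 := by
    by_cases hs : IsScalarMap (res y' (b' * r))
    · obtain ⟨e, he⟩ := hs
      refine .inr (by_contra fun hβ => hAns ⟨β⁻¹ * (sb * c * e - α), ?_⟩)
      rw [he, smul_smul] at hz
      have : β • res y' a = (sb * c * e - α) • (1 : Module.End F (plusSpace y')) := by
        exact (eq_sub_of_add_eq' hz).trans (sub_smul _ _ _).symm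
      rw [← smul_smul, ← this, inv_smul_smul₀ hβ]
    · refine .inl ?_
      have := congrArg (LinearMap.trace F (plusSpace y')) hz
      rw [map_add, map_smul, map_smul, map_smul, LinearMap.trace_one, hhy.trace_eq_zero hAR hAns,
        hhy.trace_eq_zero hb'rR hs, smul_zero, smul_zero, add_zero, smul_eq_mul] at this
      exact (mul_eq_zero.1 this).resolve_right (h.finrank_cast_res hy'R hy'y' hy's hn)
  obtain ⟨e, r', hr', hwe⟩ : ∃ e : F, ∃ r' ∈ R, w = e • r' := by
    rcases hαβ with rfl | rfl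
    · exact ⟨β, b' * a, h.mul_mem _ hb'R _ ha, by rw [hwD, hDαβ, zero_smul, zero_add, mul_smul_comm]⟩
    · exact ⟨α, b', hb'R, by rw [hwD, hDαβ, zero_smul, add_zero, mul_smul_comm, mul_one]⟩
  rw [hwe]
  refine h.mem_of_smul hr' ?_
  rw [← hwe, hw, conj_mul h2, hxx', mul_one, h1]

theorem centralNor_of_small [Finite F] {p : ℕ} [Fact p.Prime] [CharP F p] (hF : Nat.card F = p) (hp2 : p ≠ 2)
    (hp3 : p ≠ 3) (hn : (finrank F V : F) ≠ 0) (hdim : 4 ≤ finrank F V) (heven : Even (finrank F V))
    {Γ : Subgroup Eˣ} (hΓ : Ambient i R Γ) (hS : Small R Γ) : CentralNor R Γ :=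
  h.centralNor_of_small_or (.inr ⟨p, Fact.out, inferInstance, hF, hp2, hp3⟩) hn hdim heven hΓ hS

end Pauli

end CfsgLib.Classical.PauliMax
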