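import Cfsg.Agent.Lib.Classical.PauliMax.Split

/-!
# Centralisers of involutions of the system normalise the system
-/

set_option autoImplicit false
set_option linter.unusedSectionVars false
set_option maxHeartbeats 400000

namespace CfsgLib.Classical.PauliMax

open Module

variable {F : Type*} [Field F] {V : Type*} [AddCommGroup V] [Module F V] [FiniteDimensional F V]

local notation "E" => Module.End F V

namespace Pauli

variable {i : F} {R : Set (Module.End F V)} (h : Pauli i R)
include h

/-- On a plane, two commuting non-scalar members are proportional. -/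
theorem eq_smul_of_plane [Nontrivial V] (hdim : finrank F V = 2) {z z' : E} (hz : z ∈ R) (hzz : z * z = 1)
    (hns : ¬ IsScalarMap z) (hz' : z' ∈ R) (hc : z' * z = z * z') (hns' : ¬ IsScalarMap z') :
    ∃ c : F, z' = c • z := by
  by_contra hcon
  push Not at hcon
  refine h.res_not_scalar hz hzz hns hz' hc hns' hcon ?_
  have h1 : finrank F (plusSpace z) = 1 := by
    have := h.res_finrank hz hzz hns; omega
  obtain ⟨v, hv, hall⟩ := finrank_eq_one_iff'.1 h1
  obtain ⟨c, hc'⟩ := hall (res z z' v)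
  refine ⟨c, LinearMap.ext fun w => ?_⟩
  obtain ⟨d, rfl⟩ := hall w
  rw [map_smul, ← hc', LinearMap.smul_apply, Module.End.one_apply, smul_comm]

/-- The first step: conjugates of the involutions centralising `a`, in degree at least eight or over a prime
field. -/
theorem conj_mem_of_comm_or [Finite F] (hor : 8 ≤ finrank F V ∨ ∃ p : ℕ, p.Prime ∧ CharP F p ∧ Nat.card F = p ∧
      p ≠ 2 ∧ p ≠ 3) (hn : (finrank F V : F) ≠ 0) (hdim : 4 ≤ finrank F V) (heven : Even (finrank F V))
    {Γ : Subgroup Eˣ} (hΓ : Ambient i R Γ) (hS : Small R Γ) {a g g' x : E} (ha : a ∈ R) (haa : a * a = 1)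
    (hna : ¬ IsScalarMap a) (hg : InG Γ g) (h1 : g * g' = 1) (h2 : g' * g = 1) (hga : g * a = a * g)
    (hx : x ∈ R) (hxx : x * x = 1) (hxa : x * a = a * x) (hxs : ¬ IsScalarMap x) (hxn : ∀ c : F, x ≠ c • a) :
    g * x * g' ∈ R := by
  classical
  haveI : Nontrivial V := Module.finrank_pos_iff.1 (by omega : 0 < finrank F V)
  obtain ⟨w, hw⟩ : ∃ w : E, w = g * x * g' := ⟨_, rfl⟩
  have hww : w * w = 1 := by rw [hw, conj_mul h2, hxx, mul_one, h1]
  have hga' : g' * a = a * g' := comm_inv h1 h2 hga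
  have hwa : w * a = a * w := by
    rw [hw, mul_assoc, hga', ← mul_assoc, mul_assoc g x a, hxa, ← mul_assoc, hga, mul_assoc a g x, mul_assoc]
  -- the two compressions of `w`
  have key : ∀ a' : E, a' ∈ R → a' * a' = 1 → ¬ IsScalarMap a' → g * a' = a' * g → x * a' = a' * x →
      (∀ c : F, x ≠ c • a') →
      ∃ z ∈ R, z * a' = a' * z ∧ z * z = 1 ∧ res a' w = res a' z ∧ ¬ IsScalarMap z ∧ ∀ c : F, z ≠ c • a' := by
    intro a' ha' haa' hns' hga₁ hxa₁ hxn₁
    have hga₂ : g' * a' = a' * g' := comm_inv h1 h2 hga₁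
    obtain ⟨_, ⟨z, ⟨hz, hza⟩, rfl⟩, e⟩ := hS a' ha' haa' hns' g hg hga₁ (res a' x) (h.res_mem hx hxa₁)
    have hgr : res a' g * res a' g' = 1 := by rw [← res_mul haa' h.two_ne hga₂, h1, res_one haa' h.two_ne]
    have hgr' : res a' g' * res a' g = 1 := by rw [← res_mul haa' h.two_ne hga₁, h2, res_one haa' h.two_ne]
    have hwz : res a' w = res a' z := by
      rw [hw, res_mul haa' h.two_ne hga₂, res_mul haa' h.two_ne hxa₁, e, mul_assoc, hgr, mul_one]
    have hxns : ¬ IsScalarMap (res a' x) := h.res_not_scalar ha' haa' hns' hx hxa₁ hxs hxn₁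
    have hzns : ¬ IsScalarMap (res a' z) := fun ⟨c, hc⟩ => hxns ⟨c, by
      calc res a' x = res a' g' * (res a' g * res a' x) := by rw [← mul_assoc, hgr', one_mul]
        _ = c • 1 := by rw [e, hc, smul_mul_assoc, one_mul, mul_smul_comm, hgr']⟩
    haveI : Nontrivial (plusSpace a') := by
      have := h.res_finrank ha' haa' hns'
      exact Module.finrank_pos_iff.1 (by omega : 0 < finrank F (plusSpace a'))
    refine ⟨z, hz, hza, ?_, hwz, fun ⟨c, hc⟩ => hzns ⟨c, by rw [hc, res_smul_one haa' h.two_ne]⟩,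
      fun c hc => hzns ⟨c, by rw [hc, map_smul, res_self haa' h.two_ne]⟩⟩
    rcases h.sq z hz with e' | e'
    · exact e'
    · exfalso
      have hwa' : w * a' = a' * w := by
        rw [hw, mul_assoc, hga₂, ← mul_assoc, mul_assoc g x a', hxa₁, ← mul_assoc, hga₁, mul_assoc a' g x, mul_assoc]
      have := congrArg (fun f => f * f) hwz
      simp only [← res_mul haa' h.two_ne hwa', ← res_mul haa' h.two_ne hza, hww, e', map_neg,
        res_one haa' h.two_ne] at this
      exact (h.pauli_res ha' haa').neg_one_ne this.symm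
  have hneg : (-a) * (-a) = 1 := by rw [neg_mul_neg, haa]
  have hnaR : -a ∈ R := h.neg_mem ha
  have hnna : ¬ IsScalarMap (-a) := fun hc => hna (by
    have := hc.smul (-1)
    rwa [neg_one_smul, neg_neg] at this)
  obtain ⟨z₀, hz₀, h0a, h00, hw0, hs0, hn0⟩ := key a ha haa hna hga hxa hxn
  obtain ⟨z₁, hz₁, h1a', h11, hw1, hs1, hn1⟩ := key (-a) hnaR hneg hnna (by rw [mul_neg, hga, neg_mul])
    (by rw [mul_neg, hxa, neg_mul]) (fun c hc => hxn (-c) (by rw [hc, smul_neg, neg_smul]))
  have h1a : z₁ * a = a * z₁ := by rw [mul_neg, neg_mul] at h1a'; exact neg_injective h1a'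
  set P := proj a with hP
  set Q := proj (-a) with hQ
  have hwP : w * P = z₀ * P := by
    have := (res_eq_iff haa h.two_ne).1 hw0
    rwa [← comm_proj haa h.two_ne hwa, mul_assoc, proj_mul_self haa h.two_ne, ← comm_proj haa h.two_ne h0a,
      mul_assoc, proj_mul_self haa h.two_ne] at this
  have hwQ : w * Q = z₁ * Q := by
    have hwn : w * -a = -a * w := by rw [mul_neg, hwa, neg_mul]
    have := (res_eq_iff hneg h.two_ne).1 hw1
    rwa [← comm_proj hneg h.two_ne hwn, mul_assoc, proj_mul_self hneg h.two_ne, ← comm_proj hneg h.two_ne h1a',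
      mul_assoc, proj_mul_self hneg h.two_ne] at this
  have hwsum : w = z₀ * P + z₁ * Q := by
    rw [← hwP, ← hwQ, ← mul_add, proj_add_neg haa h.two_ne, mul_one]
  have hQa : a * Q = -Q := by
    have := mul_proj hneg h.two_ne
    rw [neg_mul] at this
    exact neg_eq_iff_eq_neg.1 this
  -- the good case
  have good : ∀ c : F, z₁ = c • z₀ ∨ z₁ = c • (a * z₀) → g * x * g' ∈ R := by
    intro c hc
    obtain ⟨d, hd, hzQ⟩ : ∃ d : F, (d = 1 ∨ d = -1) ∧ z₁ * Q = d • (z₀ * Q) := by
      rcases hc with e | e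
      · refine ⟨c, mul_self_eq_one_iff.1 ?_, by rw [e, smul_mul_assoc]⟩
        rw [e, smul_mul_smul_comm, h00] at h11
        have h4 : (c * c - 1) • (1 : E) = 0 := by rw [sub_smul, h11, one_smul, sub_self]
        exact sub_eq_zero.1 ((smul_eq_zero.1 h4).resolve_right one_ne_zero)
      · refine ⟨-c, mul_self_eq_one_iff.1 ?_, ?_⟩
        · rw [e, smul_mul_smul_comm, mul_assoc, ← mul_assoc z₀ a z₀, h0a, mul_assoc a z₀ z₀, h00, mul_one, haa] at h11
          have h4 : (c * c - 1) • (1 : E) = 0 := by rw [sub_smul, h11, one_smul, sub_self]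
          rw [neg_mul_neg]
          exact sub_eq_zero.1 ((smul_eq_zero.1 h4).resolve_right one_ne_zero)
        · rw [e, smul_mul_assoc, ← h0a, mul_assoc, hQa, mul_neg, smul_neg, neg_smul]
    rw [← hw, hwsum, hzQ, ← mul_smul_comm, ← mul_add]
    rcases hd with rfl | rfl
    · rw [one_smul, proj_add_neg haa h.two_ne, mul_one]; exact hz₀
    · have : P + (-1 : F) • Q = a := by
        have := h.two_ne
        rw [hP, hQ, proj, proj]
        match_scalars <;> field_simp <;> ring
      rw [this]; exact h.mul_mem _ hz₀ _ ha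
  set v := z₀ * z₁ with hv
  have hvR : v ∈ R := h.mul_mem _ hz₀ _ hz₁
  have hva : v * a = a * v := by rw [hv, mul_assoc, h1a, ← mul_assoc, h0a, mul_assoc]
  have hz1v : z₁ = z₀ * v := by rw [hv, ← mul_assoc, h00, one_mul]
  have hvns : ¬ IsScalarMap v → (∀ c : F, v ≠ c • a) → ¬ IsScalarMap (res a v) :=
    h.res_not_scalar ha haa hna hvR hva
  by_cases hvsc : IsScalarMap v
  · obtain ⟨c, hc⟩ := hvsc
    exact good c (.inl (by rw [hz1v, hc, mul_smul_comm, mul_one]))
  by_cases hva' : ∃ c : F, v = c • a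
  · obtain ⟨c, hc⟩ := hva'
    exact good c (.inr (by rw [hz1v, hc, mul_smul_comm, h0a]))
  push Not at hva'
  exfalso
  have hresv := hvns hvsc hva'
  have hh := h.pauli_res ha haa
  have hfin := h.res_finrank ha haa hna
  haveI : Nontrivial (plusSpace a) := Module.finrank_pos_iff.1 (by omega : 0 < finrank F (plusSpace a))
  have hm : ∀ u t : E, t * a = a * t → res a (u * t) = res a u * res a t := fun u t => res_mul haa h.two_ne
  by_cases hbig : 3 ≤ finrank F (plusSpace a)
  · -- a test involution commuting with both compressions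
    obtain ⟨_, ⟨y₀, ⟨hy₀, hy₀a⟩, rfl⟩, hy00, hy01, hyv⟩ :=
      hh.exists_comm_avoid hbig (h.res_mem hz₀ h0a) (h.res_mem hz₁ h1a) (res a v)
    have hcommR : ∀ z : E, z ∈ R → z * a = a * z → res a y₀ * res a z = res a z * res a y₀ → y₀ * z = z * y₀ := by
      intro z hz hza e
      rcases h.comm z hz y₀ hy₀ with e' | e'
      · exact e'
      · exfalso
        rw [← hm _ _ hza, ← hm _ _ hy₀a, e', map_neg] at e
        have h4 : (2 : F) • res a (z * y₀) = 0 := by rw [two_smul]; nth_rw 1 [← e]; exact neg_add_cancel _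
        have h5 := (smul_eq_zero.1 h4).resolve_left h.two_ne
        exact hh.ne_zero (h.res_mem (h.mul_mem _ hz _ hy₀) (by rw [mul_assoc, hy₀a, ← mul_assoc, hza, mul_assoc])) h5
    have hy₀s : ¬ IsScalarMap y₀ := fun ⟨c, hc⟩ => hyv (by
      rw [hc, res_smul_one haa h.two_ne]
      exact Submodule.smul_mem _ _ (Submodule.subset_span (by simp)))
    obtain ⟨y, hy, hyy, hys, c, hc, rfl⟩ := h.exists_invol hy₀ hy₀s
    have hyz : ∀ z : E, z ∈ R → z * a = a * z → res a (c • y) * res a z = res a z * res a (c • y) →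
        y * z = z * y := fun z hz hza e => smul_right_injective E hc (by simpa using hcommR z hz hza e)
    have hy0 := hyz z₀ hz₀ h0a hy00
    have hy1 := hyz z₁ hz₁ h1a hy01
    have hya : y * a = a * y := smul_right_injective E hc (by simpa using hy₀a)
    have hyP : y * P = P * y := comm_proj haa h.two_ne hya
    have hyQ : y * Q = Q * y := comm_proj hneg h.two_ne (by rw [mul_neg, hya, neg_mul])
    have hwy : w * y = y * w := by
      rw [hwsum, add_mul, mul_add, mul_assoc, ← hyP, ← mul_assoc, ← hy0, mul_assoc, mul_assoc z₁, ← hyQ,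
        ← mul_assoc z₁, ← hy1, mul_assoc y z₁]
    obtain ⟨r, hr, hry, e, he, hwr⟩ := h.conj_line hn hΓ hS hg h1 h2 hx hxx hy hyy hys (hw ▸ hwy)
    -- compressions at `y`
    rw [← hw] at hwr
    have hay : a * y = y * a := hya.symm
    have hhy := h.pauli_res hy hyy
    haveI : Nontrivial (plusSpace y) := by
      have := h.res_finrank hy hyy hys
      exact Module.finrank_pos_iff.1 (by omega : 0 < finrank F (plusSpace y))
    have hmy : ∀ u t : E, t * y = y * t → res y (u * t) = res y u * res y t := fun u t => res_mul hyy h.two_ne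
    set A := res y a with hA
    have hAA : A * A = 1 := by rw [hA, ← hmy _ _ hay, haa, res_one hyy h.two_ne]
    have hAns : ¬ IsScalarMap A := h.res_not_scalar hy hyy hys ha hay hna (fun d hd => hyv (by
      rcases eq_or_ne d 0 with rfl | hd0
      · exact absurd (by rw [hd, zero_smul]) (h.ne_zero ha)
      · have : y = d⁻¹ • a := by rw [hd, inv_smul_smul₀ hd0]
        rw [this, smul_smul, map_smul, res_self haa h.two_ne]
        exact Submodule.smul_mem _ _ (Submodule.subset_span (by simp))))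
    have hwA : res y w * A = A * res y w := by rw [hA, ← hmy _ _ hay, ← hmy _ _ hwy, hwa]
    have hrA : res y r * A = A * res y r := by
      rw [hwr, smul_mul_assoc, mul_smul_comm] at hwA
      exact smul_right_injective _ he hwA
    have hlink : ∀ (z a' : E), z ∈ R → z * y = y * z → z * a' = a' * z → a' * y = y * a' → a' * a' = 1 →
        w * proj a' = z * proj a' → (res y r) * res y a' = res y a' * res y r →
        res y a' ∈ resSet y R → ¬ IsScalarMap (res y a') →
        ∃ d : F, res y z = d • res y r ∨ res y z = d • (res y a' * res y r) := by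
      intro z a' hz hzy hza' ha'y haa₁ hwp hrA' hA' hAns'
      set A' := res y a' with hA''
      have hAA' : A' * A' = 1 := by rw [hA'', ← hmy _ _ ha'y, haa₁, res_one hyy h.two_ne]
      have hzA : res y z * A' = A' * res y z := by rw [hA'', ← hmy _ _ ha'y, ← hmy _ _ hzy, hza']
      have hPy : proj a' * y = y * proj a' := (comm_proj haa₁ h.two_ne ha'y.symm).symm
      have hproj : res y (proj a') = proj A' := by
        rw [proj, proj, map_smul, map_add, res_one hyy h.two_ne]
      have h5 := congrArg (res y) hwp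
      rw [hmy _ _ hPy, hmy _ _ hPy, hwr, hproj] at h5
      refine hhy.eq_of_res_eq hA' hAA' hAns' (h.res_mem hr hry) hrA' (h.res_mem hz hzy) hzA (c := e) ?_
      rw [← map_smul, res_eq_iff hAA' h.two_ne, mul_assoc, mul_assoc, h5]
    obtain ⟨d₀, hd₀⟩ := hlink z₀ a hz₀ hy0.symm h0a hay haa hwP hrA (h.res_mem ha hay) hAns
    have hAneg : res y (-a) = (-1 : F) • A := by rw [hA, ← map_smul, neg_one_smul]
    obtain ⟨d₁, hd₁⟩ := hlink z₁ (-a) hz₁ hy1.symm h1a' (by rw [neg_mul, hay, mul_neg]) hneg hwQ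
      (by rw [hAneg, mul_smul_comm, hrA, smul_mul_assoc]) (h.res_mem hnaR (by rw [neg_mul, hay, mul_neg]))
      (by
        rw [hAneg]
        intro hc
        have := hc.smul (-1)
        rw [smul_smul, show (-1 : F) * -1 = 1 by ring, one_smul] at this
        exact hAns this)
    rw [hAneg, smul_mul_assoc, smul_smul] at hd₁
    rw [← hA] at hd₀
    obtain ⟨s, -, hrr⟩ := hhy.sq_sign (h.res_mem hr hry)
    have hrAr : res y r * (A * res y r) = s • A := by
      rw [← mul_assoc, hrA, mul_assoc, hrr, mul_smul_comm, mul_one]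
    have hArr : A * res y r * res y r = s • A := by rw [mul_assoc, hrr, mul_smul_comm, mul_one]
    have hArAr : A * res y r * (A * res y r) = s • 1 := by
      rw [mul_assoc, hrAr, mul_smul_comm, hAA]
    obtain ⟨d, hd⟩ : ∃ d : F, res y v = d • 1 ∨ res y v = d • A := by
      rw [hv, hmy _ _ hy1.symm]
      rcases hd₀ with e0 | e0 <;> rcases hd₁ with e1 | e1 <;>
        simp only [e0, e1, smul_mul_smul_comm, hrr, hrAr, hArr, hArAr, smul_smul]
      · exact ⟨_, .inl rfl⟩
      · exact ⟨_, .inr rfl⟩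
      · exact ⟨_, .inr rfl⟩
      · exact ⟨_, .inl rfl⟩
    have hvy : v * y = y * v := by rw [hv, mul_assoc, ← hy1, ← mul_assoc, ← hy0, mul_assoc]
    obtain ⟨f, hf⟩ : ∃ f : F, (v = f • 1 ∨ v = f • y) ∨ (v = f • a ∨ v = f • (y * a)) := by
      rcases hd with e' | e'
      · obtain ⟨f, hf⟩ := h.eq_of_res_eq hy hyy hys h.one_mem (by simp) hvR hvy (c := d) (by
          rw [e', res_one hyy h.two_ne])
        exact ⟨f, .inl (by simpa using hf)⟩
      · obtain ⟨f, hf⟩ := h.eq_of_res_eq hy hyy hys ha hay hvR hvy (c := d) e'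
        exact ⟨f, .inr hf⟩
    have hyout : ∀ u : E, v = f • u → res a u = res a y → False := fun u hu e' => by
      rcases eq_or_ne f 0 with rfl | hf0
      · exact h.ne_zero hvR (by rw [hu, zero_smul])
      · refine hyv ?_
        rw [map_smul, ← e', show res a u = f⁻¹ • res a v by rw [hu, map_smul, inv_smul_smul₀ hf0], smul_smul]
        exact Submodule.smul_mem _ _ (Submodule.subset_span (by simp))
    rcases hf with (e' | e') | (e' | e')
    · exact hvsc ⟨f, e'⟩
    · exact hyout y e' rfl
    · exact hva' f e'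
    · exact hyout (y * a) e' (by rw [hm _ _ rfl, res_self haa h.two_ne, mul_one])
  · -- degree four
    obtain ⟨k, hk⟩ := heven
    have hdim2 : finrank F (plusSpace a) = 2 := by omega
    rcases h.comm z₀ hz₀ z₁ hz₁ with e | e
    · obtain ⟨c, hc⟩ := hh.eq_smul_of_plane hdim2 (h.res_mem hz₀ h0a)
        (by rw [← hm _ _ h0a, h00, res_one haa h.two_ne])
        (h.res_not_scalar ha haa hna hz₀ h0a hs0 hn0) (h.res_mem hz₁ h1a)
        (by rw [← hm _ _ h0a, ← hm _ _ h1a, e])
        (h.res_not_scalar ha haa hna hz₁ h1a hs1 (fun c hc => hn1 (-c) (by rw [hc, smul_neg, neg_smul, neg_neg])))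
      refine hresv ⟨c, ?_⟩
      rw [hv, hm _ _ h1a, hc, mul_smul_comm, ← hm _ _ h0a, h00, res_one haa h.two_ne]
    · obtain ⟨p, hp, hc, hF, hp2, hp3⟩ := hor.resolve_left (by omega)
      haveI := Fact.mk hp
      haveI := hc
      refine h.no_split hF hp2 hp3 hn hdim hΓ hS ha haa hna hz₀ hz₁ h00 h11 h0a h1a e ?_
      have hG := (InG.smul hΓ ((InG.conj hg (hΓ.quarter x hx hxx) h1).mul ((hΓ.quarter z₀ hz₀ h00).inv
        (g := (2 : F)⁻¹ • quarter (-i) z₀) (by rw [mul_smul_comm, quarter_mul_neg h.hi h00,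
          inv_smul_smul₀ h.two_ne]))) (one_ne_zero (α := F)))
      rw [one_smul, quarter_conj h1, ← hw, mul_smul_comm] at hG
      convert hG using 1
      have hsplit : quarter i w = quarter i z₀ * P + quarter i z₁ * Q := by
        simp only [quarter, add_mul, one_mul, smul_mul_assoc, hwsum, smul_add]
        rw [← proj_add_neg haa h.two_ne, ← hP, ← hQ]
        abel
      have hPc : P * quarter (-i) z₀ = quarter (-i) z₀ * P := by
        rw [quarter, add_mul, mul_add, one_mul, mul_one, smul_mul_assoc, mul_smul_comm,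
          ← comm_proj haa h.two_ne h0a]
      have hQc : ∀ (c : F) (z : E), z * a = a * z → Q * quarter c z = quarter c z * Q := fun c z hz => by
        rw [quarter, add_mul, mul_add, one_mul, mul_one, smul_mul_assoc, mul_smul_comm,
          ← comm_proj hneg h.two_ne (by rw [mul_neg, hz, neg_mul])]
      rw [sixth, hsplit, add_mul, mul_assoc (quarter i z₀) P, hPc, ← mul_assoc, quarter_mul_neg h.hi h00,
        smul_mul_assoc, one_mul, ← hQc i z₁ h1a, mul_assoc, smul_add, inv_smul_smul₀ h.two_ne, mul_smul_comm]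

/-- The first step over a prime field. -/
theorem conj_mem_of_comm [Finite F] {p : ℕ} [Fact p.Prime] [CharP F p] (hF : Nat.card F = p) (hp2 : p ≠ 2)
    (hp3 : p ≠ 3) (hn : (finrank F V : F) ≠ 0) (hdim : 4 ≤ finrank F V) (heven : Even (finrank F V))
    {Γ : Subgroup Eˣ} (hΓ : Ambient i R Γ) (hS : Small R Γ) {a g g' x : E} (ha : a ∈ R) (haa : a * a = 1)
    (hna : ¬ IsScalarMap a) (hg : InG Γ g) (h1 : g * g' = 1) (h2 : g' * g = 1) (hga : g * a = a * g)
    (hx : x ∈ R) (hxx : x * x = 1) (hxa : x * a = a * x) (hxs : ¬ IsScalarMap x) (hxn : ∀ c : F, x ≠ c • a) :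
    g * x * g' ∈ R :=
  h.conj_mem_of_comm_or (.inr ⟨p, Fact.out, inferInstance, hF, hp2, hp3⟩) hn hdim heven hΓ hS ha haa hna hg h1 h2
    hga hx hxx hxa hxs hxn

end Pauli

end CfsgLib.Classical.PauliMax
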