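import Cfsg.Agent.Lib.Classical.PauliMax.Central

/-!
# A group with small centralisers of involutions normalises the system
-/

set_option autoImplicit false
set_option linter.unusedSectionVars false
set_option maxHeartbeats 400000

namespace CfsgLib.Classical.PauliMax

open Matrix Module Polynomial CfsgLib.Classical.Dickson
open scoped MatrixGroups

variable {F : Type*} [Field F] {V : Type*} [AddCommGroup V] [Module F V] [FiniteDimensional F V]

local notation "E" => Module.End F V

theorem unit_pow_eq_one {G : Type*} [Monoid G] {u : G} {p : ℕ} [Fact p.Prime] (hu : u ≠ 1) {k : ℕ}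
    (hk : u ^ p ^ k = 1) : ∃ m : ℕ, u ^ m ≠ 1 ∧ (u ^ m) ^ p = 1 := by
  induction k with
  | zero => rw [pow_zero, pow_one] at hk; exact absurd hk hu
  | succ k ih =>
    by_cases hk' : u ^ p ^ k = 1
    · exact ih hk'
    · exact ⟨p ^ k, hk', by rw [← pow_mul, ← pow_succ, hk]⟩

namespace Pauli

variable {i : F} {R : Set (Module.End F V)} (h : Pauli i R)
include h

/-- An involution of `Γ` normalising the system commutes with some member. -/
theorem exists_fixed [Finite F] [Nontrivial V] (hn : (finrank F V : F) ≠ 0) (hdim : 3 ≤ finrank F V) {w : E} (hww : w * w = 1)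
    (hw : Nor R w) : (∃ r ∈ R, ∃ c : F, w = c • r) ∨
      ∃ y ∈ R, y * y = 1 ∧ ¬ IsScalarMap y ∧ w * y = y * w := by
  classical
  haveI : Finite E := Module.finite_of_finite F
  haveI : Finite R := Finite.of_injective Subtype.val Subtype.val_injective
  have hw0 : w ≠ 0 := fun e => by simp [e] at hww
  have hconj : ∀ x ∈ R, w * x * w ∈ R := fun x hx => by
    obtain ⟨y, hy, e⟩ := hw x hx
    rwa [e, mul_assoc, hww, mul_one]
  have hww' : ∀ x : E, w * (w * x * w) * w = x := fun x => by
    simp only [mul_assoc, hww, mul_one]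
    rw [← mul_assoc, hww, one_mul]
  have hmul : ∀ x y : E, w * (x * y) * w = (w * x * w) * (w * y * w) := fun x y => (conj_mul hww).symm
  -- a non-scalar member fixed by `w` suffices
  have fin : ∀ y ∈ R, ¬ IsScalarMap y → w * y * w = y →
      ∃ y ∈ R, y * y = 1 ∧ ¬ IsScalarMap y ∧ w * y = y * w := by
    intro y hy hns e
    obtain ⟨y', hy', hyy, hns', c, hc, rfl⟩ := h.exists_invol hy hns
    refine ⟨y', hy', hyy, hns', smul_right_injective E hc ?_⟩
    change c • (w * y') = c • (y' * w)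
    rw [← mul_smul_comm, ← smul_mul_assoc]
    nth_rw 2 [← e]
    rw [mul_assoc (w * (c • y')), hww, mul_one]
  by_cases hall : ∀ x ∈ R, ∃ c : F, w * x * w = c • x
  · left
    obtain ⟨r, hr, c, -, e⟩ := h.exists_line' hw0 fun x hx => by
      obtain ⟨c, hc⟩ := hall x hx
      have h1 : (c * c - 1) • x = 0 := by
        have := hww' x
        rw [hc, mul_smul_comm, smul_mul_assoc, hc, smul_smul] at this
        rw [sub_smul, this, one_smul, sub_self]
      have hwx : w * x = c • (x * w) := by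
        have := congrArg (· * w) hc
        simp only [mul_assoc, hww, mul_one, smul_mul_assoc] at this
        exact this
      rcases mul_self_eq_one_iff.1 (sub_eq_zero.1 ((smul_eq_zero.1 h1).resolve_right (h.ne_zero hx))) with rfl | rfl
      · exact .inl (by rw [hwx, one_smul])
      · exact .inr (by rw [hwx, neg_smul, one_smul])
    exact ⟨r, hr, c, e⟩
  right
  push Not at hall
  -- products `x (w x w)` are fixed up to sign
  have hflip : ∀ x ∈ R, (∀ c : F, w * x * w ≠ c • x) → x * (w * x * w) ∈ R ∧ ¬ IsScalarMap (x * (w * x * w)) ∧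
      (w * (x * (w * x * w)) * w = x * (w * x * w) ∨ w * (x * (w * x * w)) * w = -(x * (w * x * w))) := by
    intro x hx hne
    refine ⟨h.mul_mem _ hx _ (hconj x hx), fun hc => ?_, ?_⟩
    · obtain ⟨c, hc⟩ := h.mul_eq_smul hx hc
      exact hne c hc
    · rw [hmul, hww']
      exact h.comm x hx _ (hconj x hx)
  obtain ⟨x₀, hx₀, hne₀⟩ := hall
  obtain ⟨hy₁, hns₁, e₁⟩ := hflip x₀ hx₀ hne₀
  set y₁ := x₀ * (w * x₀ * w) with hy₁def
  rcases e₁ with e₁ | e₁
  · exact fin y₁ hy₁ hns₁ e₁
  clear_value y₁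
  -- a fixed line outside the span of `1` and `y₁` suffices
  have fin2 : ∀ q ∈ R, q ∉ Submodule.span F ({1, y₁} : Set E) → (w * q * w = q ∨ w * q * w = -q) →
      ∃ y ∈ R, y * y = 1 ∧ ¬ IsScalarMap y ∧ w * y = y * w := by
    intro q hq hout e
    rcases e with e | e
    · refine fin q hq (fun ⟨c, hc⟩ => hout ?_) e
      rw [hc]; exact Submodule.smul_mem _ _ (Submodule.subset_span (by simp))
    · refine fin (q * y₁) (h.mul_mem _ hq _ hy₁) (fun hc => hout ?_) (by rw [hmul, e, e₁, neg_mul_neg])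
      obtain ⟨c, hc⟩ := h.mul_eq_smul hq hc
      rcases eq_or_ne c 0 with rfl | hc0
      · exact absurd (by rw [hc, zero_smul]) (h.ne_zero hy₁)
      · rw [show q = c⁻¹ • y₁ by rw [hc, inv_smul_smul₀ hc0]]
        exact Submodule.smul_mem _ _ (Submodule.subset_span (by simp))
  have hfixline : ∀ q ∈ R, ∀ c : F, w * q * w = c • q → w * q * w = q ∨ w * q * w = -q := by
    intro q hq c hc
    have h1 : (c * c - 1) • q = 0 := by
      have := hww' q
      rw [hc, mul_smul_comm, smul_mul_assoc, hc, smul_smul] at this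
      rw [sub_smul, this, one_smul, sub_self]
    rcases mul_self_eq_one_iff.1 (sub_eq_zero.1 ((smul_eq_zero.1 h1).resolve_right (h.ne_zero hq))) with rfl | rfl
    · exact .inl (by rw [hc, one_smul])
    · exact .inr (by rw [hc, neg_smul, one_smul])
  -- a member outside the span of `1`, `y₁`, `x₀` and `x₀ y₁`
  obtain ⟨q, hq, hqout⟩ : ∃ q ∈ R, q ∉ Submodule.span F ({1, y₁, x₀, x₀ * y₁} : Set E) := by
    by_contra hcon
    push Not at hcon
    have h2 : Submodule.span F R ≤ Submodule.span F ({1, y₁, x₀, x₀ * y₁} : Set E) :=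
      Submodule.span_le.2 fun z hz => hcon z hz
    rw [h.full] at h2
    have h3 : finrank F (Submodule.span F ({1, y₁, x₀, x₀ * y₁} : Set E)) ≤ 4 := by
      refine (finrank_span_le_card _).trans ?_
      simp only [Set.toFinset_insert, Set.toFinset_singleton]
      exact Finset.card_le_four
    have h4 := (Submodule.finrank_mono h2).trans h3
    rw [finrank_top, Module.finrank_linearMap] at h4
    nlinarith
  have hmono : Submodule.span F ({1, y₁} : Set E) ≤ Submodule.span F ({1, y₁, x₀, x₀ * y₁} : Set E) :=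
    Submodule.span_mono (by intro z; simp only [Set.mem_insert_iff, Set.mem_singleton_iff]; tauto)
  by_cases hqf : ∃ c : F, w * q * w = c • q
  · obtain ⟨c, hc⟩ := hqf
    exact fin2 q hq (fun e => hqout (hmono e)) (hfixline q hq c hc)
  push Not at hqf
  obtain ⟨hy₂, hns₂, e₂⟩ := hflip q hq hqf
  by_cases hout : q * (w * q * w) ∈ Submodule.span F ({1, y₁} : Set E)
  swap
  · exact fin2 _ hy₂ hout e₂
  -- the product of `q` and `x₀` is then fixed
  have hprop : ∃ c : F, q * (w * q * w) = c • y₁ := by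
    rw [Submodule.mem_span_pair] at hout
    obtain ⟨u, v, e⟩ := hout
    refine ⟨v, ?_⟩
    have htr := congrArg (LinearMap.trace F V) e
    rw [map_add, map_smul, map_smul, LinearMap.trace_one, h.trace_eq_zero hy₁ hns₁, h.trace_eq_zero hy₂ hns₂,
      smul_zero, add_zero, smul_eq_mul] at htr
    rw [← e, (mul_eq_zero.1 htr).resolve_right hn, zero_smul, zero_add]
  obtain ⟨c, hc⟩ := hprop
  obtain ⟨σ, hσ, hxx⟩ := h.sq_sign hx₀
  obtain ⟨τ, hτ, hqq⟩ := h.sq_sign hq
  have hσσ : σ * σ = 1 := by rcases hσ with rfl | rfl <;> ring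
  have hττ : τ * τ = 1 := by rcases hτ with rfl | rfl <;> ring
  obtain ⟨ρ, hρ, hyy⟩ := h.sq_sign hy₁
  obtain ⟨δ, hδ, hyq⟩ := h.comm_sign hy₁ hq
  have hδδ : δ * δ = 1 := by rcases hδ with rfl | rfl <;> ring
  have hx0' : w * x₀ * w = σ • (x₀ * y₁) := by
    rw [hy₁def, ← mul_assoc, hxx, smul_mul_assoc, one_mul, smul_smul, hσσ, one_smul]
  have hq' : w * q * w = (τ * c) • (q * y₁) := by
    have := congrArg (q * ·) hc
    simp only [← mul_assoc, hqq, smul_mul_assoc, one_mul, mul_smul_comm] at this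
    rw [← smul_smul, ← this, smul_smul, hττ, one_smul]
  obtain ⟨d, hd⟩ : ∃ d : F, w * (x₀ * q) * w = d • (x₀ * q) := by
    refine ⟨σ * (τ * c) * δ * ρ, ?_⟩
    have hyqy : y₁ * (q * y₁) = (δ * ρ) • q := by
      have hyq' : y₁ * q = δ • (q * y₁) := by rw [hyq, smul_smul, hδδ, one_smul]
      rw [← mul_assoc, hyq', smul_mul_assoc, mul_assoc, hyy, mul_smul_comm, mul_one, smul_smul]
    rw [hmul, hx0', hq', smul_mul_smul_comm, mul_assoc x₀ y₁, hyqy, mul_smul_comm, smul_smul]
    congr 1
    ring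
  refine fin2 _ (h.mul_mem _ hx₀ _ hq) (fun e => hqout ?_) (hfixline _ (h.mul_mem _ hx₀ _ hq) d hd)
  rw [Submodule.mem_span_pair] at e
  obtain ⟨u, v, e⟩ := e
  have h5 := congrArg (x₀ * ·) e
  simp only [← mul_assoc, hxx, smul_mul_assoc, one_mul, mul_add, mul_smul_comm, mul_one] at h5
  have h6 : q = σ • (u • x₀ + v • (x₀ * y₁)) := by rw [h5, smul_smul, hσσ, one_smul]
  rw [h6]
  exact Submodule.smul_mem _ _ (Submodule.add_mem _ (Submodule.smul_mem _ _ (Submodule.subset_span (by simp)))
    (Submodule.smul_mem _ _ (Submodule.subset_span (by simp))))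

/-- A conjugate of an involution of the system normalising the system is a member. -/
theorem conj_mem_of_nor [Finite F] [Nontrivial V] (hn : (finrank F V : F) ≠ 0) (hdim : 3 ≤ finrank F V)
    {Γ : Subgroup Eˣ} (hΓ : Ambient i R Γ) (hC : CentralNor R Γ) {g g' a : E} (hg : InG Γ g) (h1 : g * g' = 1)
    (h2 : g' * g = 1) (ha : a ∈ R) (haa : a * a = 1) (hw : Nor R (g * a * g')) : g * a * g' ∈ R := by
  haveI : Finite E := Module.finite_of_finite F
  haveI : Finite R := Finite.of_injective Subtype.val Subtype.val_injective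
  have hww : g * a * g' * (g * a * g') = 1 := by rw [conj_mul h2, haa, mul_one, h1]
  rcases h.exists_fixed hn hdim hww hw with ⟨r, hr, c, e⟩ | ⟨y, hy, hyy, hys, hwy⟩
  · rw [e] at hww ⊢
    exact h.mem_of_smul hr hww
  · have hnor := hC y hy hyy hys _ (InG.conj hg (hΓ.quarter a ha haa) h1) (by
      rw [quarter_conj h1]
      exact (quarter_comm (i := i) (a := g * a * g') (f := y) hwy.symm).symm)
    rw [quarter_conj h1] at hnor
    obtain ⟨r, hr, c, -, e⟩ := h.line_of_nor_quarter hn hww hnor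
    rw [e] at hww ⊢
    exact h.mem_of_smul hr hww

/-- An element carrying some involution of the system to a member normalises the system. -/
theorem nor_of_conj_mem [Finite F] [Nontrivial V] (hn : (finrank F V : F) ≠ 0) (hdim : 3 ≤ finrank F V)
    {Γ : Subgroup Eˣ} (hΓ : Ambient i R Γ) (hC : CentralNor R Γ) {g g' a : E} (hg : InG Γ g) (h1 : g * g' = 1)
    (h2 : g' * g = 1) (ha : a ∈ R) (haa : a * a = 1) (hns : ¬ IsScalarMap a) (hm : g * a * g' ∈ R) : Nor R g := by
  haveI : Finite E := Module.finite_of_finite F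
  haveI : Finite R := Finite.of_injective Subtype.val Subtype.val_injective
  have step : ∀ y ∈ R, y * y = 1 → ¬ IsScalarMap y → g * y * g' ∈ R → ∀ x ∈ R, x * x = 1 → x * y = y * x →
      g * x * g' ∈ R := by
    intro y hy hyy hys hyR x hx hxx hxy
    have hys' : ¬ IsScalarMap (g * y * g') := fun ⟨c, hc⟩ => hys ⟨c, by
      calc y = g' * (g * y * g') * g := by rw [← mul_assoc, ← mul_assoc, h2, one_mul, mul_assoc, h2, mul_one]
        _ = c • 1 := by rw [hc, mul_smul_comm, smul_mul_assoc, mul_one, h2]⟩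
    have hww : g * x * g' * (g * x * g') = 1 := by rw [conj_mul h2, hxx, mul_one, h1]
    have hnor := hC _ hyR (by rw [conj_mul h2, hyy, mul_one, h1]) hys' _ (InG.conj hg (hΓ.quarter x hx hxx) h1) (by
      rw [quarter_conj h1]
      exact (quarter_comm (i := i) (a := g * x * g') (f := g * y * g') (by
        rw [conj_mul h2, conj_mul h2, hxy])).symm)
    rw [quarter_conj h1] at hnor
    obtain ⟨r, hr, c, -, e⟩ := h.line_of_nor_quarter hn hww hnor
    rw [e] at hww ⊢
    exact h.mem_of_smul hr hww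
  have hinv : ∀ x ∈ R, x * x = 1 → ¬ IsScalarMap x → g * x * g' ∈ R := by
    intro x hx hxx hxs
    obtain ⟨y, hy, hyy, hya, hyx, hys, -⟩ := h.exists_comm_invol hdim ha hx 1
    exact step y hy hyy hys (step a ha haa hns hm y hy hyy hya) x hx hxx hyx.symm
  intro x hx
  refine ⟨g * x * g', ?_, by rw [mul_assoc (g * x) g' g, h2, mul_one]⟩
  by_cases hxs : IsScalarMap x
  · obtain ⟨c, rfl⟩ := hxs
    rwa [conj_smul, mul_one, h1]
  obtain ⟨x', hx', hxx', hxs', c, hc, rfl⟩ := h.exists_invol hx hxs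
  rw [conj_smul]
  refine h.root_smul_mem (hinv x' hx' hxx' hxs') ?_
  rcases h.sq _ hx with e | e <;> rw [smul_mul_smul_comm, hxx'] at e
  · refine .inl ?_
    have : (c * c - 1) • (1 : E) = 0 := by rw [sub_smul, e, one_smul, sub_self]
    exact sub_eq_zero.1 ((smul_eq_zero.1 this).resolve_right one_ne_zero)
  · refine .inr ?_
    have : (c * c + 1) • (1 : E) = 0 := by rw [add_smul, e, one_smul, neg_add_cancel]
    exact eq_neg_of_add_eq_zero_left ((smul_eq_zero.1 this).resolve_right one_ne_zero)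

/-- An eigenvalue of a product of two involutions that is not a fourth root of one gives an element of order `p`
inverted by the first. -/
theorem exists_inverted_of_eigen [Finite F] {p : ℕ} [Fact p.Prime] [CharP F p] (hF : Nat.card F = p) (hp2 : p ≠ 2)
    {L : Type*} [Field L] [Fintype L] [DecidableEq L] [Algebra F L] [CharP L p] {n : ℕ} (B : Basis (Fin n) F V)
    {Γ : Subgroup Eˣ} (hΓ : Ambient i R Γ) {a s : E} (ha : a ∈ R) (haa : a * a = 1) (hsΓ : InG Γ s)
    (hsq : InG Γ (quarter i s)) (hss : s * s = 1) {μ : L} (hμ4 : μ ^ 4 ≠ 1) {v : Fin n → L} (hv0 : v ≠ 0)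
    (hvd : embed B L (a * s) *ᵥ v = μ • v) :
    ∃ U : E, InG Γ U ∧ U ≠ 1 ∧ U ^ p = 1 ∧ U * (a * U * a) = 1 := by
  classical
  set φ := embed B L with hφ
  set d := a * s with hd
  have hdd' : s * a * d = 1 := by rw [hd, mul_assoc, ← mul_assoc a a, haa, one_mul, hss]
  have hv : φ d *ᵥ v = μ • v := hvd
  have h2L : (2 : L) ≠ 0 := fun e => h.two_ne ((algebraMap F L).injective (by rw [map_ofNat, map_zero, e]))
  set j := algebraMap F L i with hj
  have hjj : j * j = -1 := by rw [hj, ← map_mul, h.hi, map_neg, map_one]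
  have hφaa : φ a * φ a = 1 := by rw [← map_mul, haa, map_one]
  set v' := φ a *ᵥ v with hv'
  have hv'a : φ a *ᵥ v' = v := by rw [hv', Matrix.mulVec_mulVec, hφaa, Matrix.one_mulVec]
  have hμ0 : μ ≠ 0 := by
    intro e
    apply hv0
    have h5 : φ (s * a) *ᵥ (φ d *ᵥ v) = v := by
      rw [Matrix.mulVec_mulVec, ← map_mul, hdd', map_one, Matrix.one_mulVec]
    rw [hv, e, zero_smul, Matrix.mulVec_zero] at h5
    exact h5.symm
  have hsv : φ s *ᵥ v = μ • v' := by
    have : s = a * d := by rw [hd, ← mul_assoc, haa, one_mul]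
    rw [this, map_mul, ← Matrix.mulVec_mulVec, hv, Matrix.mulVec_smul]
  have hsv' : φ s *ᵥ v' = μ⁻¹ • v := by
    have h5 := congrArg (φ s *ᵥ ·) hsv
    simp only [Matrix.mulVec_mulVec, ← map_mul, hss, map_one, Matrix.one_mulVec, Matrix.mulVec_smul] at h5
    conv_rhs => rw [h5]
    rw [smul_smul, inv_mul_cancel₀ hμ0, one_smul]
  have hμ2 : μ * μ ≠ 1 := fun e => hμ4 (by linear_combination (μ * μ + 1) * e)
  have hμm : μ * μ ≠ -1 := fun e => hμ4 (by linear_combination (μ * μ - 1) * e)
  have hdv' : φ d *ᵥ v' = μ⁻¹ • v' := by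
    rw [hd, map_mul, ← Matrix.mulVec_mulVec, hsv', Matrix.mulVec_smul]
  have hindep : ∀ α β : L, α • v + β • v' = 0 → α = 0 ∧ β = 0 := by
    intro α β e
    have e' := congrArg (φ d *ᵥ ·) e
    simp only [Matrix.mulVec_add, Matrix.mulVec_smul, hv, hdv', Matrix.mulVec_zero] at e'
    have h5 : (α * (μ - μ⁻¹)) • v = 0 := by linear_combination (norm := module) e' - (μ⁻¹ : L) • e
    have hne : μ - μ⁻¹ ≠ 0 := fun e0 => hμ2 (by
      have := congrArg (· * μ) (sub_eq_zero.1 e0)
      simpa [inv_mul_cancel₀ hμ0] using this)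
    have hα : α = 0 := by
      rcases smul_eq_zero.1 h5 with e0 | e0
      · exact (mul_eq_zero.1 e0).resolve_right hne
      · exact absurd e0 hv0
    refine ⟨hα, ?_⟩
    rw [hα, zero_smul, zero_add] at e
    refine (smul_eq_zero.1 e).resolve_right fun e0 => hv0 ?_
    rw [← hv'a, e0, Matrix.mulVec_zero]
  set γ := (μ + μ⁻¹) / 2 with hγ
  set δ := (μ⁻¹ - μ) / 2 with hδ
  have hγ0 : γ ≠ 0 := by
    intro e
    rw [hγ, div_eq_zero_iff] at e
    have := congrArg (· * μ) (e.resolve_right h2L)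
    simp only [add_mul, inv_mul_cancel₀ hμ0, zero_mul] at this
    exact hμm (by linear_combination this)
  have hδ0 : δ ≠ 0 := by
    intro e
    rw [hδ, div_eq_zero_iff] at e
    have := congrArg (· * μ) (e.resolve_right h2L)
    simp only [sub_mul, inv_mul_cancel₀ hμ0, zero_mul] at this
    exact hμ2 (by linear_combination -this)
  have hγδ : γ * γ - δ * δ = 1 := by rw [hγ, hδ]; field_simp; ring
  set P := v + v' with hP
  set Q := v - v' with hQ
  have hPa : φ a *ᵥ P = P := by rw [hP, Matrix.mulVec_add, hv'a, ← hv', add_comm]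
  have hQa : φ a *ᵥ Q = -Q := by rw [hQ, Matrix.mulVec_sub, hv'a, ← hv', neg_sub]
  have hPs : φ s *ᵥ P = γ • P + δ • Q := by
    rw [hP, hQ, Matrix.mulVec_add, hsv, hsv', hγ, hδ]
    match_scalars <;> field_simp <;> ring
  have hQs : φ s *ᵥ Q = (-δ) • P + (-γ) • Q := by
    rw [hP, hQ, Matrix.mulVec_sub, hsv, hsv', hγ, hδ]
    match_scalars <;> field_simp <;> ring
  let X' : Matrix (Fin n) (Fin 2) L := Matrix.of (fun x => ![P x, Q x])
  obtain ⟨Y, hY⟩ := exists_left_inverse (X := X') (fun c hc => by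
    rw [of_mulVec, hP, hQ] at hc
    obtain ⟨e0, e1⟩ := hindep (c 0 + c 1) (c 0 - c 1) (by linear_combination (norm := module) hc)
    have c0 : (2 : L) * c 0 = 0 := by linear_combination e0 + e1
    have c1 : (2 : L) * c 1 = 0 := by linear_combination e0 - e1
    funext k
    fin_cases k
    · exact (mul_eq_zero.1 c0).resolve_left h2L
    · exact (mul_eq_zero.1 c1).resolve_left h2L)
  have hqv : ∀ (z : E) (u : Fin n → L), φ (quarter i z) *ᵥ u = u + j • (φ z *ᵥ u) := fun z u => by
    rw [quarter, map_add, map_one, map_smul, Matrix.add_mulVec, Matrix.one_mulVec, ← algebraMap_smul L i (φ z),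
      Matrix.smul_mulVec]
  obtain ⟨ua, hua, hua'⟩ := hΓ.mem a ha
  obtain ⟨us, hus, hus'⟩ := hsΓ
  obtain ⟨ut, hut, hut'⟩ := hΓ.quarter a ha haa
  obtain ⟨uq, huq, huq'⟩ := hsq
  have hmk : ∀ N : Matrix (Fin 2) (Fin 2) L, N.det ≠ 0 →
      ∃ Z : GL (Fin 2) L, (Z : Matrix (Fin 2) (Fin 2) L) = N := fun N hN =>
    ⟨GeneralLinearGroup.mkOfDetNeZero N hN, rfl⟩
  obtain ⟨Za, hZa⟩ := hmk !![1, 0; 0, -1] (by simp [Matrix.det_fin_two])
  obtain ⟨Zt, hZt⟩ := hmk !![1 + j, 0; 0, 1 - j] (by
    simp [Matrix.det_fin_two]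
    constructor <;> intro e <;> apply h2L
    · linear_combination (1 - j) * e + hjj
    · linear_combination (1 + j) * e + hjj)
  obtain ⟨Zs, hZs⟩ := hmk !![γ, -δ; δ, -γ] (by
    simp [Matrix.det_fin_two]
    intro e
    exact one_ne_zero (show (1 : L) = 0 by linear_combination -hγδ - e))
  obtain ⟨Zq, hZq⟩ := hmk !![1 + j * γ, -(j * δ); j * δ, 1 - j * γ] (by
    simp [Matrix.det_fin_two]
    intro e
    exact h2L (by linear_combination e + (γ * γ - δ * δ) * hjj - hγδ))
  have ea : embed B L (ua : E) * X' = X' * (Za : Matrix (Fin 2) (Fin 2) L) := by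
    rw [hua', hZa, ← hφ]; exact fromCols_mul _ _ _ _ _ _ _ (by rw [hPa]; simp) (by rw [hQa]; simp)
  have es : embed B L (us : E) * X' = X' * (Zs : Matrix (Fin 2) (Fin 2) L) := by
    rw [hus', hZs, ← hφ]; exact fromCols_mul _ _ _ _ _ _ _ hPs hQs
  have hq2 : (Zq : Matrix (Fin 2) (Fin 2) L) * Zq = (2 * j) • (Zs : Matrix (Fin 2) (Fin 2) L) := by
    rw [hZq, hZs]
    ext r c
    fin_cases r <;> fin_cases c <;> simp [Matrix.mul_apply, Fin.sum_univ_two] <;>
      first | linear_combination (0 : L) | linear_combination (γ * γ - δ * δ) * hjj - hγδ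
  have hmkq : ProjGenLinGroup.mk Zq ^ 2 = ProjGenLinGroup.mk Zs := by
    rw [← map_pow, ProjGenLinGroup.mk_eq_mk_iff]
    refine ⟨(Units.mk0 (2 * j) (mul_ne_zero h2L (fun e => by rw [e, mul_zero] at hjj; simp at hjj)))⁻¹, ?_⟩
    apply Units.ext
    rw [Units.val_mul, pow_two, Units.val_mul, hq2]
    change (2 * j) • (Zs : Matrix (Fin 2) (Fin 2) L) * Matrix.diagonal (fun _ : Fin 2 => (2 * j)⁻¹) = _
    have h2j : (2 * j) * (2 * j)⁻¹ = 1 :=
      mul_inv_cancel₀ (mul_ne_zero h2L (fun e => by rw [e, mul_zero] at hjj; simp at hjj))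
    ext r c
    rw [Matrix.mul_diagonal, Matrix.smul_apply, smul_eq_mul, mul_right_comm, h2j, one_mul]
  obtain ⟨U, hUΓ, hU1, hUp, hUinv⟩ := exists_inverted B hp2 hF h.hi hY hua hut hus huq (by rw [hua', haa])
    (Za := Za) (Zt := Zt) (Zs := Zs) (Zq := Zq) ea
    (by rw [hut', hZt, ← hφ]
        exact fromCols_mul _ _ _ _ _ _ _ (by rw [hqv, hPa]; module) (by rw [hqv, hQa]; module))
    es
    (by rw [huq', hZq, ← hφ]
        exact fromCols_mul _ _ _ _ _ _ _ (by rw [hqv, hPs]; module) (by rw [hqv, hQs]; module))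
    hZa hZt (by rw [hZs]; simpa using hδ0) (by rw [hZs]; simpa using hδ0)
    (by
      rw [show (4 : ℕ) = 2 * 2 from rfl, pow_mul, hmkq, pow_two (ProjGenLinGroup.mk Zs), ← map_mul]
      rw [show Zs * Zs = 1 by
        apply Units.ext
        rw [Units.val_mul, hZs]
        ext r c
        fin_cases r <;> fin_cases c <;> simp [Matrix.mul_apply, Fin.sum_univ_two] <;>
          first | linear_combination hγδ | linear_combination (0 : L), map_one])
    (by
      rw [hmkq, Ne, show (1 : ProjGenLinGroup (Fin 2) L) = ProjGenLinGroup.mk 1 from (map_one _).symm,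
        ProjGenLinGroup.mk_eq_mk_iff]
      rintro ⟨u, hu⟩
      have := congrArg (fun M : GL (Fin 2) L => (M : Matrix (Fin 2) (Fin 2) L) 1 0) hu
      simp [hZs, Matrix.mul_apply, Fin.sum_univ_two, Matrix.GeneralLinearGroup.scalar, Matrix.vecMul,
        dotProduct, hδ0] at this)
    (by
      rw [hmkq, Ne, ProjGenLinGroup.mk_eq_mk_iff]
      rintro ⟨u, hu⟩
      have := congrArg (fun M : GL (Fin 2) L => (M : Matrix (Fin 2) (Fin 2) L) 1 0) hu
      simp [hZs, hZa, Matrix.mul_apply, Fin.sum_univ_two, Matrix.GeneralLinearGroup.scalar, Matrix.vecMul,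
        dotProduct, hδ0] at this)
    (fun K hK ⟨f⟩ => by
      have hat : ∀ z : K, (z ^ 4 = 1) → ∀ y : K, y ^ 4 = 1 → z ^ 2 * y ^ 2 = y ^ 2 * z ^ 2 := by
        intro z hz y hy
        apply f.injective
        simp only [map_mul, map_pow]
        exact perm_four_sq_comm _ _ (by rw [← map_pow, hz, map_one]) (by rw [← map_pow, hy, map_one])
      have et' : embed B L (ut : E) * X' = X' * (Zt : Matrix (Fin 2) (Fin 2) L) := by
        rw [hut', hZt, ← hφ]
        exact fromCols_mul _ _ _ _ _ _ _ (by rw [hqv, hPa]; module) (by rw [hqv, hQa]; module)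
      have eq2 : embed B L (uq : E) * X' = X' * (Zq : Matrix (Fin 2) (Fin 2) L) := by
        rw [huq', hZq, ← hφ]
        exact fromCols_mul _ _ _ _ _ _ _ (by rw [hqv, hPs]; module) (by rw [hqv, hQs]; module)
      have hzt : ProjGenLinGroup.mk Zt ∈ K := hK ut (mem_colStab_of_eq hut et') _ et'
      have hzq : ProjGenLinGroup.mk Zq ∈ K := hK uq (mem_colStab_of_eq huq eq2) _ eq2
      have hta : ProjGenLinGroup.mk Zt ^ 2 = ProjGenLinGroup.mk Za := by
        rw [← map_pow, ProjGenLinGroup.mk_eq_mk_iff]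
        refine ⟨(Units.mk0 (2 * j) (mul_ne_zero h2L (fun e => by rw [e, mul_zero] at hjj; simp at hjj)))⁻¹, ?_⟩
        apply Units.ext
        rw [Units.val_mul, pow_two, Units.val_mul]
        have ht2 : (Zt : Matrix (Fin 2) (Fin 2) L) * Zt = (2 * j) • (Za : Matrix (Fin 2) (Fin 2) L) := by
          rw [hZt, hZa]
          ext r c
          fin_cases r <;> fin_cases c <;> simp [Matrix.mul_apply, Fin.sum_univ_two] <;> linear_combination hjj
        rw [ht2]
        change (2 * j) • (Za : Matrix (Fin 2) (Fin 2) L) * Matrix.diagonal (fun _ : Fin 2 => (2 * j)⁻¹) = _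
        have h2j : (2 * j) * (2 * j)⁻¹ = 1 :=
          mul_inv_cancel₀ (mul_ne_zero h2L (fun e => by rw [e, mul_zero] at hjj; simp at hjj))
        ext r c
        rw [Matrix.mul_diagonal, Matrix.smul_apply, smul_eq_mul, mul_right_comm, h2j, one_mul]
      have hs2 : ProjGenLinGroup.mk Zs ^ 2 = (1 : ProjGenLinGroup (Fin 2) L) := by
        rw [← map_pow, show Zs ^ 2 = 1 by
          apply Units.ext
          rw [pow_two, Units.val_mul, hZs]
          ext r c
          fin_cases r <;> fin_cases c <;> simp [Matrix.mul_apply, Fin.sum_univ_two] <;>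
            first | linear_combination hγδ | linear_combination (0 : L), map_one]
      have ha2 : ProjGenLinGroup.mk Za ^ 2 = (1 : ProjGenLinGroup (Fin 2) L) := by
        rw [← map_pow, show Za ^ 2 = 1 by
          apply Units.ext
          rw [pow_two, Units.val_mul, hZa]
          ext r c
          fin_cases r <;> fin_cases c <;> simp [Matrix.mul_apply, Fin.sum_univ_two], map_one]
      have := congrArg Subtype.val (hat ⟨_, hzt⟩ (Subtype.ext (by
        rw [Subgroup.coe_pow, show (4 : ℕ) = 2 * 2 from rfl, pow_mul, hta, ha2, Subgroup.coe_one])) ⟨_, hzq⟩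
        (Subtype.ext (by rw [Subgroup.coe_pow, show (4 : ℕ) = 2 * 2 from rfl, pow_mul, hmkq, hs2, Subgroup.coe_one])))
      rw [Subgroup.coe_mul, Subgroup.coe_mul, Subgroup.coe_pow, Subgroup.coe_pow, hta, hmkq, ← map_mul, ← map_mul,
        ProjGenLinGroup.mk_eq_mk_iff] at this
      obtain ⟨u, hu⟩ := this
      have h00 := congrArg (fun M : GL (Fin 2) L => (M : Matrix (Fin 2) (Fin 2) L) 0 0) hu
      have h10 := congrArg (fun M : GL (Fin 2) L => (M : Matrix (Fin 2) (Fin 2) L) 1 0) hu
      simp [hZs, hZa, Matrix.mul_apply, Fin.sum_univ_two, Matrix.GeneralLinearGroup.scalar] at h00 h10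
      have e1 : (u : L) = 1 := mul_left_cancel₀ hγ0 (by linear_combination h00)
      rw [e1] at h10
      exact mul_ne_zero h2L hδ0 (by linear_combination -h10))
  rw [hua'] at hUinv
  exact ⟨_, ⟨U, hUΓ, rfl⟩, hU1, hUp, hUinv⟩

/-- With small centralisers the whole group normalises the system. -/
theorem nor_of_central [Finite F] {p : ℕ} [Fact p.Prime] [CharP F p] (hF : Nat.card F = p) (hp2 : p ≠ 2)
    (hn : (finrank F V : F) ≠ 0) (hdim : 4 ≤ finrank F V) {Γ : Subgroup Eˣ} (hΓ : Ambient i R Γ)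
    (hS : Small R Γ) (hC : CentralNor R Γ) : ∀ g : E, InG Γ g → Nor R g := by
  classical
  intro g hg
  haveI : Nontrivial V := Module.finrank_pos_iff.1 (by omega : 0 < finrank F V)
  haveI : Finite E := Module.finite_of_finite F
  obtain ⟨g', hg', h1, h2⟩ := hg.exists_inv
  obtain ⟨a, ha, haa, -, -, hns, -⟩ := h.exists_comm_invol (by omega) h.one_mem h.one_mem 1
  have h3 : (3 : ℕ) ≤ finrank F V := by omega
  by_contra hng
  have hTI : g * a * g' ∉ R := fun hm => hng (h.nor_of_conj_mem hn h3 hΓ hC hg h1 h2 ha haa hns hm)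
  obtain ⟨s, hs⟩ : ∃ s : E, s = g * a * g' := ⟨_, rfl⟩
  rw [← hs] at hTI
  have hsΓ : InG Γ s := by rw [hs]; exact InG.conj hg (hΓ.mem a ha) h1
  have hss : s * s = 1 := by rw [hs, conj_mul h2, haa, mul_one, h1]
  have hsN : ¬ Nor R s := fun hh => hTI (by
    rw [hs]
    exact h.conj_mem_of_nor hn h3 hΓ hC hg h1 h2 ha haa (hs ▸ hh))
  set d := a * s with hd
  have hdΓ : InG Γ d := (hΓ.mem a ha).mul hsΓ
  have had : a * d * a = s * a := by rw [hd, ← mul_assoc, haa, one_mul]
  have hdd : d * (s * a) = 1 := by rw [hd, mul_assoc, ← mul_assoc s s, hss, one_mul, haa]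
  have hdd' : s * a * d = 1 := by rw [hd, mul_assoc, ← mul_assoc a a, haa, one_mul, hss]
  -- a power of `d` is inverted by `a`
  have hadpow : ∀ k : ℕ, a * d ^ k * a = (s * a) ^ k := by
    intro k
    induction k with
    | zero => rw [pow_zero, pow_zero, mul_one, haa]
    | succ k ih =>
      rw [pow_succ, pow_succ, ← ih, ← had]
      simp only [mul_assoc]
      rw [← mul_assoc a a, haa, one_mul]
  have hcomm : Commute d (s * a) := by show d * (s * a) = s * a * d; rw [hdd, hdd']
  have hdinv : ∀ k : ℕ, d ^ k * (a * d ^ k * a) = 1 := fun k => by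
    rw [hadpow, ← hcomm.mul_pow, hdd, one_pow]
  have hdpΓ : ∀ k : ℕ, InG Γ (d ^ k) := fun k => by
    obtain ⟨u, hu, hue⟩ := hdΓ
    exact ⟨u ^ k, pow_mem hu k, by rw [Units.val_pow_eq_pow_val, hue]⟩
  by_cases hd4 : d ^ 4 = 1
  · -- the square of `d` centralises `a`
    have hzz : d ^ 2 * d ^ 2 = 1 := by rw [← pow_add, hd4]
    have hza : d ^ 2 * a = a * d ^ 2 := by
      have h5 := hdinv 2
      have h6 : a * d ^ 2 * a = d ^ 2 := by
        calc a * d ^ 2 * a = d ^ 2 * (d ^ 2 * (a * d ^ 2 * a)) := by rw [← mul_assoc, hzz, one_mul]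
          _ = d ^ 2 := by rw [h5, mul_one]
      conv_lhs => rw [← h6, mul_assoc (a * d ^ 2) a a, haa, mul_one]
    have hnz := hC a ha haa hns _ (hdpΓ 2) hza
    have hsas : s * a * s = a * d ^ 2 := by
      rw [pow_two, hd]
      simp only [mul_assoc]
      rw [← mul_assoc a a, haa, one_mul]
    have hnor : Nor R (s * a * s) := by rw [hsas]; exact (h.nor_mem ha).mul hnz
    obtain ⟨s', -, e1, e2⟩ := hsΓ.exists_inv
    have hs's : s' = s := by rw [← mul_one s', ← hss, ← mul_assoc, e2, one_mul]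
    subst hs's
    exact hsN (h.nor_of_conj_mem hn h3 hΓ hC hsΓ hss hss ha haa hns
      (h.conj_mem_of_nor hn h3 hΓ hC hsΓ hss hss ha haa hnor))
  -- otherwise there is a unipotent or a two-dimensional constituent
  have finish : ∀ U : E, InG Γ U → U ≠ 1 → U ^ p = 1 → U * (a * U * a) = 1 → False := by
    intro U hU hU1 hUp hUinv
    obtain ⟨x, hx, hxx, hxs, k, hk, hkx, hkn⟩ := h.exists_moving hF hp2 hn hdim hΓ ha haa hU hU1 hUp hUinv
    exact hkn (hS x hx hxx hxs k hk hkx)
  set n := finrank F V with hndef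
  let B := Module.finBasis F V
  let M : Matrix (Fin n) (Fin n) F := LinearMap.toMatrixAlgEquiv B d
  let L := M.charpoly.SplittingField
  haveI : Finite L := Module.finite_of_finite F
  haveI : Fintype L := Fintype.ofFinite L
  haveI : CharP L p := charP_of_injective_algebraMap (algebraMap F L).injective p
  set φ := embed B L with hφ
  have hsplit := SplittingField.splits M.charpoly
  by_cases hroots : ∀ μ ∈ (M.charpoly.map (algebraMap F L)).roots, μ ^ 4 = 1
  · -- `d ^ 4` is unipotent
    have hnil : (d ^ 4 - 1) ^ n = 0 := by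
      apply embed_injective B L
      rw [map_zero, map_pow, map_sub, map_pow, map_one]
      have hch : (φ d).charpoly = M.charpoly.map (algebraMap F L) := by
        rw [← Matrix.charpoly_map]; rfl
      have hcard : (M.charpoly.map (algebraMap F L)).roots.card = n := by
        rw [← hsplit.natDegree_eq_card_roots, Polynomial.natDegree_map,
          Matrix.charpoly_natDegree_eq_dim, Fintype.card_fin]
      have hdvd : (φ d).charpoly ∣ (X ^ 4 - 1 : L[X]) ^ n := by
        rw [hch, hsplit.eq_prod_roots_of_monic ((M.charpoly_monic).map _)]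
        have : ∀ m : Multiset L, (∀ μ ∈ m, μ ^ 4 = 1) →
            (m.map (fun μ => X - C μ)).prod ∣ (X ^ 4 - 1 : L[X]) ^ m.card := by
          intro m hm
          induction m using Multiset.induction_on with
          | empty => simp
          | cons μ m ih =>
            rw [Multiset.map_cons, Multiset.prod_cons, Multiset.card_cons, pow_succ']
            refine mul_dvd_mul ?_ (ih fun ν hν => hm ν (Multiset.mem_cons_of_mem hν))
            rw [Polynomial.dvd_iff_isRoot]
            simp [hm μ (Multiset.mem_cons_self μ m)]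
        have := this _ hroots
        rwa [hcard] at this
      obtain ⟨q, hq⟩ := hdvd
      have := congrArg (Polynomial.aeval (φ d)) hq
      rw [_root_.map_mul (Polynomial.aeval (φ d)), Matrix.aeval_self_charpoly, zero_mul] at this
      simpa using this
    haveI : CharP E p := charP_of_injective_algebraMap (algebraMap F E).injective p
    obtain ⟨k, hk⟩ : ∃ k : ℕ, n ≤ p ^ k := ⟨n, (Nat.lt_pow_self (Fact.out : p.Prime).one_lt).le⟩
    have hpk : (d ^ 4) ^ p ^ k = 1 := by
      have h5 : (d ^ 4 - 1) ^ p ^ k = 0 := pow_eq_zero_of_le hk hnil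
      rwa [sub_pow_char_pow_of_commute _ _ (Commute.one_right _), one_pow, sub_eq_zero] at h5
    obtain ⟨m, hm1, hmp⟩ := unit_pow_eq_one hd4 hpk
    rw [← pow_mul] at hm1
    rw [← pow_mul d 4 m] at hmp
    exact finish _ (hdpΓ _) hm1 hmp (hdinv _)
  push Not at hroots
  obtain ⟨μ, hμ, hμ4⟩ := hroots
  obtain ⟨v, hv0, hv⟩ : ∃ v : Fin n → L, v ≠ 0 ∧ φ d *ᵥ v = μ • v := by
    have hr : ((φ d).charpoly).IsRoot μ := by
      have hch : (φ d).charpoly = M.charpoly.map (algebraMap F L) := by
        rw [← Matrix.charpoly_map]; rfl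
      rw [hch]
      exact (Polynomial.mem_roots ((M.charpoly_monic).map _).ne_zero).1 hμ
    obtain ⟨v, hv0, hv⟩ := Matrix.exists_mulVec_eq_zero_iff.2 (by
      rw [Polynomial.IsRoot, Matrix.eval_charpoly] at hr
      exact hr)
    refine ⟨v, hv0, ?_⟩
    rw [Matrix.sub_mulVec, sub_eq_zero] at hv
    rw [← hv]
    ext x
    simp [Matrix.scalar, Matrix.mulVec_diagonal]
  have hsq : InG Γ (quarter i s) := by
    rw [hs, ← quarter_conj h1]; exact InG.conj hg (hΓ.quarter a ha haa) h1
  obtain ⟨U, hU, hU1, hUp, hUinv⟩ := h.exists_inverted_of_eigen hF hp2 B hΓ ha haa hsΓ hsq hss hμ4 hv0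
    (show embed B L (a * s) *ᵥ v = μ • v from hv)
  exact finish U hU hU1 hUp hUinv

end Pauli

end CfsgLib.Classical.PauliMax
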