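import Cfsg.Agent.Lib.Classical.PauliMax.Tools
import Cfsg.Agent.Lib.Classical.SLBasic

/-!
# Maps supported on the fixed space of an involution, and sign bases
-/

set_option autoImplicit false
set_option linter.unusedSectionVars false
set_option maxHeartbeats 400000

namespace CfsgLib.Classical.PauliMax

open Module

variable {F : Type*} [Field F] {V : Type*} [AddCommGroup V] [Module F V] [FiniteDimensional F V]

local notation "E" => Module.End F V

/-- The map equal to `x` on the fixed space of `a` and to the identity on the other eigenspace. -/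
def lift (a : Module.End F V) (x : Module.End F (plusSpace a)) : Module.End F V :=
  (plusSpace a).subtype ∘ₗ x ∘ₗ (proj a).rangeRestrict + proj (-a)

section

variable {a : Module.End F V} (ha : a * a = 1) (h2 : (2 : F) ≠ 0)
include ha h2

theorem rangeRestrict_coe (w : plusSpace a) : (proj a).rangeRestrict (w : V) = w :=
  Subtype.ext (apply_of_mem ha h2 w)

theorem rangeRestrict_minus (v : V) : (proj a).rangeRestrict (proj (-a) v) = 0 :=
  Subtype.ext (LinearMap.congr_fun (proj_neg_mul ha h2) v)

theorem minus_coe (w : plusSpace a) : proj (-a) (w : V) = 0 := by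
  have := LinearMap.congr_fun (proj_neg_mul (a := -a) (by rw [neg_mul_neg, ha]) h2) (w : V)
  rw [neg_neg, Module.End.mul_apply, apply_of_mem ha h2] at this
  exact this

theorem minus_minus (v : V) : proj (-a) (proj (-a) v) = proj (-a) v :=
  LinearMap.congr_fun (proj_mul_self (a := -a) (by rw [neg_mul_neg, ha]) h2) v

theorem plus_add_minus (v : V) : ((proj a).rangeRestrict v : V) + proj (-a) v = v :=
  LinearMap.congr_fun (proj_add_neg ha h2) v

theorem lift_one : lift a (1 : Module.End F (plusSpace a)) = 1 := by
  refine LinearMap.ext fun v => ?_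
  exact plus_add_minus ha h2 v

theorem lift_mul (x y : Module.End F (plusSpace a)) : lift a x * lift a y = lift a (x * y) := by
  refine LinearMap.ext fun v => ?_
  simp [lift, rangeRestrict_coe ha h2, rangeRestrict_minus ha h2, minus_coe ha h2, minus_minus ha h2]

theorem lift_res {f : E} (hf : f * a = a * f) (hfix : f * proj (-a) = proj (-a)) : lift a (res a f) = f := by
  refine LinearMap.ext fun v => ?_
  have e1 : ((res a f ((proj a).rangeRestrict v) : plusSpace a) : V) = f ((proj a).rangeRestrict v : V) := by
    rw [res_apply, apply_comm ha h2 hf]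
  calc lift a (res a f) v = ((res a f ((proj a).rangeRestrict v) : plusSpace a) : V) + proj (-a) v := rfl
    _ = f ((proj a).rangeRestrict v : V) + f (proj (-a) v) := by
      rw [e1, ← Module.End.mul_apply f (proj (-a)), hfix]
    _ = f v := by rw [← map_add, plus_add_minus ha h2]

theorem lift_conj {g g' : E} (hga : g * a = a * g) (h1 : g * g' = 1) (hg'a : g' * a = a * g')
    (z : Module.End F (plusSpace a)) : g * lift a z * g' = lift a (res a g * z * res a g') := by
  refine LinearMap.ext fun v => ?_
  have e1 : ∀ w : plusSpace a, g (w : V) = (res a g w : V) := fun w => by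
    rw [res_apply, apply_comm ha h2 hga]
  have e2 : (proj a).rangeRestrict (g' v) = res a g' ((proj a).rangeRestrict v) := Subtype.ext (by
    rw [res_apply, apply_comm ha h2 hg'a]
    exact (LinearMap.congr_fun (comm_proj ha h2 hg'a) v).symm)
  have e3 : g (proj (-a) (g' v)) = proj (-a) v := by
    have h5 := comm_proj (a := -a) (f := g) (by rw [neg_mul_neg, ha]) h2 (by rw [mul_neg, hga, neg_mul])
    have := LinearMap.congr_fun h5 (g' v)
    rw [Module.End.mul_apply, Module.End.mul_apply, ← Module.End.mul_apply g g', h1] at this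
    exact this
  simp [lift, e1, e2, e3]

theorem isCompl_plus_minus : IsCompl (plusSpace a) (plusSpace (-a)) := by
  constructor
  · rw [Submodule.disjoint_def]
    intro v hp hm
    have e1 := apply_of_mem ha h2 ⟨v, hp⟩
    have e2 := minus_coe ha h2 ⟨v, hp⟩
    have e3 := apply_of_mem (a := -a) (by rw [neg_mul_neg, ha]) h2 ⟨v, hm⟩
    simp only at e2 e3
    rw [← e3, e2]
  · rw [codisjoint_iff, eq_top_iff]
    intro v _
    rw [← plus_add_minus ha h2 v]
    exact Submodule.add_mem_sup ((proj a).rangeRestrict v).2 ⟨v, rfl⟩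

/-- A basis of eigenvectors of two commuting involutions. -/
theorem exists_sign_basis {d : E} (hd : d * d = 1) (hda : d * a = a * d) :
    ∃ (n : ℕ) (B : Basis (Fin n) F V) (s t : Fin n → F),
      (∀ k, (s k = 1 ∨ s k = -1) ∧ a (B k) = s k • B k) ∧ ∀ k, (t k = 1 ∨ t k = -1) ∧ d (B k) = t k • B k := by
  have one : ∀ (W : Submodule F V), (∀ w : W, d (w : V) ∈ W) →
      ∃ (n : ℕ) (B : Basis (Fin n) F W) (t : Fin n → F),
        ∀ k, (t k = 1 ∨ t k = -1) ∧ d (B k : V) = t k • (B k : V) := by
    intro W hW
    let D : Module.End F W := (d ∘ₗ W.subtype).codRestrict W hW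
    have hDD : D * D = 1 := LinearMap.ext fun w => Subtype.ext (LinearMap.congr_fun hd (w : V))
    have hDD' : (-D : Module.End F W) * -D = 1 := (neg_mul_neg D D).trans hDD
    have hc : IsCompl (plusSpace D) (plusSpace (-D)) := by
      constructor
      · rw [Submodule.disjoint_def]
        intro v hp hm
        have e3 : (-D) v = v := a_apply_of_mem hDD' h2 ⟨v, hm⟩
        have e1 : D v = v := a_apply_of_mem hDD h2 ⟨v, hp⟩
        rw [LinearMap.neg_apply, e1] at e3
        have : (2 : F) • v = 0 := by rw [two_smul]; nth_rw 1 [← e3]; exact neg_add_cancel v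
        exact (smul_eq_zero.1 this).resolve_left h2
      · rw [codisjoint_iff, eq_top_iff]
        intro v _
        rw [show v = proj D v + proj (-D) v from (LinearMap.congr_fun (proj_add_neg hDD h2) v).symm]
        exact Submodule.add_mem_sup ⟨v, rfl⟩ ⟨v, rfl⟩
    let B0 := ((Module.finBasis F (plusSpace D)).prod (Module.finBasis F (plusSpace (-D)))).map
      (Submodule.prodEquivOfIsCompl _ _ hc)
    refine ⟨_, B0.reindex finSumFinEquiv, fun k => Sum.elim (fun _ => 1) (fun _ => -1) (finSumFinEquiv.symm k),
      fun k => ?_⟩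
    simp only [Basis.reindex_apply]
    generalize finSumFinEquiv.symm k = m
    rcases m with m | m
    · refine ⟨.inl rfl, ?_⟩
      have hv : B0 (Sum.inl m) = (Module.finBasis F (plusSpace D) m : W) := by simp [B0]
      have e : D (B0 (Sum.inl m)) = B0 (Sum.inl m) := by rw [hv]; exact a_apply_of_mem hDD h2 _
      exact (congrArg Subtype.val e).trans (one_smul F _).symm
    · refine ⟨.inr rfl, ?_⟩
      have hv : B0 (Sum.inr m) = (Module.finBasis F (plusSpace (-D)) m : W) := by simp [B0]
      have e : (-D) (B0 (Sum.inr m)) = B0 (Sum.inr m) := by rw [hv]; exact a_apply_of_mem hDD' h2 _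
      rw [LinearMap.neg_apply, neg_eq_iff_eq_neg] at e
      exact (congrArg Subtype.val e).trans (by simp)
  have hnaa : -a * -a = 1 := by rw [neg_mul_neg, ha]
  have hdna : d * -a = -a * d := by rw [mul_neg, hda, neg_mul]
  obtain ⟨n₁, B₁, t₁, h₁⟩ := one (plusSpace a) fun w => ⟨d (w : V), apply_comm ha h2 hda w⟩
  obtain ⟨n₂, B₂, t₂, h₂'⟩ := one (plusSpace (-a)) fun w => ⟨d (w : V), apply_comm hnaa h2 hdna w⟩
  let B0 := (B₁.prod B₂).map (Submodule.prodEquivOfIsCompl _ _ (isCompl_plus_minus ha h2))
  refine ⟨n₁ + n₂, B0.reindex finSumFinEquiv, fun k => Sum.elim (fun _ => 1) (fun _ => -1) (finSumFinEquiv.symm k),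
    fun k => Sum.elim t₁ t₂ (finSumFinEquiv.symm k), fun k => ?_, fun k => ?_⟩ <;>
    simp only [Basis.reindex_apply] <;> generalize finSumFinEquiv.symm k = m <;> rcases m with m | m
  · exact ⟨.inl rfl, by simpa [B0] using a_apply_of_mem ha h2 (B₁ m)⟩
  · refine ⟨.inr rfl, ?_⟩
    have e := a_apply_of_mem hnaa h2 (B₂ m)
    rw [LinearMap.neg_apply, neg_eq_iff_eq_neg] at e
    simpa [B0] using e
  · exact ⟨(h₁ m).1, by simpa [B0] using (h₁ m).2⟩
  · exact ⟨(h₂' m).1, by simpa [B0] using (h₂' m).2⟩

end

/-- The matrix of a map with a basis of eigenvectors. -/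
theorem matrix_eq_diagonal {ι : Type*} [Fintype ι] [DecidableEq ι] (B : Basis ι F V) {f : E} {s : ι → F}
    (hs : ∀ k, f (B k) = s k • B k) : LinearMap.toMatrixAlgEquiv B f = Matrix.diagonal s := by
  ext r c
  rw [LinearMap.toMatrixAlgEquiv_apply, hs, map_smul, Basis.repr_self, Finsupp.smul_apply, smul_eq_mul,
    Finsupp.single_apply, Matrix.diagonal_apply]
  by_cases e : r = c
  · simp [e]
  · simp [e, Ne.symm e]

/-- A multiplicative property of the elementary maps holds for all maps of determinant one. -/
theorem of_elementary {ι : Type*} [Fintype ι] [DecidableEq ι] (B : Basis ι F V) (P : E → Prop) (h1 : P 1)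
    (hmul : ∀ f g, P f → P g → P (f * g))
    (hel : ∀ j k : ι, j ≠ k → ∀ c : F, P ((LinearMap.toMatrixAlgEquiv B).symm (Matrix.transvection j k c)))
    {f : E} (hf : LinearMap.det f = 1) : P f := by
  have key := sl_transvection_induction
    (fun A : Matrix.SpecialLinearGroup ι F => P ((LinearMap.toMatrixAlgEquiv B).symm (A : Matrix ι ι F)))
    (by simpa using h1) (fun j k hjk c => by simpa [Matrix.SpecialLinearGroup.transvection_coe, Matrix.transvection] using hel j k hjk c)
    (fun A C hA hC => by simpa [map_mul] using hmul _ _ hA hC)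
    ⟨LinearMap.toMatrixAlgEquiv B f, by rw [← hf, ← LinearMap.det_toMatrix B]; rfl⟩
  simpa using key

end CfsgLib.Classical.PauliMax
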