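import Cfsg.Agent.Lib.Classical.Dickson.Main

/-!
# Subgroups of `PGL₂` with two elements of order four
-/

set_option autoImplicit false
set_option linter.unusedSectionVars false
set_option linter.style.haveILetI false
set_option maxHeartbeats 400000

namespace CfsgLib.Classical.PauliMax

open Matrix OnePoint MulAction CfsgLib.Classical.Dickson
open scoped MatrixGroups

theorem dihedral_sq {n : ℕ} {x y : DihedralGroup n} [NeZero n] (hx : x ^ 4 = 1) (hy : y ^ 4 = 1)
    (hx2 : x ^ 2 ≠ 1) (hy2 : y ^ 2 ≠ 1) : x ^ 2 = y ^ 2 := by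
  have key : ∀ z : DihedralGroup n, z ^ 4 = 1 → z ^ 2 ≠ 1 →
      ∃ j : ZMod n, z ^ 2 = DihedralGroup.r (2 * j) ∧ 2 * (2 * j) = 0 ∧ 2 * j ≠ 0 := by
    intro z h4 h2
    rcases z with j | j
    · rw [DihedralGroup.r_pow] at h4 h2 ⊢
      rw [DihedralGroup.one_def, DihedralGroup.r.injEq] at h4
      refine ⟨j, by rw [mul_comm]; norm_num, by rw [← h4]; push_cast; ring, fun e => h2 ?_⟩
      rw [DihedralGroup.one_def]
      congr 1
      rw [← e]; push_cast; ring
    · exact absurd (by rw [pow_two, DihedralGroup.sr_mul_self]) h2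
  obtain ⟨j, hj, hj4, hj2⟩ := key x hx hx2
  obtain ⟨k, hk, hk4, hk2⟩ := key y hy hy2
  rw [hj, hk]
  congr 1
  have two : ∀ u : ZMod n, 2 * u = 0 → u ≠ 0 → 2 * u.val = n := by
    intro u hu hu0
    have hlt := ZMod.val_lt u
    have hpos : 0 < u.val := Nat.pos_of_ne_zero fun e => hu0 ((ZMod.val_eq_zero u).1 e)
    have hdvd : n ∣ 2 * u.val := (CharP.cast_eq_zero_iff (ZMod n) n _).1 (by
      rw [Nat.cast_mul, ZMod.natCast_val, ZMod.cast_id]; simpa using hu)
    obtain ⟨c, hc⟩ := hdvd
    rcases c with _ | _ | c <;> [omega; omega; nlinarith]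
  exact ZMod.val_injective n (by have := two _ hj4 hj2; have := two _ hk4 hk2; omega)

theorem perm_four_sq : ∀ x y z : Equiv.Perm (Fin 4), x ^ 4 = 1 → y ^ 4 = 1 → z ^ 4 = 1 → x ^ 2 ≠ 1 → y ^ 2 ≠ 1 →
    z ^ 2 ≠ 1 → x ^ 2 ≠ y ^ 2 → z ^ 2 = x ^ 2 ∨ z ^ 2 = y ^ 2 ∨ z ^ 2 = x ^ 2 * y ^ 2 := by
  have hs : ∀ x : Equiv.Perm (Fin 4), x ^ 4 = 1 → x ^ 2 ≠ 1 →
      x ^ 2 ∈ [Equiv.swap 0 1 * Equiv.swap 2 3, Equiv.swap 0 2 * Equiv.swap 1 3,
        (Equiv.swap 0 3 * Equiv.swap 1 2 : Equiv.Perm (Fin 4))] := by decide +kernel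
  intro x y z hx hy hz hx2 hy2 hz2 hne
  have a := hs x hx hx2
  have b := hs y hy hy2
  have c := hs z hz hz2
  simp only [List.mem_cons, List.not_mem_nil, or_false] at a b c
  revert a b c hne
  generalize x ^ 2 = u
  generalize y ^ 2 = v
  generalize z ^ 2 = w
  intro hne a b c
  rcases a with rfl | rfl | rfl <;> rcases b with rfl | rfl | rfl <;> rcases c with rfl | rfl | rfl <;>
    first | exact absurd rfl hne | decide +kernel

theorem perm_four_sq_comm : ∀ x y : Equiv.Perm (Fin 4), x ^ 4 = 1 → y ^ 4 = 1 → x ^ 2 * y ^ 2 = y ^ 2 * x ^ 2 := by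
  decide +kernel

theorem perm_four_exp : ∀ x : Equiv.Perm (Fin 4), x ^ 4 = 1 ∨ x ^ 6 = 1 := by decide +kernel

theorem alt_four_order : ∀ x : alternatingGroup (Fin 4), x ^ 4 = 1 → x ^ 2 = 1 := by decide +kernel

theorem alt_five_order : ∀ x : alternatingGroup (Fin 5), x ^ 4 = 1 → x ^ 2 = 1 := by decide +kernel

variable {L : Type*} [Field L] [Fintype L] [DecidableEq L] (p : ℕ) [hp : Fact p.Prime] [CharP L p]

local notation "PL" => ProjGenLinGroup (Fin 2) L

/-- The matrix of a unipotent element fixing the point `x`. -/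
theorem exists_unip_at (A : Subfield L) (x : OnePoint L) (hx : ∀ k : L, x = (k : OnePoint L) → k ∈ A) :
    ∃ s : SL(2, A), ∀ u : PL, u = ProjGenLinGroup.map A.subtype (SpecialLinearGroup.toPGL s) →
      u ≠ 1 ∧ u ^ p = 1 ∧ u • x = x := by
  cases x with
  | infty =>
    refine ⟨⟨!![1, 1; 0, 1], by simp [det_fin_two]⟩, ?_⟩
    rintro u rfl
    have e : ProjGenLinGroup.map A.subtype (SpecialLinearGroup.toPGL
        (⟨!![1, 1; 0, 1], by simp [det_fin_two]⟩ : SL(2, A))) = aff (1 : Lˣ) (1 : L) := by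
      show ProjGenLinGroup.map A.subtype (ProjGenLinGroup.mk _) = _
      rw [ProjGenLinGroup.map_mk, aff]
      congr 1
      apply Units.ext
      ext a b; fin_cases a <;> fin_cases b <;> simp [affGL, SpecialLinearGroup.toGL]
    rw [e]
    exact ⟨fun h => by simpa using (aff_eq_one_iff.1 h).2, (aff_pow_char_eq_one_iff p _ _).2 rfl, aff_smul_infty _ _⟩
  | coe k =>
    obtain ⟨k, rfl⟩ : ∃ k' : A, (k' : L) = k := ⟨⟨k, hx k rfl⟩, rfl⟩
    refine ⟨⟨!![1 + k, -(k * k); 1, 1 - k], by simp [det_fin_two]; ring⟩, ?_⟩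
    rintro u rfl
    set M : GL (Fin 2) L := GeneralLinearGroup.mkOfDetNeZero !![1 + (k : L), -((k : L) * k); 1, 1 - (k : L)]
      (by simp [det_fin_two]; ring_nf; exact one_ne_zero) with hM
    have e : ProjGenLinGroup.map A.subtype (SpecialLinearGroup.toPGL
        (⟨!![1 + k, -(k * k); 1, 1 - k], by simp [det_fin_two]; ring⟩ : SL(2, A))) = ProjGenLinGroup.mk M := by
      show ProjGenLinGroup.map A.subtype (ProjGenLinGroup.mk _) = _
      rw [ProjGenLinGroup.map_mk]
      congr 1
      apply Units.ext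
      ext a b; fin_cases a <;> fin_cases b <;> simp [hM, SpecialLinearGroup.toGL]
    rw [e]
    have hfix : ProjGenLinGroup.mk M • ((k : L) : OnePoint L) = ((k : L) : OnePoint L) := by
      rw [mk_smul, smul_some_eq_ite, if_neg (by simp [hM])]
      congr 1
      simp [hM]
      ring
    refine ⟨fun h => ?_, ?_, hfix⟩
    · have := congrArg (· • (∞ : OnePoint L)) h
      simp [mk_smul, smul_infty_eq_ite, hM] at this
    · obtain ⟨h, hh⟩ := exists_to_infty ((k : L) : OnePoint L)
      rw [← map_pow]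
      have hpow : (M : Matrix (Fin 2) (Fin 2) L) ^ p = 1 := by
        have hN : ((M : Matrix (Fin 2) (Fin 2) L) - 1) ^ 2 = 0 := by
          rw [pow_two]
          ext a b; fin_cases a <;> fin_cases b <;> simp [hM, Matrix.mul_apply, Fin.sum_univ_two] <;> ring
        have h2 : ((M : Matrix (Fin 2) (Fin 2) L) - 1) ^ p = 0 := by
          rw [show p = 2 + (p - 2) by have := hp.out.two_le; omega, pow_add, hN, zero_mul]
        haveI : CharP (Matrix (Fin 2) (Fin 2) L) p :=
          charP_of_injective_algebraMap (algebraMap L _).injective p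
        rwa [sub_pow_char_of_commute _ (Commute.one_right _), one_pow, sub_eq_zero] at h2
      rw [show M ^ p = 1 from Units.ext (by rw [Units.val_pow_eq_pow_val, hpow, Units.val_one]), map_one]

/-- A group with an element of order four fixing `∞` and `0` and which is not small contains an element of order
`p` inverted by its square. -/
theorem exists_unip_inverted (hp2 : p ≠ 2) (G : Subgroup PL) {ι : Lˣ} (hi : (ι : L) * ι = -1)
    (hiA : ∀ A : Subfield L, (ι : L) ∈ A) (ht : aff ι 0 ∈ G) {s t : PL} (hs : s ∈ G) (hts : t ∈ G)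
    (hsi : s • (∞ : OnePoint L) ≠ ∞) (hs0 : s • ((0 : L) : OnePoint L) ≠ ((0 : L) : OnePoint L))
    (hcomm : aff ι 0 * s ≠ s * aff ι 0) (ht4 : t ^ 4 = 1) (ht2 : t ^ 2 ≠ 1) (htne : t ^ 2 ≠ aff ι 0 ^ 2)
    (hnS : ¬ Nonempty (G ≃* Equiv.Perm (Fin 4))) :
    ∃ g ∈ G, g ≠ 1 ∧ g ^ p = 1 ∧ (aff ι 0 ^ 2) * g * (aff ι 0 ^ 2) = g⁻¹ := by
  classical
  have h2 : (2 : L) ≠ 0 := by
    intro e
    have : (p : ℕ) ∣ 2 := (CharP.cast_eq_zero_iff L p 2).1 (by exact_mod_cast e)
    exact hp2 ((Nat.prime_dvd_prime_iff_eq hp.out Nat.prime_two).1 this)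
  set a := aff ι 0 ^ 2 with hadef
  have ha : a = aff (-1 : Lˣ) 0 := by
    rw [hadef, pow_two, aff_mul]
    congr 1
    · exact Units.ext (by simpa using hi)
    · simp
  have ha4 : aff ι 0 ^ 4 = 1 := by
    rw [show 4 = 2 + 2 from rfl, pow_add, ← hadef, ha, aff_mul]
    exact aff_eq_one_iff.2 ⟨by simp, by simp⟩
  have ha1 : a ≠ 1 := by
    rw [ha, Ne, aff_eq_one_iff]
    rintro ⟨e, -⟩
    have := congrArg Units.val e
    simp only [Units.val_neg, Units.val_one] at this
    exact h2 (by linear_combination -this)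
  have hι1 : aff ι 0 ≠ 1 := fun e => ha1 (by rw [hadef, e, one_pow])
  -- fixed points of the quarter turn
  have hfix2 : ∀ x : OnePoint L, aff ι 0 • x = x → x = ∞ ∨ x = ((0 : L) : OnePoint L) := fun x hx =>
    eq_or_eq_of_fix hι1 (infty_ne_coe 0) (aff_smul_infty _ _) (by rw [aff_smul_coe]; simp) hx
  have main : ∀ (h : PL) (A : Subfield L),
      (∀ z : SL(2, A), ∃ g ∈ G, MulAut.conj h g = ProjGenLinGroup.map A.subtype (SpecialLinearGroup.toPGL z)) →
      (∀ g ∈ G, ∃ z : GL (Fin 2) A, MulAut.conj h g = ProjGenLinGroup.map A.subtype (ProjGenLinGroup.mk z)) →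
      ∃ g ∈ G, g ≠ 1 ∧ g ^ p = 1 ∧ a * g * a = g⁻¹ := by
    intro h A hlow hup
    obtain ⟨z, hz⟩ := hup _ ht
    rw [MulAut.conj_apply] at hz
    set m := ProjGenLinGroup.map A.subtype (ProjGenLinGroup.mk z) with hm
    -- a fixed point of `m` with coordinates in `A`
    obtain ⟨x, hx, hxA⟩ : ∃ x : OnePoint L, m • x = x ∧ ∀ k : L, x = (k : OnePoint L) → k ∈ A := by
      rw [hm, ProjGenLinGroup.map_mk]
      by_cases hc : (z : Matrix (Fin 2) (Fin 2) A) 1 0 = 0
      · refine ⟨∞, ?_, fun k e => absurd e (infty_ne_coe k)⟩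
        rw [mk_smul, smul_infty_eq_self_iff]
        simpa using congrArg A.subtype hc
      · set M : Matrix (Fin 2) (Fin 2) L := (↑(GeneralLinearGroup.map A.subtype z : GL (Fin 2) L) : Matrix (Fin 2) (Fin 2) L)
          with hMdef
        have hM : ∀ r c, M r c = ((z : Matrix (Fin 2) (Fin 2) A) r c : L) := fun r c => rfl
        -- `M` is conjugate to a multiple of `diag(ι, 1)`
        obtain ⟨H, rfl⟩ := ProjGenLinGroup.mk_surjective h
        have hz' : ProjGenLinGroup.mk (H * affGL ι 0 * H⁻¹) =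
            ProjGenLinGroup.mk (GeneralLinearGroup.map A.subtype z) := by
          rw [← ProjGenLinGroup.map_mk, ← hm, ← hz, map_mul, map_mul, map_inv]; rfl
        obtain ⟨u, hu⟩ := ProjGenLinGroup.mk_eq_mk_iff.1 hz'
        have hMu : M = (u : L) • ((H * affGL ι 0 * H⁻¹ : GL (Fin 2) L) : Matrix (Fin 2) (Fin 2) L) := by
          rw [hMdef, ← hu]
          ext r c
          simp [Matrix.mul_apply, Fin.sum_univ_two, Matrix.GeneralLinearGroup.scalar]
          fin_cases c <;> simp [mul_comm]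
        have htr : M 0 0 + M 1 1 = (u : L) * (ι + 1) := by
          have : Matrix.trace M = (u : L) * (ι + 1) := by
            rw [hMu, Matrix.trace_smul, Units.val_mul, Units.val_mul, Matrix.trace_mul_cycle, ← Units.val_mul,
              inv_mul_cancel, Units.val_one, one_mul, Matrix.trace_fin_two]
            simp [affGL]
          simpa [Matrix.trace_fin_two] using this
        have hdet : M 0 0 * M 1 1 - M 0 1 * M 1 0 = (u : L) * u * ι := by
          have : M.det = (u : L) ^ 2 * ι := by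
            rw [hMu, Matrix.det_smul, Units.val_mul, Units.val_mul, Matrix.det_mul, Matrix.det_mul,
              mul_right_comm, ← Matrix.det_mul, ← Units.val_mul, mul_inv_cancel, Units.val_one, Matrix.det_one,
              one_mul]
            simp [affGL]
          rw [Matrix.det_fin_two] at this
          linear_combination this
        have hι1' : (ι : L) + 1 ≠ 0 := by
          intro e
          have : (ι : L) = -1 := by linear_combination e
          rw [this] at hi
          exact h2 (by linear_combination hi)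
        have huA : (u : L) ∈ A := by
          rw [show (u : L) = (M 0 0 + M 1 1) / (ι + 1) by rw [htr, mul_div_cancel_right₀ _ hι1']]
          exact A.div_mem (A.add_mem (by rw [hM]; exact SetLike.coe_mem _) (by rw [hM]; exact SetLike.coe_mem _))
            (A.add_mem (hiA A) A.one_mem)
        have hc' : M 1 0 ≠ 0 := fun e => hc (Subtype.ext (by rw [← hM, e]; rfl))
        refine ⟨(((u : L) * ι - M 1 1) / M 1 0 : L), ?_, fun k e => ?_⟩
        · rw [mk_smul, smul_some_eq_ite, ← hMdef, if_neg]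
          · congr 1
            rw [mul_div_cancel₀ _ hc', sub_add_cancel, div_eq_iff (mul_ne_zero u.ne_zero ι.ne_zero), div_mul_eq_mul_div,
              mul_div_assoc', div_add' _ _ _ hc', div_eq_div_iff hc' hc']
            linear_combination ((u : L) * ι * M 1 0) * htr - M 1 0 * hdet
          · rw [mul_div_cancel₀ _ hc', sub_add_cancel]
            exact mul_ne_zero u.ne_zero ι.ne_zero
        · rw [coe_eq_coe] at e
          rw [← e]
          exact A.div_mem (A.sub_mem (A.mul_mem huA (hiA A)) (by rw [hM]; exact SetLike.coe_mem _))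
            (by rw [hM]; exact SetLike.coe_mem _)
    obtain ⟨sl, hsl⟩ := exists_unip_at p A x hxA
    obtain ⟨g, hg, hgc⟩ := hlow sl
    obtain ⟨hu1, hup', hux⟩ := hsl _ rfl
    rw [← hgc] at hu1 hup' hux
    have hg1 : g ≠ 1 := fun e => hu1 (by rw [e, map_one])
    have hgp : g ^ p = 1 := (MulAut.conj h).injective (by rw [map_pow, map_one, hup'])
    refine ⟨g, hg, hg1, hgp, ?_⟩
    have hgy : g • (h⁻¹ • x) = h⁻¹ • x := by
      rw [MulAut.conj_apply, mul_smul, mul_smul, ← eq_inv_smul_iff] at hux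
      exact hux
    have hy : aff ι 0 • (h⁻¹ • x) = h⁻¹ • x := by
      rw [← hz, mul_smul, mul_smul, ← eq_inv_smul_iff] at hx
      exact hx
    rcases hfix2 _ hy with e | e
    · rw [e] at hgy
      obtain ⟨c, d, rfl⟩ := exists_aff hgy
      obtain rfl := (aff_pow_char_eq_one_iff p c d).1 hgp
      rw [ha, aff_mul, aff_mul, eq_inv_iff_mul_eq_one, aff_mul]
      exact aff_eq_one_iff.2 ⟨Units.ext (by simp), by simp⟩
    · rw [e] at hgy
      set w : PL := ProjGenLinGroup.mk (GeneralLinearGroup.mkOfDetNeZero !![(0 : L), 1; 1, 0]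
        (by simp [det_fin_two])) with hw
      have hww : w * w = 1 := by
        rw [hw, ← map_mul, show (GeneralLinearGroup.mkOfDetNeZero !![(0 : L), 1; 1, 0]
          (by simp [det_fin_two]) * GeneralLinearGroup.mkOfDetNeZero !![(0 : L), 1; 1, 0]
          (by simp [det_fin_two]) : GL (Fin 2) L) = 1 by
            apply Units.ext; ext r c; fin_cases r <;> fin_cases c <;> simp [Matrix.mul_apply, Fin.sum_univ_two],
          map_one]
      have hw0 : w • (∞ : OnePoint L) = ((0 : L) : OnePoint L) := by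
        rw [hw, mk_smul, smul_infty_eq_ite]; simp
      have hwa : w * a * w = a := by
        rw [ha, hw, aff, ← map_mul, ← map_mul, ProjGenLinGroup.mk_eq_mk_iff]
        refine ⟨-1, ?_⟩
        apply Units.ext
        ext r c; fin_cases r <;> fin_cases c <;>
          simp [affGL, Matrix.mul_apply, Fin.sum_univ_two, Matrix.GeneralLinearGroup.scalar]
      have hwgi : (w * g * w) • (∞ : OnePoint L) = ∞ := by
        rw [mul_smul, mul_smul, hw0, hgy, ← hw0, ← mul_smul, hww, one_smul]
      obtain ⟨c, d, hcd⟩ := exists_aff hwgi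
      have hcp : (w * g * w) ^ p = 1 := by
        have hinv : w⁻¹ = w := inv_eq_of_mul_eq_one_right hww
        nth_rw 2 [← hinv]
        rw [conj_pow, hgp, mul_one, mul_inv_cancel]
      rw [hcd] at hcp
      obtain rfl := (aff_pow_char_eq_one_iff p c d).1 hcp
      have h3 : a * (w * g * w) * a = (w * g * w)⁻¹ := by
        rw [hcd, ha, aff_mul, aff_mul, eq_inv_iff_mul_eq_one, aff_mul]
        exact aff_eq_one_iff.2 ⟨Units.ext (by simp), by simp⟩
      have hinv : w⁻¹ = w := inv_eq_of_mul_eq_one_right hww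
      have hwa' : a * w = w * a := by
        conv_lhs => rw [← hwa, mul_assoc, hww, mul_one]
      have h4 : w * (a * g * a) * w = w * g⁻¹ * w := by
        calc w * (a * g * a) * w = a * (w * g * w) * a := by
              simp only [← mul_assoc, hwa']
              simp only [mul_assoc, hwa']
          _ = w * g⁻¹ * w := by rw [h3, _root_.mul_inv_rev, _root_.mul_inv_rev, hinv, ← mul_assoc]
      exact mul_left_cancel (mul_right_cancel h4)
  rcases Dickson.kind p G with ⟨x, hfix⟩ | ⟨c, hc, -⟩ | ⟨c, -, -, hc2, ⟨f⟩⟩ | ⟨⟨f⟩⟩ | ⟨⟨f⟩⟩ | ⟨⟨f⟩⟩ |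
    ⟨A, h, hG⟩ | ⟨A, -, h, hG⟩
  · rcases hfix2 x (hfix _ ht) with rfl | rfl
    · exact absurd (hfix _ hs) hsi
    · exact absurd (hfix _ hs) hs0
  · refine absurd ?_ hcomm
    rw [hc] at ht hs
    obtain ⟨k, hk⟩ := Subgroup.mem_zpowers_iff.1 ht
    obtain ⟨l, hl⟩ := Subgroup.mem_zpowers_iff.1 hs
    rw [← hk, ← hl]
    exact ((Commute.refl c).zpow_zpow k l).eq
  · haveI : NeZero (orderOf c) := ⟨by omega⟩
    refine absurd ?_ htne
    have key := dihedral_sq (x := f ⟨t, hts⟩) (y := f ⟨_, ht⟩) (by rw [← map_pow, map_eq_one_iff f f.injective]; exact Subtype.ext ht4)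
      (by rw [← map_pow, map_eq_one_iff f f.injective]; exact Subtype.ext ha4)
      (fun e => ht2 (by
        rw [← map_pow, map_eq_one_iff f f.injective] at e
        exact congrArg Subtype.val e))
      (fun e => ha1 (by
        rw [← map_pow, map_eq_one_iff f f.injective] at e
        exact congrArg Subtype.val e))
    rw [← map_pow, ← map_pow] at key
    exact congrArg Subtype.val (f.injective key)
  · refine absurd ?_ ha1
    have := alt_four_order (f ⟨_, ht⟩) (by rw [← map_pow, map_eq_one_iff f f.injective]; exact Subtype.ext ha4)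
    rw [← map_pow, map_eq_one_iff f f.injective] at this
    exact congrArg Subtype.val this
  · exact absurd ⟨f⟩ hnS
  · refine absurd ?_ ha1
    have := alt_five_order (f ⟨_, ht⟩) (by rw [← map_pow, map_eq_one_iff f f.injective]; exact Subtype.ext ha4)
    rw [← map_pow, map_eq_one_iff f f.injective] at this
    exact congrArg Subtype.val this
  · refine main h A (fun z => ?_) (fun g hg => ?_)
    · have : ProjGenLinGroup.map A.subtype (SpecialLinearGroup.toPGL z) ∈ G.map (MulAut.conj h).toMonoidHom := by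
        rw [hG]; exact ⟨_, rfl⟩
      exact this
    · obtain ⟨y, hy⟩ := hG.le (Subgroup.mem_map_of_mem _ hg)
      obtain ⟨z, rfl⟩ := ProjGenLinGroup.mk_surjective y
      exact ⟨z, hy.symm⟩
  · refine main h A (fun z => ?_) (fun g hg => ?_)
    · have : ProjGenLinGroup.map A.subtype (SpecialLinearGroup.toPGL z) ∈ G.map (MulAut.conj h).toMonoidHom := by
        rw [hG]; exact ⟨z, rfl⟩
      exact this
    · obtain ⟨z, hz⟩ := hG.le (Subgroup.mem_map_of_mem _ hg)
      exact ⟨SpecialLinearGroup.toGL z, hz.symm⟩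

end CfsgLib.Classical.PauliMax
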