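import Mathlib

/-!
# Systems of anticommuting matrices

A `Pauli` system is a set of linear maps, closed under products, containing a square root of minus one among the
scalars, with squares `±1`, any two members commuting or anticommuting, spanning all linear maps.
-/

set_option autoImplicit false
set_option linter.unusedSectionVars false

namespace CfsgLib.Classical.PauliMax

open Module

variable {F : Type*} [Field F] {V : Type*} [AddCommGroup V] [Module F V] [FiniteDimensional F V]

local notation "E" => Module.End F V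

/-- Scalar linear maps. -/
def IsScalarMap (x : Module.End F V) : Prop := ∃ c : F, x = c • (1 : Module.End F V)

/-- A system of pairwise commuting or anticommuting square roots of `±1` spanning all linear maps. -/
structure Pauli (i : F) (R : Set (Module.End F V)) : Prop where
  hi : i * i = -1
  two_ne : (2 : F) ≠ 0
  one_mem : (1 : Module.End F V) ∈ R
  mul_mem : ∀ x ∈ R, ∀ y ∈ R, x * y ∈ R
  i_mem : i • (1 : Module.End F V) ∈ R
  sq : ∀ x ∈ R, x * x = 1 ∨ x * x = -1
  comm : ∀ x ∈ R, ∀ y ∈ R, y * x = x * y ∨ y * x = -(x * y)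
  full : Submodule.span F R = ⊤

namespace Pauli

variable {i : F} {R : Set (Module.End F V)} (h : Pauli i R)
include h

theorem i_ne : i ≠ 0 := fun e => by simpa [e] using h.hi

theorem i_smul_mem {x : E} (hx : x ∈ R) : i • x ∈ R := by
  have := h.mul_mem _ h.i_mem x hx
  rwa [smul_mul_assoc, one_mul] at this

theorem neg_mem {x : E} (hx : x ∈ R) : -x ∈ R := by
  have := h.i_smul_mem (h.i_smul_mem hx)
  rwa [smul_smul, h.hi, neg_smul, one_smul] at this

theorem sign_smul_mem {x : E} (hx : x ∈ R) {c : F} (hc : c = 1 ∨ c = -1) : c • x ∈ R := by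
  rcases hc with rfl | rfl
  · rwa [one_smul]
  · rw [neg_smul, one_smul]; exact h.neg_mem hx

theorem root_smul_mem {x : E} (hx : x ∈ R) {c : F} (hc : c * c = 1 ∨ c * c = -1) : c • x ∈ R := by
  rcases hc with hc | hc
  · exact h.sign_smul_mem hx (mul_self_eq_one_iff.1 hc)
  · have h1 : (c * i) * (c * i) = 1 := by linear_combination (i * i) * hc + (-1 : F) * h.hi
    have h2 := h.i_smul_mem (h.sign_smul_mem hx (mul_self_eq_one_iff.1 h1))
    rw [smul_smul] at h2
    rw [show c = -(i * (c * i)) by linear_combination c * h.hi, neg_smul]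
    exact h.neg_mem h2

theorem neg_one_ne [Nontrivial V] : (-1 : E) ≠ 1 := fun e => by
  have h1 : (2 : F) • (1 : E) = 0 := by rw [two_smul]; nth_rw 1 [← e]; exact neg_add_cancel 1
  exact (smul_eq_zero.1 h1).elim h.two_ne one_ne_zero

theorem sq_sign {x : E} (hx : x ∈ R) : ∃ s : F, (s = 1 ∨ s = -1) ∧ x * x = s • 1 := by
  rcases h.sq x hx with e | e
  · exact ⟨1, .inl rfl, by rw [e, one_smul]⟩
  · exact ⟨-1, .inr rfl, by rw [e, neg_smul, one_smul]⟩

theorem comm_sign {x y : E} (hx : x ∈ R) (hy : y ∈ R) :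
    ∃ s : F, (s = 1 ∨ s = -1) ∧ y * x = s • (x * y) := by
  rcases h.comm x hx y hy with e | e
  · exact ⟨1, .inl rfl, by rw [e, one_smul]⟩
  · exact ⟨-1, .inr rfl, by rw [e, neg_smul, one_smul]⟩

theorem isUnit {x : E} (hx : x ∈ R) : IsUnit x := by
  rcases h.sq x hx with e | e
  · exact ⟨⟨x, x, e, e⟩, rfl⟩
  · exact ⟨⟨x, -x, by rw [mul_neg, e, neg_neg], by rw [neg_mul, e, neg_neg]⟩, rfl⟩

theorem ne_zero [Nontrivial V] {x : E} (hx : x ∈ R) : x ≠ 0 := fun e => by
  have := h.isUnit hx
  rw [e, isUnit_zero_iff] at this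
  exact zero_ne_one this

theorem mul_left_cancel' {x : E} (hx : x ∈ R) {f g : E} (e : x * f = x * g) : f = g :=
  (h.isUnit hx).mul_left_cancel e

/-- An element commuting with the whole system is a scalar. -/
theorem scalar_of_comm {x : E} (hc : ∀ y ∈ R, y * x = x * y) : IsScalarMap x := by
  have hall : ∀ f : E, f * x = x * f := by
    intro f
    have hle : Submodule.span F R ≤ LinearMap.ker (LinearMap.mulRight F x - LinearMap.mulLeft F x) :=
      Submodule.span_le.2 fun y hy => by simp [hc y hy]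
    have := hle (h.full.symm ▸ Submodule.mem_top (x := f))
    simpa [sub_eq_zero] using this
  have hx : x ∈ Subalgebra.center F E := Subalgebra.mem_center_iff.2 hall
  rw [Algebra.IsCentral.center_eq_bot F E] at hx
  obtain ⟨c, hc'⟩ := Algebra.mem_bot.1 hx
  exact ⟨c, by rw [← hc', Algebra.algebraMap_eq_smul_one]⟩

theorem exists_anti {x : E} (hx : x ∈ R) (hns : ¬ IsScalarMap x) : ∃ y ∈ R, y * x = -(x * y) := by
  by_contra hcon
  push Not at hcon
  exact hns (h.scalar_of_comm fun y hy => (h.comm x hx y hy).resolve_right (hcon y hy))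

theorem not_scalar_of_anti {x y : E} [Nontrivial V] (hx : x ∈ R) (hy : y ∈ R) (ha : y * x = -(x * y)) :
    ¬ IsScalarMap x := by
  rintro ⟨c, rfl⟩
  have h1 : (2 : F) • ((c • (1 : E)) * y) = 0 := by
    rw [two_smul]
    nth_rw 1 [show (c • (1 : E)) * y = y * (c • 1) by simp]
    rw [ha, neg_add_cancel]
  rcases smul_eq_zero.1 h1 with e | e
  · exact h.two_ne e
  · exact h.ne_zero (h.mul_mem _ hx _ hy) e

theorem trace_eq_zero {x : E} (hx : x ∈ R) (hns : ¬ IsScalarMap x) : LinearMap.trace F V x = 0 := by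
  obtain ⟨y, hy, ha⟩ := h.exists_anti hx hns
  obtain ⟨s, hs, hyy⟩ := h.sq_sign hy
  have h1 : LinearMap.trace F V (y * (x * y)) = LinearMap.trace F V (x * y * y) := LinearMap.trace_mul_comm F _ _
  have h2 : y * (x * y) = -(s • x) := by
    rw [← mul_assoc, ha, neg_mul, mul_assoc, hyy, mul_smul_comm, mul_one]
  have h3 : x * y * y = s • x := by rw [mul_assoc, hyy, mul_smul_comm, mul_one]
  rw [h2, h3, map_neg] at h1
  have h4 : (2 : F) * LinearMap.trace F V (s • x) = 0 := by linear_combination -h1
  rw [map_smul, smul_eq_mul] at h4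
  rcases hs with rfl | rfl <;> simpa [h.two_ne] using h4

/-- If `e * y` is not traceless then `y` is a multiple of `e`. -/
theorem eq_smul_of_trace {e y : E} (he : e ∈ R) (hy : y ∈ R) (ht : LinearMap.trace F V (e * y) ≠ 0) :
    ∃ c : F, y = c • e := by
  by_contra hcon
  refine ht (h.trace_eq_zero (h.mul_mem _ he _ hy) fun ⟨c, hc⟩ => hcon ?_)
  obtain ⟨s, hs, hee⟩ := h.sq_sign he
  refine ⟨s * c, ?_⟩
  have := congrArg (e * ·) hc
  simp only [← mul_assoc, hee, smul_mul_assoc, one_mul, mul_smul_comm, mul_one] at this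
  rw [← smul_smul, ← this, smul_smul, show s * s = 1 by rcases hs with rfl | rfl <;> ring, one_smul]

theorem mul_eq_smul {x y : E} (hx : x ∈ R) (hc : IsScalarMap (x * y)) : ∃ c : F, y = c • x := by
  obtain ⟨c, hc⟩ := hc
  obtain ⟨s, hs, hxx⟩ := h.sq_sign hx
  refine ⟨s * c, ?_⟩
  have := congrArg (x * ·) hc
  simp only [← mul_assoc, hxx, smul_mul_assoc, one_mul, mul_smul_comm, mul_one] at this
  rw [← smul_smul, ← this, smul_smul, show s * s = 1 by rcases hs with rfl | rfl <;> ring, one_smul]

/-- A non-zero map commuting up to signs with the whole system is a multiple of a member. -/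
theorem exists_line [Finite R] {f : E} (hf : f ≠ 0) (s : E → F) (hs : ∀ x ∈ R, s x = 1 ∨ s x = -1)
    (hfs : ∀ x ∈ R, f * x = s x • (x * f)) :
    ∃ r ∈ R, ∃ c : F, c ≠ 0 ∧ f = c • r := by
  classical
  have key : ∀ T : Finset E, (↑T : Set E) ⊆ R →
      f ∈ Submodule.span F {r | r ∈ R ∧ ∀ x ∈ T, r * x = s x • (x * r)} := by
    intro T
    induction T using Finset.induction_on with
    | empty =>
      intro _
      have : {r | r ∈ R ∧ ∀ x ∈ (∅ : Finset E), r * x = s x • (x * r)} = R := by simp
      rw [this, h.full]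
      exact Submodule.mem_top
    | @insert e T he ih =>
      intro hT
      have heR : e ∈ R := hT (Finset.mem_insert_self e T)
      obtain ⟨t, ht, hee⟩ := h.sq_sign heR
      have hmem := ih fun x hx => hT (Finset.mem_insert_of_mem hx)
      let φ : E →ₗ[F] E :=
        LinearMap.id + (s e * t) • (LinearMap.mulLeft F e ∘ₗ LinearMap.mulRight F e)
      have hφ : ∀ y, φ y = y + (s e * t) • (e * (y * e)) := fun y => rfl
      have hf2 : φ f = (2 : F) • f := by
        rw [hφ, hfs e heR, mul_smul_comm, ← mul_assoc, hee, smul_mul_assoc, one_mul, smul_smul, smul_smul, two_smul]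
        congr 1
        rw [show s e * t * s e * t = (s e * s e) * (t * t) by ring]
        rcases hs e heR with e1 | e1 <;> rcases ht with rfl | rfl <;> simp [e1]
      have h2 : (2 : F) • f ∈ Submodule.span F {r | r ∈ R ∧ ∀ x ∈ insert e T, r * x = s x • (x * r)} := by
        rw [← hf2]
        refine (Submodule.map_span_le φ _ _).2 ?_ (Submodule.mem_map_of_mem hmem)
        rintro r ⟨hr, hrT⟩
        obtain ⟨u, hu, hre⟩ := h.comm_sign heR hr
        have hφr : φ r = (1 + s e * u) • r := by
          rw [hφ, hre, mul_smul_comm, ← mul_assoc, hee, smul_mul_assoc, one_mul, smul_smul, smul_smul, add_smul,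
            one_smul]
          congr 2
          rcases ht with rfl | rfl <;> ring
        rw [hφr]
        by_cases hsu : s e = u
        · refine Submodule.smul_mem _ _ (Submodule.subset_span ⟨hr, fun x hx => ?_⟩)
          rcases Finset.mem_insert.1 hx with rfl | hx
          · rw [hre, hsu]
          · exact hrT x hx
        · have : 1 + s e * u = 0 := by
            rcases hs e heR with e1 | e1 <;> rcases hu with rfl | rfl <;> simp [e1] at hsu ⊢
          rw [this, zero_smul]
          exact Submodule.zero_mem _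
      have := Submodule.smul_mem _ (2 : F)⁻¹ h2
      rwa [inv_smul_smul₀ h.two_ne] at this
  haveI := Fintype.ofFinite R
  have hmem := key R.toFinset (by simp)
  simp only [Set.mem_toFinset] at hmem
  by_cases hne : ∃ r ∈ R, ∀ x ∈ R, r * x = s x • (x * r)
  · obtain ⟨r, hr, hrs⟩ := hne
    have hle : Submodule.span F {r | r ∈ R ∧ ∀ x ∈ R, r * x = s x • (x * r)} ≤ Submodule.span F {r} := by
      refine Submodule.span_le.2 ?_
      rintro r' ⟨hr', hrs'⟩
      obtain ⟨c, hc⟩ := h.mul_eq_smul hr (y := r') (h.scalar_of_comm fun y hy => by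
        rw [mul_assoc r r' y, hrs' y hy, mul_smul_comm, ← mul_assoc r y r', hrs y hy, smul_mul_assoc, smul_smul,
          show s y * s y = 1 by rcases hs y hy with e | e <;> simp [e], one_smul, mul_assoc])
      exact Submodule.mem_span_singleton.2 ⟨c, hc.symm⟩
    obtain ⟨c, hc⟩ := Submodule.mem_span_singleton.1 (hle hmem)
    exact ⟨r, hr, c, fun e => hf (by rw [← hc, e, zero_smul]), hc.symm⟩
  · push Not at hne
    have hemp : {r | r ∈ R ∧ ∀ x ∈ R, r * x = s x • (x * r)} = ∅ := by
      ext r; simp only [Set.mem_ofPred_eq, Set.mem_empty_iff_false, iff_false, not_and, not_forall]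
      intro hr
      obtain ⟨x, hx, hx'⟩ := hne r hr
      exact ⟨x, hx, hx'⟩
    rw [hemp, Submodule.span_empty, Submodule.mem_bot] at hmem
    exact absurd hmem hf

/-- A non-zero map commuting or anticommuting with each member is a multiple of a member. -/
theorem exists_line' [Finite R] {f : E} (hf : f ≠ 0) (hc : ∀ x ∈ R, f * x = x * f ∨ f * x = -(x * f)) :
    ∃ r ∈ R, ∃ c : F, c ≠ 0 ∧ f = c • r := by
  classical
  refine h.exists_line hf (fun x => if f * x = x * f then 1 else -1) (fun x hx => ?_) (fun x hx => ?_)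
  · split_ifs <;> simp
  · split_ifs with e
    · rw [e, one_smul]
    · rw [neg_smul, one_smul]; exact (hc x hx).resolve_left e

/-- For two non-scalar members, some member anticommutes with both. -/
theorem exists_anti_both {x z : E} (hx : x ∈ R) (hnx : ¬ IsScalarMap x) (hz : z ∈ R) (hnz : ¬ IsScalarMap z) :
    ∃ y ∈ R, y * x = -(x * y) ∧ y * z = -(z * y) := by
  obtain ⟨y₁, hy₁, ha₁⟩ := h.exists_anti hx hnx
  obtain ⟨y₂, hy₂, ha₂⟩ := h.exists_anti hz hnz
  rcases h.comm z hz y₁ hy₁ with c₁ | c₁
  · rcases h.comm x hx y₂ hy₂ with c₂ | c₂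
    · exact ⟨y₁ * y₂, h.mul_mem _ hy₁ _ hy₂, by rw [mul_assoc, c₂, ← mul_assoc, ha₁, neg_mul, mul_assoc],
        by rw [mul_assoc, ha₂, mul_neg, ← mul_assoc, c₁, mul_assoc]⟩
    · exact ⟨y₂, hy₂, c₂, ha₂⟩
  · exact ⟨y₁, hy₁, ha₁, c₁⟩

/-- The members commuting with two given ones span at least a quarter of all linear maps. -/
theorem exists_comm_two [Nontrivial V] {z z' : E} (hz : z ∈ R) (hz' : z' ∈ R) :
    Module.finrank F E ≤ 4 * Module.finrank F
      (Submodule.span F {y | y ∈ R ∧ y * z = z * y ∧ y * z' = z' * y}) := by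
  classical
  set S := {y | y ∈ R ∧ y * z = z * y ∧ y * z' = z' * y} with hS
  let Fib : F → F → Set E := fun u v => {y | y ∈ R ∧ y * z = u • (z * y) ∧ y * z' = v • (z' * y)}
  have hfib : ∀ u v : F, u ≠ 0 → v ≠ 0 →
      Module.finrank F (Submodule.span F (Fib u v)) ≤ Module.finrank F (Submodule.span F S) := by
    intro u v hu hv
    by_cases hne : ∃ y₀, y₀ ∈ Fib u v
    swap
    · push Not at hne
      rw [Set.eq_empty_iff_forall_notMem.2 hne, Submodule.span_empty, finrank_bot]
      exact Nat.zero_le _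
    obtain ⟨y₀, hy₀, h0z, h0z'⟩ := hne
    obtain ⟨t, ht, hyy⟩ := h.sq_sign hy₀
    have hle : (Submodule.span F (Fib u v)).map (LinearMap.mulLeft F y₀) ≤ Submodule.span F S := by
      refine (Submodule.map_span_le _ _ _).2 ?_
      rintro y ⟨hy, hyz, hyz'⟩
      have key : ∀ (w : E) (c : F), c * c = 1 → y₀ * w = c • (w * y₀) → y * w = c • (w * y) →
          y₀ * y * w = w * (y₀ * y) := by
        intro w c hcc e0 e1
        rw [mul_assoc, e1, mul_smul_comm, ← mul_assoc, e0, smul_mul_assoc, smul_smul, hcc, one_smul, mul_assoc]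
      have hsq : ∀ (w : E) (c : F), w ∈ R → c ≠ 0 → y₀ * w = c • (w * y₀) → c * c = 1 := by
        intro w c hw _ e0
        obtain ⟨t', ht', e'⟩ := h.comm_sign hw hy₀
        have : (c - t') • (w * y₀) = 0 := by rw [sub_smul, ← e0, ← e', sub_self]
        rw [sub_eq_zero.1 ((smul_eq_zero.1 this).resolve_right (h.ne_zero (h.mul_mem _ hw _ hy₀)))]
        rcases ht' with rfl | rfl <;> ring
      exact Submodule.subset_span ⟨h.mul_mem _ hy₀ _ hy, key z u (hsq z u hz hu h0z) h0z hyz,
        key z' v (hsq z' v hz' hv h0z') h0z' hyz'⟩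
    refine le_trans (le_of_eq ?_) (Submodule.finrank_mono hle)
    exact (Submodule.equivMapOfInjective (LinearMap.mulLeft F y₀)
      (fun a b e => h.mul_left_cancel' hy₀ e) _).finrank_eq
  have hcover : R ⊆ Fib 1 1 ∪ Fib 1 (-1) ∪ (Fib (-1) 1 ∪ Fib (-1) (-1)) := by
    intro y hy
    obtain ⟨u, hu, eu⟩ := h.comm_sign hz hy
    obtain ⟨v, hv, ev⟩ := h.comm_sign hz' hy
    rcases hu with rfl | rfl <;> rcases hv with rfl | rfl
    · exact .inl (.inl ⟨hy, eu, ev⟩)
    · exact .inl (.inr ⟨hy, eu, ev⟩)
    · exact .inr (.inl ⟨hy, eu, ev⟩)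
    · exact .inr (.inr ⟨hy, eu, ev⟩)
  have h1 : (⊤ : Submodule F E) ≤ (Submodule.span F (Fib 1 1) ⊔ Submodule.span F (Fib 1 (-1))) ⊔
      (Submodule.span F (Fib (-1) 1) ⊔ Submodule.span F (Fib (-1) (-1))) := by
    rw [← h.full, ← Submodule.span_union, ← Submodule.span_union, ← Submodule.span_union]
    exact Submodule.span_mono hcover
  have h2 := Submodule.finrank_mono h1
  rw [finrank_top] at h2
  have a := Submodule.finrank_add_le_finrank_add_finrank
    (Submodule.span F (Fib 1 1) ⊔ Submodule.span F (Fib 1 (-1)))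
    (Submodule.span F (Fib (-1) 1) ⊔ Submodule.span F (Fib (-1) (-1)))
  have b := Submodule.finrank_add_le_finrank_add_finrank (Submodule.span F (Fib 1 1)) (Submodule.span F (Fib 1 (-1)))
  have c := Submodule.finrank_add_le_finrank_add_finrank (Submodule.span F (Fib (-1) 1))
    (Submodule.span F (Fib (-1) (-1)))
  have h11 := hfib 1 1 one_ne_zero one_ne_zero
  have h12 := hfib 1 (-1) one_ne_zero (by simp)
  have h21 := hfib (-1) 1 (by simp) one_ne_zero
  have h22 := hfib (-1) (-1) (by simp) (by simp)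
  omega

end Pauli

end CfsgLib.Classical.PauliMax
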