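import Cfsg.Agent.Lib.Classical.PauliMax.Restrict

/-!
# Quarter turns and maps normalising a Pauli system
-/

set_option autoImplicit false
set_option maxHeartbeats 100000
set_option linter.unusedSectionVars false

namespace CfsgLib.Classical.PauliMax

open Module

variable {F : Type*} [Field F] {V : Type*} [AddCommGroup V] [Module F V] [FiniteDimensional F V]

local notation "E" => Module.End F V

/-- The quarter turn `1 + i a`. -/
def quarter (i : F) (a : Module.End F V) : Module.End F V := 1 + i • a

/-- `f` carries each member of `R` to a member. -/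
def Nor (R : Set (Module.End F V)) (f : Module.End F V) : Prop := ∀ x ∈ R, ∃ y ∈ R, f * x = y * f

theorem Nor.mul {R : Set E} {f g : E} (hf : Nor R f) (hg : Nor R g) : Nor R (f * g) := by
  intro x hx
  obtain ⟨y, hy, e⟩ := hg x hx
  obtain ⟨z, hz, e'⟩ := hf y hy
  exact ⟨z, hz, by rw [mul_assoc, e, ← mul_assoc, e', mul_assoc]⟩

theorem Nor.smul {R : Set E} {f : E} (hf : Nor R f) (c : F) : Nor R (c • f) := by
  intro x hx
  obtain ⟨y, hy, e⟩ := hf x hx
  exact ⟨y, hy, by rw [smul_mul_assoc, e, mul_smul_comm]⟩

theorem nor_one {R : Set E} : Nor R (1 : E) := fun x hx => ⟨x, hx, by rw [one_mul, mul_one]⟩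

theorem quarter_comm {i : F} {a f : E} (hf : f * a = a * f) : f * quarter i a = quarter i a * f := by
  simp [quarter, mul_add, add_mul, hf]

theorem comm_of_quarter {i : F} (hi : i ≠ 0) {a f : E} (hf : f * quarter i a = quarter i a * f) :
    f * a = a * f := by
  simp only [quarter, mul_add, add_mul, mul_one, one_mul, mul_smul_comm, smul_mul_assoc, add_right_inj] at hf
  exact smul_right_injective E hi hf

theorem quarter_conj {i : F} {a g k : E} (hgk : g * k = 1) : g * quarter i a * k = quarter i (g * a * k) := by
  simp [quarter, mul_add, add_mul, hgk]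

theorem res_quarter {i : F} {a x : E} (ha : a * a = 1) (h2 : (2 : F) ≠ 0) :
    res a (quarter i x) = quarter i (res a x) := by
  rw [quarter, quarter, map_add, map_smul, res_one ha h2]

section

variable {i : F} (hi : i * i = -1)
include hi

theorem quarter_mul_self {a : Module.End F V} (ha : a * a = 1) : quarter i a * quarter i a = (2 * i) • a := by
  simp only [quarter, mul_add, add_mul, mul_one, one_mul, smul_mul_smul_comm, hi, ha, neg_smul, one_smul]
  rw [two_mul, add_smul]
  abel

theorem quarter_neg_mul {a : Module.End F V} (ha : a * a = 1) : quarter (-i) a * quarter i a = (2 : F) • 1 := by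
  simp only [quarter, neg_smul, mul_add, add_mul, mul_one, one_mul, neg_mul, smul_mul_smul_comm, hi, ha,
    one_smul, neg_neg, two_smul]
  abel

theorem quarter_mul_neg {a : Module.End F V} (ha : a * a = 1) : quarter i a * quarter (-i) a = (2 : F) • 1 := by
  rw [← quarter_neg_mul hi ha]
  exact (quarter_comm (by simp [quarter, mul_add, add_mul]))

theorem quarter_isUnit (h2 : (2 : F) ≠ 0) {a : Module.End F V} (ha : a * a = 1) : IsUnit (quarter i a) := by
  refine ⟨⟨quarter i a, (2 : F)⁻¹ • quarter (-i) a, ?_, ?_⟩, rfl⟩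
  · rw [mul_smul_comm, quarter_mul_neg hi ha, inv_smul_smul₀ h2]
  · rw [smul_mul_assoc, quarter_neg_mul hi ha, inv_smul_smul₀ h2]

/-- A quarter turn carries an anticommuting map `y` to `-i y a`. -/
theorem quarter_mul_anti {a y : Module.End F V} (ha : a * a = 1) (hy : y * a = -(a * y)) :
    quarter i a * y = ((-i) • (y * a)) * quarter i a := by
  have h1 : a * y = -(y * a) := by rw [hy, neg_neg]
  simp only [quarter, mul_add, add_mul, mul_one, one_mul, smul_mul_assoc, mul_smul_comm, mul_assoc, ha, h1,
    neg_smul, smul_neg, smul_smul, neg_neg, mul_neg, neg_mul, hi, one_smul]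
  abel

end

namespace Pauli

variable {i : F} {R : Set (Module.End F V)} (h : Pauli i R)
include h

theorem nor_quarter {a : E} (ha : a ∈ R) (haa : a * a = 1) : Nor R (quarter i a) := by
  intro x hx
  rcases h.comm a ha x hx with e | e
  · exact ⟨x, hx, (quarter_comm e).symm⟩
  · refine ⟨(-i) • (x * a), ?_, quarter_mul_anti h.hi haa e⟩
    rw [neg_smul]
    exact h.neg_mem (h.i_smul_mem (h.mul_mem _ hx _ ha))

theorem nor_mem {r : E} (hr : r ∈ R) : Nor R r := by
  intro x hx
  rcases h.comm x hx r hr with e | e
  · exact ⟨x, hx, e⟩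
  · exact ⟨-x, h.neg_mem hx, by rw [e, neg_mul]⟩

theorem trace_mul_self {x : E} (hx : x ∈ R) (hn : (finrank F V : F) ≠ 0) :
    LinearMap.trace F V (x * x) ≠ 0 := by
  obtain ⟨s, hs, e⟩ := h.sq_sign hx
  rw [e, map_smul, LinearMap.trace_one, smul_eq_mul]
  rcases hs with rfl | rfl <;> simpa using hn

theorem finrank_cast_res {a : E} (ha : a ∈ R) (haa : a * a = 1) (hna : ¬ IsScalarMap a)
    (hn : (finrank F V : F) ≠ 0) : (finrank F (plusSpace a) : F) ≠ 0 := fun e => hn (by
  rw [← h.res_finrank ha haa hna, Nat.cast_mul, e, mul_zero])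

/-- An involution whose quarter turn normalises the system is a multiple of a member. -/
theorem line_of_nor_quarter [Finite R] [Nontrivial V] (hn : (finrank F V : F) ≠ 0) {w : E} (hw : w * w = 1)
    (ht : Nor R (quarter i w)) : ∃ r ∈ R, ∃ c : F, c ≠ 0 ∧ w = c • r := by
  have hwnor : Nor R w := by
    intro x hx
    obtain ⟨y, hy, e⟩ := (ht.mul ht) x hx
    rw [quarter_mul_self h.hi hw, smul_mul_assoc, mul_smul_comm] at e
    exact ⟨y, hy, smul_right_injective E (mul_ne_zero h.two_ne h.i_ne) e⟩
  refine h.exists_line' (fun e => by simp [e] at hw) fun x hx => ?_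
  obtain ⟨x', hx', ex⟩ := hwnor x hx
  have ex' : x' = w * x * w := by rw [ex, mul_assoc, hw, mul_one]
  by_cases hprop : ∃ c : F, x' = c • x
  · obtain ⟨c, hc⟩ := hprop
    rw [hc, smul_mul_assoc] at ex
    have h2 : x = (c * c) • x := by
      calc x = w * (w * x) := by rw [← mul_assoc, hw, one_mul]
        _ = c • ((w * x) * w) := by rw [ex, mul_smul_comm, ← mul_assoc, ← ex]
        _ = (c * c) • x := by
          rw [ex, smul_mul_assoc, mul_assoc x w w, hw, mul_one, smul_smul]
    have hc2 : c * c = 1 := by
      have : (c * c - 1) • x = 0 := by rw [sub_smul, one_smul, ← h2, sub_self]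
      exact sub_eq_zero.1 ((smul_eq_zero.1 this).resolve_right (h.ne_zero hx))
    rcases mul_self_eq_one_iff.1 hc2 with rfl | rfl
    · exact .inl (by rw [ex, one_smul])
    · exact .inr (by rw [ex, neg_smul, one_smul])
  exfalso
  obtain ⟨y, hy, ey⟩ := ht x hx
  obtain ⟨y', hy', eyw⟩ := hwnor y hy
  have ey' : y' = w * y * w := by rw [eyw, mul_assoc, hw, mul_one]
  have e0 : x + i • (w * x) = y + i • (y * w) := by
    simpa [quarter, add_mul, mul_add] using ey
  have e1 : x' + i • (x * w) = y' + i • (w * y) := by
    have := congrArg (fun z => w * z * w) e0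
    simp only [mul_add, add_mul, mul_smul_comm, smul_mul_assoc] at this
    rw [← mul_assoc w w x, hw, one_mul, ← mul_assoc w y w, mul_assoc (w * y) w w, hw, mul_one, ← ex', ← ey'] at this
    exact this
  -- the two sums agree
  have hsum : x + x' = y + y' := by
    have h3 : (x + i • (w * x)) * w = (y + i • (y * w)) * w := by rw [e0]
    rw [add_mul, add_mul, smul_mul_assoc, smul_mul_assoc, ← ex', mul_assoc y w w, hw, mul_one] at h3
    have h4 : w * (x + i • (w * x)) = w * (y + i • (y * w)) := by rw [e0]
    rw [mul_add, mul_add, mul_smul_comm, mul_smul_comm, ← mul_assoc w w x, hw, one_mul, ← mul_assoc w y w, ← ey'] at h4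
    have h5 : (x + i • (w * x)) + (x' + i • (x * w)) = (y + i • (y * w)) + (y' + i • (w * y)) := by rw [e0, e1]
    -- `i • (wx + xw)` in terms of `x + x'`
    have h6 : (w * x + x * w) + i • (x + x') = (w * y + y * w) + i • (y + y') := by
      have := congrArg₂ (· + ·) h4 h3
      simp only [smul_add] at this ⊢
      abel_nf at this ⊢
      exact this
    have h7 : (x + x') + i • (w * x + x * w) = (y + y') + i • (w * y + y * w) := by
      simp only [smul_add]
      abel_nf at h5 ⊢
      exact h5
    have h8 := congrArg (i • ·) h6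
    simp only [smul_add i _ _, smul_smul, h.hi, neg_smul, one_smul] at h8
    have h9 : (2 : F) • ((x + x') - (y + y')) = 0 := by
      simp only [smul_add] at h7
      rw [two_smul]
      linear_combination (norm := module) h7 - h8
    exact sub_eq_zero.1 ((smul_eq_zero.1 h9).resolve_left h.two_ne)
  have htr : LinearMap.trace F V (x * y) + LinearMap.trace F V (x * y') ≠ 0 := by
    rw [← map_add, ← mul_add, ← hsum, mul_add, map_add]
    have : LinearMap.trace F V (x * x') = 0 := by
      by_contra hne
      exact hprop (h.eq_smul_of_trace hx hx' hne)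
    rw [this, add_zero]
    exact h.trace_mul_self hx hn
  rcases not_and_or.1 (fun hh : LinearMap.trace F V (x * y) = 0 ∧ LinearMap.trace F V (x * y') = 0 =>
      htr (by rw [hh.1, hh.2, add_zero])) with hne | hne
  · obtain ⟨c, rfl⟩ := h.eq_smul_of_trace hx hy hne
    rw [ey', mul_smul_comm, smul_mul_assoc, ← ex'] at hsum
    by_cases hc : c = 1
    · subst hc
      rw [one_smul, add_right_inj] at e0
      have := smul_right_injective E h.i_ne e0
      exact hprop ⟨1, by rw [one_smul, ex', this, mul_assoc, hw, mul_one]⟩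
    · refine hprop ⟨-1, ?_⟩
      have : (1 - c) • (x + x') = 0 := by linear_combination (norm := module) hsum
      rw [neg_smul, one_smul]
      exact eq_neg_of_add_eq_zero_right ((smul_eq_zero.1 this).resolve_left (sub_ne_zero.2 (Ne.symm hc)))
  · obtain ⟨c, hc⟩ := h.eq_smul_of_trace hx hy' hne
    have hyx : y = c • x' := by
      calc y = w * y' * w := by rw [ey', ← mul_assoc, ← mul_assoc, hw, one_mul, mul_assoc, hw, mul_one]
        _ = c • x' := by rw [hc, mul_smul_comm, smul_mul_assoc, ex']
    subst hyx
    rw [smul_mul_assoc, ← ex] at e0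
    by_cases hc1 : c = 1
    · subst hc1
      rw [one_smul, one_smul] at e0
      exact hprop ⟨1, by rw [one_smul]; exact (add_right_cancel e0).symm⟩
    rw [hc] at hsum
    have : (1 - c) • (x + x') = 0 := by linear_combination (norm := module) hsum
    exact hprop ⟨-1, by
      rw [neg_smul, one_smul]
      exact eq_neg_of_add_eq_zero_right ((smul_eq_zero.1 this).resolve_left (sub_ne_zero.2 (Ne.symm hc1)))⟩

end Pauli

end CfsgLib.Classical.PauliMax
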