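import Cfsg.Agent.Lib.Classical.PauliMax.Unipotent
import Cfsg.Agent.Lib.Classical.PauliMax.Mobius

/-!
# Two-dimensional constituents of groups of linear maps
-/

set_option autoImplicit false
set_option linter.unusedSectionVars false
set_option maxHeartbeats 400000

namespace CfsgLib.Classical.PauliMax

open Matrix Module
open scoped MatrixGroups

/-- An element mapping onto an element of order `p` inverted by the image of an involution `a` gives one of order
`p` inverted by `a`. -/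
theorem exists_inverted_of_hom {P H : Type*} [Group P] [Finite P] [Group H] (f : P →* H) {p : ℕ} [hp : Fact p.Prime]
    (hp2 : p ≠ 2) {a g : P} (ha : a * a = 1) (hg : f g ≠ 1) (hgp : f g ^ p = 1)
    (hinv : f a * f g * f a = (f g)⁻¹) : ∃ U : P, U ≠ 1 ∧ U ^ p = 1 ∧ U * (a * U * a) = 1 := by
  set h := g * (a * g⁻¹ * a) with hh
  have hfa : f a * f a = 1 := by rw [← map_mul, ha, map_one]
  have hfh : f h = f g ^ 2 := by
    have : f a * (f g)⁻¹ * f a = f g := by
      rw [← hinv]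
      simp only [← mul_assoc, hfa, one_mul]
      rw [mul_assoc, hfa, mul_one]
    rw [hh, map_mul, map_mul, map_mul, map_inv, this, pow_two]
  have hord : orderOf (f h) = p := by
    refine orderOf_eq_prime ?_ fun e => hg ?_
    · rw [hfh, ← pow_mul, mul_comm, pow_mul, hgp, one_pow]
    · obtain ⟨k, hk⟩ := hp.out.odd_of_ne_two hp2
      rw [hfh] at e
      rwa [hk, pow_succ, pow_mul, e, one_pow, one_mul] at hgp
  have hdvd : p ∣ orderOf h := hord ▸ orderOf_map_dvd f h
  obtain ⟨m, hm⟩ := hdvd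
  have hm0 : m ≠ 0 := fun e => (orderOf_pos h).ne' (by rw [hm, e, mul_zero])
  have haha : a * h * a = h⁻¹ := by
    have hai : a⁻¹ = a := inv_eq_of_mul_eq_one_right ha
    calc a * h * a = a * g * a * g⁻¹ * (a * a) := by rw [hh]; simp only [mul_assoc]
      _ = h⁻¹ := by rw [ha, mul_one, hh, _root_.mul_inv_rev, _root_.mul_inv_rev, _root_.mul_inv_rev, inv_inv, hai]; simp only [mul_assoc]
  refine ⟨h ^ m, fun e => ?_, by rw [← pow_mul, mul_comm, ← hm, pow_orderOf_eq_one], ?_⟩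
  · have := orderOf_dvd_of_pow_eq_one e
    rw [hm] at this
    have := Nat.le_of_dvd (Nat.pos_of_ne_zero hm0) this
    have := hp.out.two_le
    nlinarith [Nat.pos_of_ne_zero hm0]
  · have hai : a⁻¹ = a := inv_eq_of_mul_eq_one_right ha
    have e1 : a * h ^ m * a = (h⁻¹) ^ m := by
      rw [← haha]
      nth_rw 2 [← hai]
      nth_rw 4 [← hai]
      rw [conj_pow]
    rw [e1, inv_pow, mul_inv_cancel]

section

variable {F : Type*} [Field F] {V : Type*} [AddCommGroup V] [Module F V]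
variable {L : Type*} [Field L] {n : ℕ}

/-- The members of `Γ` leaving the columns of `X` invariant under `φ`. -/
def colStab (φ : Module.End F V →* Matrix (Fin n) (Fin n) L) (X : Matrix (Fin n) (Fin 2) L)
    (Γ : Subgroup (Module.End F V)ˣ) : Subgroup (Module.End F V)ˣ where
  carrier := {g | g ∈ Γ ∧ (∃ M : Matrix (Fin 2) (Fin 2) L, φ g * X = X * M) ∧ ∃ M : Matrix (Fin 2) (Fin 2) L, φ (g⁻¹ : (Module.End F V)ˣ) * X = X * M}
  one_mem' := ⟨Γ.one_mem, ⟨1, by simp⟩, ⟨1, by simp⟩⟩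
  mul_mem' := by
    rintro u v ⟨hu, ⟨A, hA⟩, ⟨A', hA'⟩⟩ ⟨hv, ⟨B, hB⟩, ⟨B', hB'⟩⟩
    refine ⟨Γ.mul_mem hu hv, ⟨A * B, ?_⟩, ⟨B' * A', ?_⟩⟩
    · rw [Units.val_mul, map_mul, Matrix.mul_assoc, hB, ← Matrix.mul_assoc, hA, Matrix.mul_assoc]
    · rw [_root_.mul_inv_rev, Units.val_mul, map_mul, Matrix.mul_assoc, hA', ← Matrix.mul_assoc, hB', Matrix.mul_assoc]
  inv_mem' := by
    rintro u ⟨hu, h1, h2⟩
    exact ⟨Γ.inv_mem hu, h2, by rwa [inv_inv]⟩

variable {φ : Module.End F V →* Matrix (Fin n) (Fin n) L} {X : Matrix (Fin n) (Fin 2) L}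
  {Y : Matrix (Fin 2) (Fin n) L} {Γ : Subgroup (Module.End F V)ˣ}

theorem colRep_eq (hY : Y * X = 1) {f : Module.End F V} {M : Matrix (Fin 2) (Fin 2) L} (h : φ f * X = X * M) :
    Y * φ f * X = M := by rw [Matrix.mul_assoc, h, ← Matrix.mul_assoc, hY, Matrix.one_mul]

/-- The action on the columns of `X`. -/
def colRep (hY : Y * X = 1) : colStab φ X Γ →* GL (Fin 2) L :=
  MonoidHom.mk' (fun g =>
    { val := Y * φ ((g : (Module.End F V)ˣ) : Module.End F V) * X
      inv := Y * φ ((g : (Module.End F V)ˣ)⁻¹ : (Module.End F V)ˣ) * X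
      val_inv := by
        obtain ⟨-, ⟨A, hA⟩, ⟨B, hB⟩⟩ := g.2
        rw [colRep_eq hY hA, colRep_eq hY hB]
        have : X * (A * B) = X * (1 : Matrix (Fin 2) (Fin 2) L) := by
          rw [← Matrix.mul_assoc, ← hA, Matrix.mul_assoc, ← hB, ← Matrix.mul_assoc, ← map_mul, Units.mul_inv,
            map_one, Matrix.one_mul, Matrix.mul_one]
        have := congrArg (Y * ·) this
        simpa only [← Matrix.mul_assoc, hY, Matrix.one_mul] using this
      inv_val := by
        obtain ⟨-, ⟨A, hA⟩, ⟨B, hB⟩⟩ := g.2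
        rw [colRep_eq hY hA, colRep_eq hY hB]
        have : X * (B * A) = X * (1 : Matrix (Fin 2) (Fin 2) L) := by
          rw [← Matrix.mul_assoc, ← hB, Matrix.mul_assoc, ← hA, ← Matrix.mul_assoc, ← map_mul, Units.inv_mul,
            map_one, Matrix.one_mul, Matrix.mul_one]
        have := congrArg (Y * ·) this
        simpa only [← Matrix.mul_assoc, hY, Matrix.one_mul] using this }) (fun g k => by
    obtain ⟨-, ⟨A, hA⟩, -⟩ := g.2
    obtain ⟨-, ⟨B, hB⟩, -⟩ := k.2
    apply Units.ext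
    simp only [Units.val_mul]
    rw [colRep_eq hY hA, colRep_eq hY hB]
    refine colRep_eq hY ?_
    rw [Subgroup.coe_mul, Units.val_mul, map_mul, Matrix.mul_assoc, hB, ← Matrix.mul_assoc, hA, Matrix.mul_assoc])

theorem mem_colStab_of_eq {g : (Module.End F V)ˣ} (hg : g ∈ Γ) {Z : GL (Fin 2) L}
    (h : φ g * X = X * (Z : Matrix (Fin 2) (Fin 2) L)) : g ∈ colStab φ X Γ := by
  refine ⟨hg, ⟨_, h⟩, ⟨((Z⁻¹ : GL (Fin 2) L) : Matrix (Fin 2) (Fin 2) L), ?_⟩⟩
  have : φ g * (X * ((Z⁻¹ : GL (Fin 2) L) : Matrix (Fin 2) (Fin 2) L)) = X := by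
    rw [← Matrix.mul_assoc, h, Matrix.mul_assoc, ← Units.val_mul, mul_inv_cancel, Units.val_one, Matrix.mul_one]
  have h2 := congrArg (φ ((g⁻¹ : (Module.End F V)ˣ) : Module.End F V) * ·) this
  rw [← Matrix.mul_assoc, ← map_mul, Units.inv_mul, map_one, Matrix.one_mul] at h2
  exact h2.symm

theorem colRep_apply (hY : Y * X = 1) {g : colStab φ X Γ} {Z : GL (Fin 2) L}
    (h : φ ((g : (Module.End F V)ˣ) : Module.End F V) * X = X * (Z : Matrix (Fin 2) (Fin 2) L)) :
    colRep hY g = Z :=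
  Units.ext (show Y * φ ((g : (Module.End F V)ˣ) : Module.End F V) * X = _ from colRep_eq hY h)

end

/-- Independent columns have a left inverse. -/
theorem exists_left_inverse {L : Type*} [Field L] {n : ℕ} {X : Matrix (Fin n) (Fin 2) L}
    (hX : ∀ c : Fin 2 → L, X *ᵥ c = 0 → c = 0) : ∃ Y : Matrix (Fin 2) (Fin n) L, Y * X = 1 := by
  obtain ⟨g, hg⟩ := (Matrix.toLin' X).exists_leftInverse_of_injective (LinearMap.ker_eq_bot'.2 fun c hc => hX c (by
    rwa [Matrix.toLin'_apply] at hc))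
  refine ⟨LinearMap.toMatrix' g, Matrix.toLin'.injective ?_⟩
  rw [Matrix.toLin'_mul, Matrix.toLin'_toMatrix', hg, Matrix.toLin'_one]

end CfsgLib.Classical.PauliMax
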