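import Cfsg.Agent.Lib.Classical.PauliMax.Pauli

/-!
# Restriction of a Pauli system to the eigenspace of a member
-/

set_option autoImplicit false
set_option maxHeartbeats 100000
set_option linter.unusedSectionVars false

namespace CfsgLib.Classical.PauliMax

open Module

variable {F : Type*} [Field F] {V : Type*} [AddCommGroup V] [Module F V] [FiniteDimensional F V]

local notation "E" => Module.End F V

/-- The projection on the fixed space of an involution. -/
def proj (a : Module.End F V) : Module.End F V := (2 : F)⁻¹ • (1 + a)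

/-- The fixed space of an involution, as the image of its projection. -/
abbrev plusSpace (a : Module.End F V) : Submodule F V := LinearMap.range (proj a)

/-- The compression of a map to the fixed space of an involution. -/
def res (a : Module.End F V) : Module.End F V →ₗ[F] Module.End F (plusSpace a) where
  toFun f := (proj a).rangeRestrict ∘ₗ f ∘ₗ (plusSpace a).subtype
  map_add' f g := by simp [LinearMap.add_comp, LinearMap.comp_add]
  map_smul' c f := by simp [LinearMap.smul_comp, LinearMap.comp_smul]

theorem res_apply (a f : E) (w : plusSpace a) : (res a f w : V) = proj a (f w) := rfl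

/-- The members of `R` commuting with `a`, compressed. -/
def resSet (a : Module.End F V) (R : Set (Module.End F V)) : Set (Module.End F (plusSpace a)) :=
  res a '' {x | x ∈ R ∧ x * a = a * x}

section

variable {a : Module.End F V} (ha : a * a = 1) (h2 : (2 : F) ≠ 0)
include ha h2

theorem proj_mul_self : proj a * proj a = proj a := by
  rw [proj, smul_mul_smul_comm, mul_add, add_mul, add_mul, ha, one_mul, mul_one, one_mul]
  rw [show (1 : E) + a + (a + 1) = (2 : F) • (1 + a) by rw [two_smul]; abel, smul_smul]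
  congr 1
  field_simp

theorem mul_proj : a * proj a = proj a := by
  rw [proj, mul_smul_comm, mul_add, ha, mul_one, add_comm a 1]

theorem proj_mul : proj a * a = proj a := by
  rw [proj, smul_mul_assoc, add_mul, ha, one_mul, add_comm a 1]

theorem proj_neg_mul : proj a * proj (-a) = 0 := by
  rw [show proj (-a) = (2 : F)⁻¹ • (1 - a) by rw [proj, sub_eq_add_neg], mul_smul_comm, mul_sub, mul_one,
    proj_mul ha h2, sub_self, smul_zero]

theorem proj_add_neg : proj a + proj (-a) = 1 := by
  rw [proj, proj, ← smul_add, show (1 : E) + a + (1 + -a) = (2 : F) • 1 by rw [two_smul]; abel,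
    inv_smul_smul₀ h2]

theorem apply_of_mem (w : ↥(plusSpace a)) : proj a (w : V) = (w : V) := by
  obtain ⟨w, v, rfl⟩ := w
  exact LinearMap.congr_fun (proj_mul_self ha h2) v

theorem a_apply_of_mem (w : ↥(plusSpace a)) : a (w : V) = (w : V) := by
  obtain ⟨w, v, rfl⟩ := w
  exact LinearMap.congr_fun (mul_proj ha h2) v

theorem res_eq_iff {f g : E} : res a f = res a g ↔ proj a * f * proj a = proj a * g * proj a := by
  constructor
  · intro e
    refine LinearMap.ext fun v => ?_
    have := congrArg Subtype.val (LinearMap.congr_fun e ⟨proj a v, v, rfl⟩)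
    simpa [res_apply] using this
  · intro e
    refine LinearMap.ext fun w => Subtype.ext ?_
    have := LinearMap.congr_fun e (w : V)
    simpa [res_apply, apply_of_mem ha h2] using this

theorem res_one : res a 1 = 1 := by
  refine LinearMap.ext fun w => Subtype.ext ?_
  simp [res_apply, apply_of_mem ha h2]

theorem res_self : res a a = 1 := by
  refine LinearMap.ext fun w => Subtype.ext ?_
  simp [res_apply, a_apply_of_mem ha h2, apply_of_mem ha h2]

theorem comm_proj {f : E} (hf : f * a = a * f) : f * proj a = proj a * f := by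
  rw [proj, mul_smul_comm, smul_mul_assoc, mul_add, add_mul, hf, mul_one, one_mul]

theorem apply_comm {f : E} (hf : f * a = a * f) (w : plusSpace a) : proj a (f (w : V)) = f (w : V) := by
  have := LinearMap.congr_fun (comm_proj ha h2 hf) (w : V)
  simp only [Module.End.mul_apply, apply_of_mem ha h2] at this
  exact this.symm

theorem res_mul {f g : E} (hg : g * a = a * g) : res a (f * g) = res a f * res a g := by
  refine LinearMap.ext fun w => Subtype.ext ?_
  simp [res_apply, apply_comm ha h2 hg]

theorem res_eq_zero_of_anti {f : E} (hf : f * a = -(a * f)) : res a f = 0 := by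
  have h1 : f * proj a = proj (-a) * f := by
    rw [proj, proj, mul_smul_comm, smul_mul_assoc, mul_add, add_mul, hf, mul_one, one_mul, neg_mul]
  rw [← (res a).map_zero, res_eq_iff ha h2, mul_assoc, h1, ← mul_assoc, proj_neg_mul ha h2]
  simp

theorem res_smul_one (c : F) : res a (c • (1 : E)) = c • 1 := by rw [map_smul, res_one ha h2]

theorem trace_res {f : E} (hf : f * a = a * f) :
    LinearMap.trace F (plusSpace a) (res a f) = LinearMap.trace F V (proj a * f) := by
  change LinearMap.trace F (plusSpace a) ((proj a).rangeRestrict ∘ₗ (f ∘ₗ (plusSpace a).subtype)) = _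
  rw [LinearMap.trace_comp_comm']
  congr 1
  refine LinearMap.ext fun v => ?_
  have := LinearMap.congr_fun (comm_proj ha h2 hf) v
  simp only [Module.End.mul_apply] at this
  simpa using this

end

namespace Pauli

variable {i : F} {R : Set (Module.End F V)} (h : Pauli i R)
include h

theorem res_mem {a x : E} (hx : x ∈ R) (hc : x * a = a * x) : res a x ∈ resSet a R := ⟨x, ⟨hx, hc⟩, rfl⟩

theorem pauli_res {a : E} (ha : a ∈ R) (haa : a * a = 1) : Pauli i (resSet a R) where
  hi := h.hi
  two_ne := h.two_ne
  one_mem := ⟨1, ⟨h.one_mem, by simp⟩, res_one haa h.two_ne⟩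
  i_mem := ⟨i • 1, ⟨h.i_mem, by simp⟩, res_smul_one haa h.two_ne i⟩
  mul_mem := by
    rintro _ ⟨x, ⟨hx, hxa⟩, rfl⟩ _ ⟨y, ⟨hy, hya⟩, rfl⟩
    refine ⟨x * y, ⟨h.mul_mem _ hx _ hy, ?_⟩, res_mul haa h.two_ne hya⟩
    rw [mul_assoc, hya, ← mul_assoc, hxa, mul_assoc]
  sq := by
    rintro _ ⟨x, ⟨hx, hxa⟩, rfl⟩
    rw [← res_mul haa h.two_ne hxa]
    rcases h.sq x hx with e | e <;> simp [e, res_one haa h.two_ne]
  comm := by
    rintro _ ⟨x, ⟨hx, hxa⟩, rfl⟩ _ ⟨y, ⟨hy, hya⟩, rfl⟩
    rw [← res_mul haa h.two_ne hxa, ← res_mul haa h.two_ne hya]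
    rcases h.comm x hx y hy with e | e <;> simp [e]
  full := by
    refine eq_top_iff.2 fun f _ => ?_
    let X : E := (plusSpace a).subtype ∘ₗ f ∘ₗ (proj a).rangeRestrict
    have hX : res a X = f := by
      refine LinearMap.ext fun w => Subtype.ext ?_
      have h1 : (proj a).rangeRestrict (w : V) = w := Subtype.ext (apply_of_mem haa h.two_ne w)
      simp [res_apply, X, h1, apply_of_mem haa h.two_ne]
    have hle : (Submodule.span F R).map (res a) ≤ Submodule.span F (resSet a R) := by
      refine (Submodule.map_span_le _ _ _).2 fun x hx => ?_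
      rcases h.comm a ha x hx with e | e
      · exact Submodule.subset_span (h.res_mem hx e)
      · rw [res_eq_zero_of_anti haa h.two_ne e]; exact Submodule.zero_mem _
    exact hle ⟨X, h.full.symm ▸ Submodule.mem_top, hX⟩

theorem res_finrank {a : E} (ha : a ∈ R) (haa : a * a = 1) (hns : ¬ IsScalarMap a) :
    2 * finrank F (plusSpace a) = finrank F V := by
  obtain ⟨b, hb, hab⟩ := h.exists_anti ha hns
  have hbinj : Function.Injective b := by
    obtain ⟨u, hu⟩ := h.isUnit hb
    intro x y e
    have := congrArg (↑u⁻¹ : E) e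
    rwa [← Module.End.mul_apply, ← Module.End.mul_apply, ← hu, Units.inv_mul] at this
  have hswap : ∀ c : E, b * c = -(c * b) → b * proj c = proj (-c) * b := by
    intro c hc
    rw [proj, proj, mul_smul_comm, smul_mul_assoc, mul_add, add_mul, hc, mul_one, one_mul, neg_mul]
  have hle : ∀ c : E, b * c = -(c * b) → finrank F (plusSpace c) ≤ finrank F (plusSpace (-c)) := by
    intro c hc
    refine LinearMap.finrank_le_finrank_of_injective
      (f := (b ∘ₗ (plusSpace c).subtype).codRestrict (plusSpace (-c)) ?_) ?_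
    · rintro ⟨w, v, rfl⟩
      exact ⟨b v, by rw [← Module.End.mul_apply, ← hswap c hc]; rfl⟩
    · intro x y e
      exact Subtype.ext (hbinj (congrArg Subtype.val e))
  have h1 := hle a hab
  have h2 := hle (-a) (by rw [mul_neg, hab, neg_mul])
  rw [neg_neg] at h2
  have heq : plusSpace (-a) = LinearMap.ker (proj a) := by
    refine le_antisymm ?_ fun v hv => ?_
    · rintro _ ⟨v, rfl⟩
      exact LinearMap.congr_fun (proj_neg_mul haa h.two_ne) v
    · refine ⟨v, ?_⟩
      have := LinearMap.congr_fun (proj_add_neg haa h.two_ne) v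
      simpa [LinearMap.mem_ker.1 hv] using this
  have h3 := LinearMap.finrank_range_add_finrank_ker (proj a)
  rw [← heq] at h3
  change finrank F (plusSpace a) + finrank F (plusSpace (-a)) = finrank F V at h3
  omega

theorem res_not_scalar [Nontrivial V] {a x : E} (ha : a ∈ R) (haa : a * a = 1) (hna : ¬ IsScalarMap a)
    (hx : x ∈ R) (hxa : x * a = a * x) (hnx : ¬ IsScalarMap x) (hxne : ∀ c : F, x ≠ c • a) :
    ¬ IsScalarMap (res a x) := by
  have hax : ¬ IsScalarMap (a * x) := fun hc => by
    obtain ⟨c, hc⟩ := h.mul_eq_smul ha hc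
    exact hxne c hc
  obtain ⟨y, hy, hy1, hy2⟩ := h.exists_anti_both hx hnx (h.mul_mem _ ha _ hx) hax
  have hya : y * a = a * y := by
    rcases h.comm a ha y hy with e | e
    · exact e
    · exfalso
      have h1 : y * (a * x) = a * x * y := by
        rw [← mul_assoc, e, neg_mul, mul_assoc, hy1, mul_neg, neg_neg, mul_assoc]
      rw [hy2] at h1
      have h0 : (2 : F) • (a * x * y) = 0 := by rw [two_smul]; nth_rw 1 [← h1]; exact neg_add_cancel _
      exact h.ne_zero (h.mul_mem _ (h.mul_mem _ ha _ hx) _ hy) ((smul_eq_zero.1 h0).resolve_left h.two_ne)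
  haveI : Nontrivial (plusSpace a) := by
    have h1 := h.res_finrank ha haa hna
    have h2 : 0 < finrank F V := Module.finrank_pos
    exact Module.finrank_pos_iff.1 (by omega : 0 < finrank F (plusSpace a))
  refine (h.pauli_res ha haa).not_scalar_of_anti (h.res_mem hx hxa) (h.res_mem hy hya) ?_
  rw [← res_mul haa h.two_ne hxa, ← res_mul haa h.two_ne hya, hy1, map_neg]

/-- Members with proportional compressions differ by a scalar or by a scalar times `a`. -/
theorem eq_of_res_eq [Nontrivial V] {a x y : E} (ha : a ∈ R) (haa : a * a = 1) (hna : ¬ IsScalarMap a)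
    (hx : x ∈ R) (hxa : x * a = a * x) (hy : y ∈ R) (hya : y * a = a * y) {c : F}
    (hc : res a y = c • res a x) : ∃ d : F, y = d • x ∨ y = d • (a * x) := by
  obtain ⟨s, hs, hxx⟩ := h.sq_sign hx
  have hz : x * y * a = a * (x * y) := by rw [mul_assoc, hya, ← mul_assoc, hxa, mul_assoc]
  have hsc : IsScalarMap (res a (x * y)) := by
    refine ⟨c * s, ?_⟩
    rw [res_mul haa h.two_ne hya, hc, mul_smul_comm, ← res_mul haa h.two_ne hxa, hxx,
      res_smul_one haa h.two_ne, smul_smul]
  by_cases hns : IsScalarMap (x * y)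
  · obtain ⟨d, hd⟩ := h.mul_eq_smul hx hns
    exact ⟨d, .inl hd⟩
  by_contra hcon
  refine h.res_not_scalar ha haa hna (h.mul_mem _ hx _ hy) hz hns (fun d hd => hcon ?_) hsc
  refine ⟨s * d, .inr ?_⟩
  have := congrArg (x * ·) hd
  simp only [← mul_assoc, hxx, smul_mul_assoc, one_mul, mul_smul_comm] at this
  rw [← hxa, ← smul_smul, ← this, smul_smul, show s * s = 1 by rcases hs with rfl | rfl <;> ring, one_smul]

end Pauli

/-- The compressions of the elements of a group of invertible maps that commute with `a`. -/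
def resGroup {a : Module.End F V} (ha : a * a = 1) (h2 : (2 : F) ≠ 0) (Γ : Subgroup (Module.End F V)ˣ) :
    Subgroup (Module.End F (plusSpace a))ˣ where
  carrier := {u | ∃ g ∈ Γ, (g : Module.End F V) * a = a * g ∧ res a (g : Module.End F V) = (u : Module.End F (plusSpace a))}
  one_mem' := ⟨1, Γ.one_mem, by simp, by simp [res_one ha h2]⟩
  mul_mem' := by
    rintro u v ⟨g, hg, hga, hgu⟩ ⟨k, hk, hka, hkv⟩
    refine ⟨g * k, Γ.mul_mem hg hk, ?_, ?_⟩
    · rw [Units.val_mul, mul_assoc, hka, ← mul_assoc, hga, mul_assoc]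
    · rw [Units.val_mul, res_mul ha h2 hka, hgu, hkv, Units.val_mul]
  inv_mem' := by
    rintro u ⟨g, hg, hga, hgu⟩
    have hga' : ((g⁻¹ : (Module.End F V)ˣ) : Module.End F V) * a = a * ↑g⁻¹ := by
      rw [Units.inv_mul_eq_iff_eq_mul, ← mul_assoc, hga, mul_assoc, Units.mul_inv, mul_one]
    refine ⟨g⁻¹, Γ.inv_mem hg, hga', ?_⟩
    have h1 : res a ((g⁻¹ : (Module.End F V)ˣ) : Module.End F V) * res a (g : Module.End F V) = 1 := by
      rw [← res_mul ha h2 hga, Units.inv_mul, res_one ha h2]
    rw [hgu] at h1
    exact (Units.inv_eq_of_mul_eq_one_left h1).symm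

theorem mem_resGroup {a : E} (ha : a * a = 1) (h2 : (2 : F) ≠ 0) {Γ : Subgroup Eˣ}
    {u : (Module.End F (plusSpace a))ˣ} : u ∈ resGroup ha h2 Γ ↔
      ∃ g ∈ Γ, (g : E) * a = a * g ∧ res a (g : E) = (u : Module.End F (plusSpace a)) := Iff.rfl

end CfsgLib.Classical.PauliMax
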