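import Cfsg.Agent.Lib.Classical.PauliMax.Unipotent

/-!
# Small tools for groups containing a Pauli system
-/

set_option autoImplicit false
set_option linter.unusedSectionVars false
set_option maxHeartbeats 400000

namespace CfsgLib.Classical.PauliMax

open Module

variable {F : Type*} [Field F] {V : Type*} [AddCommGroup V] [Module F V] [FiniteDimensional F V]

local notation "E" => Module.End F V

/-- Every element of `Γ` centralising an involution of `R` normalises the compressed system. -/
def Small (R : Set (Module.End F V)) (Γ : Subgroup (Module.End F V)ˣ) : Prop :=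
  ∀ x ∈ R, x * x = 1 → ¬ IsScalarMap x → ∀ g : Module.End F V, InG Γ g → g * x = x * g →
    Nor (resSet x R) (res x g)

theorem InG.exists_inv {Γ : Subgroup Eˣ} {g : E} (hg : InG Γ g) :
    ∃ g' : E, InG Γ g' ∧ g * g' = 1 ∧ g' * g = 1 := by
  obtain ⟨u, hu, rfl⟩ := hg
  exact ⟨(↑u⁻¹ : E), ⟨u⁻¹, Γ.inv_mem hu, rfl⟩, Units.mul_inv u, Units.inv_mul u⟩

theorem comm_inv {g g' a : E} (h1 : g * g' = 1) (h2 : g' * g = 1) (ha : g * a = a * g) : g' * a = a * g' := by
  calc g' * a = g' * a * (g * g') := by rw [h1, mul_one]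
    _ = g' * (a * g) * g' := by simp only [mul_assoc]
    _ = g' * g * a * g' := by rw [← ha]; simp only [mul_assoc]
    _ = a * g' := by rw [h2, one_mul]

theorem conj_mul {g g' f k : E} (h2 : g' * g = 1) : g * f * g' * (g * k * g') = g * (f * k) * g' := by
  calc g * f * g' * (g * k * g') = g * f * (g' * g) * k * g' := by simp only [mul_assoc]
    _ = g * (f * k) * g' := by rw [h2, mul_one, mul_assoc g f k]

theorem conj_smul {g g' f : E} (c : F) : g * (c • f) * g' = c • (g * f * g') := by
  rw [mul_smul_comm, smul_mul_assoc]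

theorem InG.conj {Γ : Subgroup Eˣ} {g g' f : E} (hg : InG Γ g) (hf : InG Γ f) (h1 : g * g' = 1) :
    InG Γ (g * f * g') := (hg.mul hf).mul (hg.inv h1)

theorem IsScalarMap.smul {x : E} (hx : IsScalarMap x) (c : F) : IsScalarMap (c • x) := by
  obtain ⟨d, rfl⟩ := hx
  exact ⟨c * d, by rw [smul_smul]⟩

namespace Pauli

variable {i : F} {R : Set (Module.End F V)} (h : Pauli i R)
include h

/-- A multiple of a member squaring to one is a member. -/
theorem mem_of_smul [Nontrivial V] {r : E} (hr : r ∈ R) {c : F} (hc : (c • r) * (c • r) = 1) : c • r ∈ R := by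
  refine h.root_smul_mem hr ?_
  obtain ⟨s, hs, e⟩ := h.sq_sign hr
  rw [smul_mul_smul_comm, e, smul_smul] at hc
  have h1 : (c * c * s - 1) • (1 : E) = 0 := by rw [sub_smul, hc, one_smul, sub_self]
  have h2 : c * c * s = 1 := sub_eq_zero.1 ((smul_eq_zero.1 h1).resolve_right one_ne_zero)
  rcases hs with rfl | rfl
  · exact .inl (by linear_combination h2)
  · exact .inr (by linear_combination -h2)

theorem mem_of_scalar [Nontrivial V] {c : F} (hc : c * c = 1 ∨ c * c = -1) : c • (1 : E) ∈ R :=
  h.root_smul_mem h.one_mem hc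

/-- Every non-scalar member is a multiple of an involution of the system. -/
theorem exists_invol [Nontrivial V] {x : E} (hx : x ∈ R) (hns : ¬ IsScalarMap x) :
    ∃ x' ∈ R, x' * x' = 1 ∧ ¬ IsScalarMap x' ∧ ∃ c : F, c ≠ 0 ∧ x = c • x' := by
  rcases h.sq x hx with e | e
  · exact ⟨x, hx, e, hns, 1, one_ne_zero, (one_smul _ _).symm⟩
  · refine ⟨i • x, h.i_smul_mem hx, ?_, fun hc => hns ?_, -i, neg_ne_zero.2 h.i_ne, ?_⟩
    · rw [smul_mul_smul_comm, h.hi, e, neg_smul, one_smul, neg_neg]
    · have := hc.smul i⁻¹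
      rwa [inv_smul_smul₀ h.i_ne] at this
    · rw [smul_smul, neg_mul, h.hi, neg_neg, one_smul]

/-- An element normalising the system and centralising a member normalises the compressed system. -/
theorem res_nor {x f : E} (hx : x ∈ R) (hxx : x * x = 1) (hu : IsUnit f) (hf : Nor R f) (hfx : f * x = x * f) :
    Nor (resSet x R) (res x f) := by
  rintro _ ⟨y, ⟨hy, hyx⟩, rfl⟩
  obtain ⟨z, hz, e⟩ := hf y hy
  have hzx : z * x = x * z := by
    refine hu.mul_right_cancel ?_
    calc z * x * f = z * f * x := by rw [mul_assoc z x f, ← hfx, ← mul_assoc]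
      _ = f * y * x := by rw [e]
      _ = x * f * y := by rw [mul_assoc, hyx, ← mul_assoc, hfx]
      _ = x * z * f := by rw [mul_assoc, e, ← mul_assoc]
  exact ⟨res x z, h.res_mem hz hzx, by
    rw [← res_mul hxx h.two_ne hyx, ← res_mul hxx h.two_ne hfx, e]⟩

/-- Among the members commuting with two given ones there is one outside a given line and the scalars. -/
theorem exists_comm_avoid [Nontrivial V] (hdim : 3 ≤ finrank F V) {x z : E} (hx : x ∈ R) (hz : z ∈ R) (v : E) :
    ∃ y ∈ R, y * x = x * y ∧ y * z = z * y ∧ y ∉ Submodule.span F ({1, v} : Set E) := by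
  by_contra hcon
  push Not at hcon
  have h1 := h.exists_comm_two hx hz
  have h2 : Submodule.span F {y | y ∈ R ∧ y * x = x * y ∧ y * z = z * y} ≤ Submodule.span F ({1, v} : Set E) :=
    Submodule.span_le.2 fun y hy => hcon y hy.1 hy.2.1 hy.2.2
  classical
  have h3 : finrank F (Submodule.span F ({1, v} : Set E)) ≤ 2 := by
    refine (finrank_span_le_card _).trans ?_
    rw [Set.toFinset_insert, Set.toFinset_singleton]
    exact Finset.card_le_two
  have h4 := (Submodule.finrank_mono h2).trans h3
  rw [Module.finrank_linearMap] at h1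
  nlinarith

/-- An involution of the system commuting with two given ones and outside a given line. -/
theorem exists_comm_invol [Nontrivial V] (hdim : 3 ≤ finrank F V) {x z : E} (hx : x ∈ R) (hz : z ∈ R) (v : E) :
    ∃ y ∈ R, y * y = 1 ∧ y * x = x * y ∧ y * z = z * y ∧ ¬ IsScalarMap y ∧ ∀ c : F, y ≠ c • v := by
  obtain ⟨y, hy, hyx, hyz, hyv⟩ := h.exists_comm_avoid hdim hx hz v
  have hns : ¬ IsScalarMap y := by
    rintro ⟨c, rfl⟩
    exact hyv (Submodule.smul_mem _ _ (Submodule.subset_span (by simp)))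
  obtain ⟨y', hy', hyy, hns', c, hc, rfl⟩ := h.exists_invol hy hns
  refine ⟨y', hy', hyy, smul_right_injective E hc ?_, smul_right_injective E hc ?_, hns', fun d hd => hyv ?_⟩
  · simpa using hyx
  · simpa using hyz
  · rw [hd, smul_smul]
    exact Submodule.smul_mem _ _ (Submodule.subset_span (by simp))

/-- A conjugate of an involution, inside an element of `Γ` centralising `y`, compresses to a line of the system. -/
theorem conj_line [Finite F] [Nontrivial V] (hn : (finrank F V : F) ≠ 0) {Γ : Subgroup Eˣ} (hΓ : Ambient i R Γ)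
    (hS : Small R Γ) {g g' x y : E} (hg : InG Γ g) (h1 : g * g' = 1) (h2 : g' * g = 1) (hx : x ∈ R)
    (hxx : x * x = 1) (hy : y ∈ R) (hyy : y * y = 1) (hys : ¬ IsScalarMap y)
    (hwy : g * x * g' * y = y * (g * x * g')) :
    ∃ r ∈ R, r * y = y * r ∧ ∃ c : F, c ≠ 0 ∧ res y (g * x * g') = c • res y r := by
  have hnor := hS y hy hyy hys _ (InG.conj hg (hΓ.quarter x hx hxx) h1) (by
    rw [quarter_conj h1]
    exact (quarter_comm (i := i) (a := g * x * g') (f := y) hwy.symm).symm)
  rw [quarter_conj h1, res_quarter hyy h.two_ne] at hnor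
  haveI : Nontrivial (plusSpace y) := by
    have h0 := h.res_finrank hy hyy hys
    have h3 : 0 < finrank F V := Module.finrank_pos
    exact Module.finrank_pos_iff.1 (by omega : 0 < finrank F (plusSpace y))
  haveI : Finite (Module.End F (plusSpace y)) := Module.finite_of_finite F
  haveI : Finite (resSet y R) := Finite.of_injective Subtype.val Subtype.val_injective
  have hww : res y (g * x * g') * res y (g * x * g') = 1 := by
    rw [← res_mul hyy h.two_ne hwy, conj_mul h2, hxx, mul_one, h1, res_one hyy h.two_ne]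
  obtain ⟨_, ⟨r, ⟨hr, hry⟩, rfl⟩, c, hc, e⟩ :=
    (h.pauli_res hy hyy).line_of_nor_quarter (h.finrank_cast_res hy hyy hys hn) hww hnor
  exact ⟨r, hr, hry, c, hc, e⟩

end Pauli

end CfsgLib.Classical.PauliMax
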