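import Cfsg.Agent.Lib.Classical.PauliMax.Embed
import Cfsg.Agent.Lib.Classical.PauliMax.Tools

/-!
# An element acting as one on one eigenspace and of order six on the other
-/

set_option autoImplicit false
set_option linter.unusedSectionVars false
set_option maxHeartbeats 400000

namespace CfsgLib.Classical.PauliMax

open Matrix Module Polynomial CfsgLib.Classical.Dickson
open scoped MatrixGroups

variable {F : Type*} [Field F] {V : Type*} [AddCommGroup V] [Module F V] [FiniteDimensional F V]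

local notation "E" => Module.End F V

/-- The product of two quarter turns on anticommuting involutions. -/
def sixth (i : F) (z₀ z₁ : Module.End F V) : Module.End F V := (2 : F)⁻¹ • (quarter i z₁ * quarter (-i) z₀)

theorem perm_four_twelve {G : Type*} [Group G] (f : G ≃* Equiv.Perm (Fin 4)) (x : G) : x ^ 4 = 1 ∨ x ^ 6 = 1 := by
  rcases perm_four_exp (f x) with e | e
  · exact .inl (f.injective (by rw [map_pow, e, map_one]))
  · exact .inr (f.injective (by rw [map_pow, e, map_one]))

theorem fromCols_mul {L : Type*} [Field L] {n : ℕ} (M : Matrix (Fin n) (Fin n) L) (u v : Fin n → L) (p q r s : L)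
    (hu : M *ᵥ u = p • u + r • v) (hv : M *ᵥ v = q • u + s • v) :
    M * Matrix.of (fun x => ![u x, v x]) = Matrix.of (fun x => ![u x, v x]) * !![p, q; r, s] := by
  ext x y
  have h1 := congrFun hu x
  have h2 := congrFun hv x
  simp only [Pi.add_apply, Pi.smul_apply, smul_eq_mul, mulVec, dotProduct] at h1 h2
  fin_cases y <;> simp [Matrix.mul_apply, Fin.sum_univ_two, h1, h2] <;> ring

theorem of_mulVec {L : Type*} [Field L] {n : ℕ} (u v : Fin n → L) (c : Fin 2 → L) :
    Matrix.of (fun x => ![u x, v x]) *ᵥ c = c 0 • u + c 1 • v := by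
  ext x
  simp [mulVec, dotProduct, Fin.sum_univ_two]
  ring

namespace Pauli

variable {i : F} {R : Set (Module.End F V)} (h : Pauli i R)
include h

theorem sixth_expand (z₀ z₁ : E) :
    quarter i z₁ * quarter (-i) z₀ = 1 + (i • z₁ - i • z₀ + z₁ * z₀) := by
  simp only [quarter, mul_add, add_mul, one_mul, mul_one, smul_mul_assoc, mul_smul_comm, neg_smul, smul_neg,
    mul_neg, neg_mul, smul_smul, h.hi, one_smul]
  match_scalars <;> first | linear_combination (0 : F) | linear_combination h.hi | linear_combination -h.hi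

theorem sixth_quad {z₀ z₁ : E} (h0 : z₀ * z₀ = 1) (h1 : z₁ * z₁ = 1) (h01 : z₁ * z₀ = -(z₀ * z₁)) :
    sixth i z₀ z₁ * sixth i z₀ z₁ = sixth i z₀ z₁ - 1 := by
  obtain ⟨S, hS⟩ : ∃ S : E, S = i • z₁ - i • z₀ + z₁ * z₀ := ⟨_, rfl⟩
  have hexp : quarter i z₁ * quarter (-i) z₀ = 1 + S := by rw [hS]; exact h.sixth_expand z₀ z₁
  have hSS : S * S = (-3 : F) • 1 := by
    have e1 : z₁ * z₀ * z₁ = -z₀ := by rw [h01, neg_mul, mul_assoc, h1, mul_one]
    have e2 : z₁ * z₀ * z₀ = z₁ := by rw [mul_assoc, h0, mul_one]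
    have e3 : z₁ * (z₁ * z₀) = z₀ := by rw [← mul_assoc, h1, one_mul]
    have e4 : z₀ * (z₁ * z₀) = -z₁ := by rw [h01, mul_neg, ← mul_assoc, h0, one_mul]
    have e5 : z₁ * z₀ * (z₁ * z₀) = -1 := by rw [← mul_assoc, e1, neg_mul, h0]
    have e6 : z₀ * z₁ = -(z₁ * z₀) := by rw [h01, neg_neg]
    rw [hS]
    simp only [mul_add, add_mul, mul_sub, sub_mul, smul_mul_assoc, mul_smul_comm, smul_smul, h0, h1, e1, e2, e3,
      e4, e5, e6, h.hi]
    match_scalars <;> first | linear_combination (0 : F) | linear_combination h.hi | linear_combination -h.hi |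
      linear_combination (2 : F) * h.hi | linear_combination (-2 : F) * h.hi | linear_combination (3 : F) * h.hi |
      linear_combination (-3 : F) * h.hi
  rw [sixth, hexp, smul_mul_smul_comm,
    show (1 + S) * (1 + S) = 1 + S + S + S * S by noncomm_ring, hSS]
  have := h.two_ne
  match_scalars <;> field_simp <;> ring

/-- The split element generates, with the quarter turns, an element of order `p` inverted by an involution. -/
theorem no_split [Finite F] {p : ℕ} [Fact p.Prime] [CharP F p] (hF : Nat.card F = p) (hp2 : p ≠ 2) (hp3 : p ≠ 3)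
    (hn : (finrank F V : F) ≠ 0) (hdim : 4 ≤ finrank F V) {Γ : Subgroup Eˣ} (hΓ : Ambient i R Γ)
    (hS : Small R Γ) {a z₀ z₁ : E} (ha : a ∈ R) (haa : a * a = 1) (hna : ¬ IsScalarMap a) (hz₀ : z₀ ∈ R)
    (hz₁ : z₁ ∈ R) (h0 : z₀ * z₀ = 1) (h1 : z₁ * z₁ = 1) (h0a : z₀ * a = a * z₀) (h1a : z₁ * a = a * z₁)
    (h01 : z₁ * z₀ = -(z₀ * z₁)) (hGΓ : InG Γ (proj a + proj (-a) * sixth i z₀ z₁)) : False := by
  classical
  haveI : Nontrivial V := Module.finrank_pos_iff.1 (by omega : 0 < finrank F V)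
  set J := sixth i z₀ z₁ with hJ
  have hJq : J * J = J - 1 := h.sixth_quad h0 h1 h01
  -- an involution swapping the eigenspaces and commuting with `J`
  obtain ⟨b₀, hb₀, hb₀a⟩ := h.exists_anti ha hna
  obtain ⟨b₁, hb₁, hb₁a, hb₁0⟩ : ∃ b ∈ R, b * a = -(a * b) ∧ b * z₀ = z₀ * b := by
    rcases h.comm z₀ hz₀ b₀ hb₀ with e | e
    · exact ⟨b₀, hb₀, hb₀a, e⟩
    · refine ⟨b₀ * z₁, h.mul_mem _ hb₀ _ hz₁, ?_, ?_⟩
      · rw [mul_assoc, h1a, ← mul_assoc, hb₀a, neg_mul, mul_assoc]
      · rw [mul_assoc, h01, mul_neg, ← mul_assoc, e, neg_mul, neg_neg, mul_assoc]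
  obtain ⟨b₂, hb₂, hb₂a, hb₂0, hb₂1⟩ : ∃ b ∈ R, b * a = -(a * b) ∧ b * z₀ = z₀ * b ∧ b * z₁ = z₁ * b := by
    rcases h.comm z₁ hz₁ b₁ hb₁ with e | e
    · exact ⟨b₁, hb₁, hb₁a, hb₁0, e⟩
    · refine ⟨b₁ * z₀, h.mul_mem _ hb₁ _ hz₀, ?_, ?_, ?_⟩
      · rw [mul_assoc, h0a, ← mul_assoc, hb₁a, neg_mul, mul_assoc]
      · rw [mul_assoc, ← mul_assoc z₀, ← hb₁0, mul_assoc]
      · rw [mul_assoc, show z₀ * z₁ = -(z₁ * z₀) by rw [h01, neg_neg], mul_neg, ← mul_assoc, e, neg_mul, neg_neg,
          mul_assoc]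
  obtain ⟨b, hb, hbb, -, c, hc, rfl⟩ := h.exists_invol hb₂ (h.not_scalar_of_anti hb₂ ha (by
    rw [hb₂a, neg_neg]))
  have hba : b * a = -(a * b) := smul_right_injective E hc (by simpa [smul_neg] using hb₂a)
  have hb0 : b * z₀ = z₀ * b := smul_right_injective E hc (by simpa using hb₂0)
  have hb1 : b * z₁ = z₁ * b := smul_right_injective E hc (by simpa using hb₂1)
  have hqc : ∀ f : E, f * z₀ = z₀ * f → f * z₁ = z₁ * f → f * J = J * f := fun f e0 e1 => by
    rw [hJ, sixth, mul_smul_comm, smul_mul_assoc, ← mul_assoc, quarter_comm e1, mul_assoc, quarter_comm e0,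
      ← mul_assoc]
  have haJ : a * J = J * a := hqc a h0a.symm h1a.symm
  have hbJ : b * J = J * b := hqc b hb0 hb1
  set P := proj a with hP
  set Q := proj (-a) with hQ
  have hneg : (-a) * (-a) = 1 := by rw [neg_mul_neg, haa]
  have hQP : Q * P = 0 := by
    have := proj_neg_mul hneg h.two_ne
    rwa [neg_neg] at this
  have hQb : Q * b = b * P := by
    rw [hP, hQ, proj, proj, mul_smul_comm, smul_mul_assoc, mul_add, add_mul, one_mul, mul_one, hba, neg_mul]
  have hPb : P * b = b * Q := by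
    rw [hP, hQ, proj, proj, mul_smul_comm, smul_mul_assoc, mul_add, add_mul, one_mul, mul_one, mul_neg, hba,
      neg_neg]
  have hJP : J * P = P * J := comm_proj haa h.two_ne haJ.symm
  have hJQ : J * Q = Q * J := comm_proj hneg h.two_ne (by rw [mul_neg, neg_mul, haJ])
  set G := P + Q * J with hG
  have hGP : G * P = P := by rw [hG, add_mul, proj_mul_self haa h.two_ne, mul_assoc, hJP, ← mul_assoc, hQP, zero_mul,
    add_zero]
  have hGbP : G * (b * P) = b * (J * P) := by
    rw [hG, add_mul, ← mul_assoc, hPb, mul_assoc, hQP, mul_zero, zero_add, mul_assoc, ← mul_assoc J b, ← hbJ,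
      mul_assoc b J P, ← mul_assoc, hQb, mul_assoc, ← mul_assoc P J P, ← hJP, mul_assoc J P P,
      proj_mul_self haa h.two_ne]
  -- the field of sixth roots of unity
  let L := (X ^ 2 - X + 1 : F[X]).SplittingField
  haveI : Finite L := Module.finite_of_finite F
  haveI : Fintype L := Fintype.ofFinite L
  haveI : CharP L p := charP_of_injective_algebraMap (algebraMap F L).injective p
  obtain ⟨ω, hω⟩ : ∃ ω : L, ω * ω = ω - 1 := by
    have hdeg : (X ^ 2 - X + 1 : F[X]).degree = 2 := by compute_degree!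
    obtain ⟨ω, hω⟩ := Polynomial.Splits.exists_eval_eq_zero
      (SplittingField.splits (X ^ 2 - X + 1 : F[X])) (by rw [degree_map, hdeg]; decide)
    exact ⟨ω, by simp at hω; linear_combination hω⟩
  have h2L : (2 : L) ≠ 0 := fun e => h.two_ne ((algebraMap F L).injective (by rw [map_ofNat, map_zero, e]))
  have h3L : (3 : L) ≠ 0 := fun e => hp3 (by
    have : (p : ℕ) ∣ 3 := (CharP.cast_eq_zero_iff L p 3).1 (by exact_mod_cast e)
    exact (Nat.prime_dvd_prime_iff_eq Fact.out Nat.prime_three).1 this)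
  set n := finrank F V with hndef
  let B := Module.finBasis F V
  set φ := embed B L with hφ
  -- a common eigenvector of `a` and `J`
  have hM : (φ J - (1 - ω) • 1) * φ P ≠ 0 := by
    intro e
    rw [sub_mul, smul_mul_assoc, one_mul, sub_eq_zero, ← map_mul] at e
    have hP0 : P ≠ 0 := fun e0 => hna ⟨-1, by
      rw [hP, proj] at e0
      have := (smul_eq_zero.1 e0).resolve_left (inv_ne_zero h.two_ne)
      rw [neg_smul, one_smul]
      exact eq_neg_of_add_eq_zero_right this⟩
    obtain ⟨r, s, hrs⟩ : ∃ r s, (LinearMap.toMatrixAlgEquiv B P) r s ≠ 0 := by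
      by_contra hcon
      push Not at hcon
      exact hP0 ((LinearMap.toMatrixAlgEquiv B).injective (by rw [map_zero]; ext r s; exact hcon r s))
    have hrs' : φ (J * P) r s = (1 - ω) * φ P r s := by rw [e]; rfl
    set d := LinearMap.toMatrixAlgEquiv B (J * P) r s / LinearMap.toMatrixAlgEquiv B P r s with hd
    have hd' : algebraMap F L d = 1 - ω := by
      rw [hd, map_div₀, div_eq_iff (fun e0 => hrs ((algebraMap F L).injective (e0.trans (map_zero _).symm)))]
      exact hrs'
    have hJPd : J * P = d • P := embed_injective B L (by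
      rw [← hφ, e, map_smul, ← hd', algebraMap_smul])
    -- the compression of `J` is then a scalar
    have hz : res a J = d • 1 := by
      rw [← res_one haa h.two_ne, ← map_smul, res_eq_iff haa h.two_ne, ← hP, mul_assoc, hJPd, mul_smul_comm,
        mul_smul_comm, smul_mul_assoc, mul_one]
    have hcomm : ∀ z : E, z * a = a * z → res a z * res a J = res a J * res a z := fun z _ => by
      rw [hz, smul_mul_assoc, mul_smul_comm, mul_one, one_mul]
    have h5 := hcomm z₀ h0a
    rw [hJ, sixth, map_smul, mul_smul_comm, smul_mul_assoc] at h5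
    have h6 := smul_right_injective _ (inv_ne_zero h.two_ne) h5
    rw [← res_mul haa h.two_ne (by
        rw [mul_assoc, (quarter_comm (i := -i) h0a.symm).symm, ← mul_assoc, ← quarter_comm (i := i) h1a.symm,
          mul_assoc]),
      ← res_mul haa h.two_ne h0a, res_eq_iff haa h.two_ne] at h6
    have e5 : z₀ * (quarter i z₁ * quarter (-i) z₀) - quarter i z₁ * quarter (-i) z₀ * z₀ =
        ((2 * i) • (z₀ * z₁) + (-2 : F) • z₁) := by
      have e1 : z₀ * (z₁ * z₀) = -z₁ := by rw [h01, mul_neg, ← mul_assoc, h0, one_mul]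
      have e2 : z₁ * z₀ * z₀ = z₁ := by rw [mul_assoc, h0, mul_one]
      rw [h.sixth_expand]
      simp only [mul_add, add_mul, mul_sub, sub_mul, smul_mul_assoc, mul_smul_comm, one_mul, mul_one, e1, e2, h0]
      rw [h01]
      module
    have h7 : res a ((2 * i) • (z₀ * z₁) + (-2 : F) • z₁) = 0 := by
      rw [← e5, map_sub, sub_eq_zero, res_eq_iff haa h.two_ne]
      exact h6
    have h8 : res a z₁ * res a ((2 * i) • z₀ + (2 : F) • 1) = 0 := by
      rw [← res_mul haa h.two_ne (by simp [add_mul, mul_add, h0a]), mul_add, mul_smul_comm, mul_smul_comm, mul_one,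
        h01, ← neg_eq_zero, ← map_neg]
      convert h7 using 2
      rw [smul_neg, neg_add, neg_neg, neg_smul]
    have hh := h.pauli_res ha haa
    haveI : Nontrivial (plusSpace a) := by
      have := h.res_finrank ha haa hna
      exact Module.finrank_pos_iff.1 (by omega : 0 < finrank F (plusSpace a))
    obtain ⟨u, hu⟩ := hh.isUnit (h.res_mem hz₁ h1a)
    rw [← hu, Units.mul_right_eq_zero, map_add, res_smul_one haa h.two_ne, map_smul] at h8
    refine h.res_not_scalar ha haa hna hz₀ h0a (h.not_scalar_of_anti hz₀ hz₁ h01) (fun c hc => ?_)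
      ⟨i, ?_⟩
    · rw [hc, mul_smul_comm, smul_mul_assoc, h1a] at h01
      have : (2 : F) • (c • (a * z₁)) = 0 := by
        rw [two_smul]; nth_rw 1 [h01]; exact neg_add_cancel _
      rw [smul_smul] at this
      rcases smul_eq_zero.1 this with e' | e'
      · rcases mul_eq_zero.1 e' with e'' | e''
        · exact h.two_ne e''
        · exact h.ne_zero hz₀ (by rw [hc, e'', zero_smul])
      · exact h.ne_zero (h.mul_mem _ ha _ hz₁) e'
    · refine smul_right_injective _ (mul_ne_zero h.two_ne h.i_ne) ?_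
      change (2 * i) • res a z₀ = (2 * i) • (i • (1 : Module.End F (plusSpace a)))
      rw [eq_neg_of_add_eq_zero_left h8, smul_smul]
      match_scalars
      linear_combination -(2 : F) * h.hi
  obtain ⟨w₀, hw₀⟩ : ∃ w₀, ((φ J - (1 - ω) • 1) * φ P) *ᵥ w₀ ≠ 0 := by
    by_contra hcon
    push Not at hcon
    exact hM (Matrix.toLin'.injective (LinearMap.ext fun w => by rw [Matrix.toLin'_apply, map_zero, LinearMap.zero_apply]; exact hcon w))
  set v := ((φ J - (1 - ω) • 1) * φ P) *ᵥ w₀ with hv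
  have hcPJ : φ P * φ J = φ J * φ P := by rw [← map_mul, ← map_mul, hJP]
  have hvP : φ P *ᵥ v = v := by
    rw [hv, Matrix.mulVec_mulVec]
    congr 1
    rw [← mul_assoc, mul_sub, hcPJ, mul_smul_comm, mul_one, sub_mul, mul_assoc, smul_mul_assoc, ← map_mul,
      proj_mul_self haa h.two_ne, sub_mul, smul_mul_assoc, one_mul]
  have hva : φ a *ᵥ v = v := by
    conv_lhs => rw [← hvP, Matrix.mulVec_mulVec, ← map_mul, hP, mul_proj haa h.two_ne, ← hP, hvP]
  have hvJ : φ J *ᵥ v = ω • v := by
    rw [hv, Matrix.mulVec_mulVec, ← mul_assoc, ← Matrix.smul_mulVec, ← smul_mul_assoc]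
    congr 2
    rw [mul_sub, mul_smul_comm, mul_one, ← map_mul, hJq, map_sub, map_one]
    match_scalars <;> first | linear_combination (0 : L) | linear_combination hω | linear_combination -hω
  have hφb : φ b * φ b = 1 := by rw [← map_mul, hbb, map_one]
  set v' := φ b *ᵥ v with hv'
  have hv'b : φ b *ᵥ v' = v := by rw [hv', Matrix.mulVec_mulVec, hφb, Matrix.one_mulVec]
  have hv'a : φ a *ᵥ v' = -v' := by
    rw [hv', Matrix.mulVec_mulVec, ← map_mul, show a * b = -(b * a) by rw [hba, neg_neg], map_neg,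
      Matrix.neg_mulVec, map_mul, ← Matrix.mulVec_mulVec, hva]
  have hGv : φ G *ᵥ v = v := by
    conv_lhs => rw [← hvP, Matrix.mulVec_mulVec, ← map_mul, hGP, hvP]
  have hGv' : φ G *ᵥ v' = ω • v' := by
    rw [hv']
    conv_lhs => rw [← hvP, Matrix.mulVec_mulVec, Matrix.mulVec_mulVec, ← map_mul, ← map_mul, mul_assoc, hGbP,
      map_mul, map_mul, ← Matrix.mulVec_mulVec, ← Matrix.mulVec_mulVec, hvP, hvJ, Matrix.mulVec_smul]
  let X' : Matrix (Fin n) (Fin 2) L := Matrix.of (fun x => ![v x, v' x])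
  obtain ⟨Y, hY⟩ := exists_left_inverse (X := X') (fun c hc => by
    rw [of_mulVec] at hc
    have hd := congrArg (φ a *ᵥ ·) hc
    simp only [Matrix.mulVec_add, Matrix.mulVec_smul, hva, hv'a, smul_neg, Matrix.mulVec_zero] at hd
    have h0' : ((2 : L) * c 0) • v = 0 := by linear_combination (norm := module) hc + hd
    have hv0 : v ≠ 0 := hw₀
    have hv'0 : v' ≠ 0 := fun e => hv0 (by rw [← hv'b, e, Matrix.mulVec_zero])
    have c0 : c 0 = 0 := by simpa [h2L, hv0] using h0'
    rw [c0, zero_smul, zero_add] at hc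
    funext k
    fin_cases k
    · exact c0
    · simpa [hv'0] using hc)
  set j := algebraMap F L i with hj
  have hjj : j * j = -1 := by rw [hj, ← map_mul, h.hi, map_neg, map_one]
  have hqv : ∀ (z : E) (u : Fin n → L), φ (quarter i z) *ᵥ u = u + j • (φ z *ᵥ u) := fun z u => by
    rw [quarter, map_add, map_one, map_smul, Matrix.add_mulVec, Matrix.one_mulVec, ← algebraMap_smul L i (φ z),
      Matrix.smul_mulVec]
  obtain ⟨ua, hua, hua'⟩ := hΓ.mem a ha
  obtain ⟨ub, hub, hub'⟩ := hΓ.mem b hb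
  obtain ⟨ut, hut, hut'⟩ := hΓ.quarter a ha haa
  obtain ⟨uq, huq, huq'⟩ := hΓ.quarter b hb hbb
  obtain ⟨uG, huG, huG'⟩ := hGΓ
  have hω0 : ω ≠ 0 := fun e => by simp [e] at hω
  have hmk : ∀ M : Matrix (Fin 2) (Fin 2) L, M.det ≠ 0 →
      ∃ Z : GL (Fin 2) L, (Z : Matrix (Fin 2) (Fin 2) L) = M := fun M hM =>
    ⟨GeneralLinearGroup.mkOfDetNeZero M hM, rfl⟩
  obtain ⟨Za, hZa⟩ := hmk !![1, 0; 0, -1] (by simp [Matrix.det_fin_two])
  obtain ⟨Zt, hZt⟩ := hmk !![1 + j, 0; 0, 1 - j] (by
    simp [Matrix.det_fin_two]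
    constructor <;> intro e <;> apply h2L
    · linear_combination (1 - j) * e + hjj
    · linear_combination (1 + j) * e + hjj)
  obtain ⟨Zb, hZb⟩ := hmk !![0, 1; 1, 0] (by simp [Matrix.det_fin_two])
  obtain ⟨Zq, hZq⟩ := hmk !![1, j; j, 1] (by
    simp [Matrix.det_fin_two, hjj]
    exact fun e => h2L (by linear_combination e))
  obtain ⟨ZG, hZG⟩ := hmk !![1, 0; 0, ω] (by simp [Matrix.det_fin_two, hω0])
  have eG : embed B L (uG : E) * X' = X' * (ZG : Matrix (Fin 2) (Fin 2) L) := by
    rw [huG', hZG, ← hφ]; exact fromCols_mul _ _ _ _ _ _ _ (by rw [hGv]; simp) (by rw [hGv']; simp)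
  have et : embed B L (ut : E) * X' = X' * (Zt : Matrix (Fin 2) (Fin 2) L) := by
    rw [hut', hZt, ← hφ]
    exact fromCols_mul _ _ _ _ _ _ _ (by rw [hqv, hva]; module) (by rw [hqv, hv'a]; module)
  obtain ⟨U, hUΓ, hU1, hUp, hUinv⟩ := exists_inverted B hp2 hF h.hi hY hua hut hub huq (by rw [hua', haa])
    (Za := Za) (Zt := Zt) (Zs := Zb) (Zq := Zq)
    (by rw [hua', hZa, ← hφ]; exact fromCols_mul _ _ _ _ _ _ _ (by rw [hva]; simp) (by rw [hv'a]; simp))
    et
    (by rw [hub', hZb, ← hφ]; exact fromCols_mul _ _ _ _ _ _ _ (by simp [hv']) (by rw [hv'b]; simp))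
    (by rw [huq', hZq, ← hφ]; exact fromCols_mul _ _ _ _ _ _ _ (by rw [hqv, ← hv']; simp)
          (by rw [hqv, hv'b]; module))
    hZa hZt (by rw [hZb]; simp) (by rw [hZb]; simp)
    (by
      rw [← map_pow, show (1 : ProjGenLinGroup (Fin 2) L) = ProjGenLinGroup.mk 1 from (map_one _).symm,
        ProjGenLinGroup.mk_eq_mk_iff]
      refine ⟨Units.mk0 ((-4 : L)⁻¹) (by
        rw [ne_eq, inv_eq_zero, neg_eq_zero, show (4 : L) = 2 * 2 by norm_num]; exact mul_ne_zero h2L h2L), ?_⟩
      apply Units.ext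
      rw [Units.val_mul, Units.val_pow_eq_pow_val, hZq]
      have e2 : (!![1, j; j, 1] : Matrix (Fin 2) (Fin 2) L) ^ 2 = !![0, 2 * j; 2 * j, 0] := by
        rw [pow_two (!![(1 : L), j; j, 1])]; ext r c; fin_cases r <;> fin_cases c <;> simp [Matrix.mul_apply, Fin.sum_univ_two, hjj] <;>
          ring
      have h4 : (4 : L) ≠ 0 := by rw [show (4 : L) = 2 * 2 by norm_num]; exact mul_ne_zero h2L h2L
      have e4 : (!![0, 2 * j; 2 * j, 0] : Matrix (Fin 2) (Fin 2) L) * !![0, 2 * j; 2 * j, 0] =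
          (-4 : L) • (1 : Matrix (Fin 2) (Fin 2) L) := by
        ext r c
        fin_cases r <;> fin_cases c <;> simp [Matrix.mul_apply, Fin.sum_univ_two] <;>
          linear_combination (4 : L) * hjj
      rw [show (4 : ℕ) = 2 * 2 from rfl, pow_mul, e2, pow_two (!![(0 : L), 2 * j; 2 * j, 0]), e4]
      have h4' : (-4 : L) ≠ 0 := neg_ne_zero.2 h4
      rw [Matrix.smul_mul, Matrix.one_mul]
      change (-4 : L) • Matrix.diagonal (fun _ : Fin 2 => (-4 : L)⁻¹) = 1
      rw [← Matrix.diagonal_smul, ← Matrix.diagonal_one]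
      congr 1
      funext k
      exact mul_inv_cancel₀ h4')
    (by
      intro e
      rw [← map_pow, show (1 : ProjGenLinGroup (Fin 2) L) = ProjGenLinGroup.mk 1 from (map_one _).symm,
        ProjGenLinGroup.mk_eq_mk_iff] at e
      obtain ⟨u, hu⟩ := e
      have := congrArg (fun M : GL (Fin 2) L => (M : Matrix (Fin 2) (Fin 2) L) 0 0) hu
      simp [hZq, pow_two, Matrix.mul_apply, Fin.sum_univ_two, Matrix.GeneralLinearGroup.scalar, Matrix.vecMul,
        dotProduct, hjj] at this)
    (by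
      intro e
      rw [← map_pow, ProjGenLinGroup.mk_eq_mk_iff] at e
      obtain ⟨u, hu⟩ := e
      have := congrArg (fun M : GL (Fin 2) L => (M : Matrix (Fin 2) (Fin 2) L) 0 0) hu
      simp [hZq, hZa, pow_two, Matrix.mul_apply, Fin.sum_univ_two, Matrix.GeneralLinearGroup.scalar, Matrix.vecMul,
        dotProduct, hjj] at this)
    (fun K hK ⟨f⟩ => by
      have hz : ProjGenLinGroup.mk (Zt * ZG) ∈ K := by
        rw [map_mul]
        exact K.mul_mem (hK ut (mem_colStab_of_eq hut et) _ et) (hK uG (mem_colStab_of_eq huG eG) _ eG)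
      have hpow : ∀ k : ℕ, ((Zt * ZG) ^ k : GL (Fin 2) L).1 =
          !![(1 + j) ^ k, 0; 0, ((1 - j) * ω) ^ k] := by
        intro k
        induction k with
        | zero => simp [Matrix.one_fin_two]
        | succ k ih =>
          rw [pow_succ (Zt * ZG), Units.val_mul, ih, Units.val_mul, hZt, hZG]
          ext r c
          fin_cases r <;> fin_cases c <;> simp [Matrix.mul_apply, Fin.sum_univ_two] <;> ring
      have hkey : ∀ k : ℕ, (⟨_, hz⟩ : K) ^ k = 1 → (1 + j) ^ k = ((1 - j) * ω) ^ k := by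
        intro k e
        have e' := congrArg Subtype.val e
        rw [Subgroup.coe_pow, ← map_pow, Subgroup.coe_one, show (1 : ProjGenLinGroup (Fin 2) L) =
          ProjGenLinGroup.mk 1 from (map_one _).symm, ProjGenLinGroup.mk_eq_mk_iff] at e'
        obtain ⟨u, hu⟩ := e'
        have h00 := congrArg (fun M : GL (Fin 2) L => (M : Matrix (Fin 2) (Fin 2) L) 0 0) hu
        have h11 := congrArg (fun M : GL (Fin 2) L => (M : Matrix (Fin 2) (Fin 2) L) 1 1) hu
        simp only [Units.val_mul, hpow, Units.val_one] at h00 h11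
        simp [Matrix.mul_apply, Fin.sum_univ_two, Matrix.GeneralLinearGroup.scalar] at h00 h11
        exact mul_right_cancel₀ u.ne_zero (h00.trans h11.symm)
      have hω3 : ω ^ 3 = -1 := by linear_combination (ω + 1) * hω
      rcases perm_four_twelve f ⟨_, hz⟩ with e | e
      · have e4 := hkey 4 e
        have a1 : (1 + j) ^ 4 = -4 := by linear_combination (j ^ 2 + 4 * j + 5) * hjj
        have a2 : (1 - j) ^ 4 = -4 := by linear_combination (j ^ 2 - 4 * j + 5) * hjj
        rw [mul_pow, a1, a2] at e4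
        have : (4 : L) * (ω + 1) = 0 := by linear_combination (4 : L) * ω * hω3 - e4
        have hω1 : ω = -1 := by
          rcases mul_eq_zero.1 this with e' | e'
          · exact absurd (by rw [show (4 : L) = 2 * 2 by norm_num] at e'; simpa using e') h2L
          · linear_combination e'
        rw [hω1] at hω
        exact h3L (by linear_combination hω)
      · have e6 := hkey 6 e
        have a1 : (1 + j) ^ 6 = -(8 * j) := by
          linear_combination (j ^ 4 + 6 * j ^ 3 + 14 * j ^ 2 + 14 * j + 1) * hjj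
        have a2 : (1 - j) ^ 6 = 8 * j := by
          linear_combination (j ^ 4 - 6 * j ^ 3 + 14 * j ^ 2 - 14 * j + 1) * hjj
        rw [mul_pow, a1, a2, show ω ^ 6 = 1 by linear_combination (ω ^ 3 - 1) * hω3, mul_one] at e6
        have : (16 : L) * j = 0 := by linear_combination -e6
        rcases mul_eq_zero.1 this with e' | e'
        · exact h2L (pow_eq_zero_iff (n := 4) (by norm_num) |>.1 (by norm_num; exact e'))
        · rw [e', mul_zero] at hjj; simp at hjj)
  rw [hua'] at hUinv
  obtain ⟨x, hx, hxx, hxs, g, hg, hgx, hgn⟩ :=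
    h.exists_moving hF hp2 hn hdim hΓ ha haa ⟨U, hUΓ, rfl⟩ hU1 hUp hUinv
  exact hgn (hS x hx hxx hxs g hg hgx)

end Pauli

end CfsgLib.Classical.PauliMax
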