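import Cfsg.Agent.Lib.Classical.PauliMax.Quarter

/-!
# Unipotent elements inverted by a member of a Pauli system

If a group containing the scalars, the system and its quarter turns has a non-trivial element of order `p` inverted
by an involution of the system, then it has one with a single quadratic step, and then an element centralising some
involution of the system whose compression does not normalise the compressed system.
-/

set_option autoImplicit false
set_option linter.unusedSectionVars false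
set_option maxHeartbeats 400000

namespace CfsgLib.Classical.PauliMax

open Module

variable {F : Type*} [Field F] {V : Type*} [AddCommGroup V] [Module F V] [FiniteDimensional F V]

local notation "E" => Module.End F V

/-- `f` is the matrix of a member of `Γ`. -/
def InG (Γ : Subgroup (Module.End F V)ˣ) (f : Module.End F V) : Prop := ∃ g ∈ Γ, (g : Module.End F V) = f

theorem InG.mul {Γ : Subgroup Eˣ} {f g : E} (hf : InG Γ f) (hg : InG Γ g) : InG Γ (f * g) := by
  obtain ⟨u, hu, rfl⟩ := hf; obtain ⟨v, hv, rfl⟩ := hg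
  exact ⟨u * v, Γ.mul_mem hu hv, rfl⟩

/-- The group contains the scalars, the system and its quarter turns. -/
structure Ambient (i : F) (R : Set (Module.End F V)) (Γ : Subgroup (Module.End F V)ˣ) : Prop where
  scal : ∀ c : F, c ≠ 0 → InG Γ (c • 1)
  mem : ∀ x ∈ R, InG Γ x
  quarter : ∀ a ∈ R, a * a = 1 → InG Γ (PauliMax.quarter i a)

theorem InG.smul {i : F} {R : Set E} {Γ : Subgroup Eˣ} (hΓ : Ambient i R Γ) {f : E} (hf : InG Γ f) {c : F}
    (hc : c ≠ 0) : InG Γ (c • f) := by
  have := (hΓ.scal c hc).mul hf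
  rwa [smul_mul_assoc, one_mul] at this

theorem InG.inv {Γ : Subgroup Eˣ} {f g : E} (hf : InG Γ f) (hfg : f * g = 1) : InG Γ g := by
  obtain ⟨u, hu, rfl⟩ := hf
  exact ⟨u⁻¹, Γ.inv_mem hu, by
    rw [← mul_one ((↑u⁻¹ : E)), ← hfg, ← mul_assoc, Units.inv_mul, one_mul]⟩

/-- The kernels of the powers of `X`. -/
def flagSpace (X : Module.End F V) (k : ℕ) : Submodule F V := LinearMap.ker (X ^ k)

/-- The maps lowering every step of the flag of `X` by at least `j`. -/
def lowering (X : Module.End F V) (j : ℕ) : Submodule F (Module.End F V) where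
  carrier := {f | ∀ k, ∀ v ∈ flagSpace X k, f v ∈ flagSpace X (k - j)}
  add_mem' hf hg k v hv := Submodule.add_mem _ (hf k v hv) (hg k v hv)
  zero_mem' k v _ := Submodule.zero_mem _
  smul_mem' c f hf k v hv := Submodule.smul_mem _ c (hf k v hv)

theorem mem_lowering {X f : E} {j : ℕ} :
    f ∈ lowering X j ↔ ∀ k, ∀ v ∈ flagSpace X k, f v ∈ flagSpace X (k - j) := Iff.rfl

theorem flagSpace_mono (X : E) {k l : ℕ} (h : k ≤ l) : flagSpace X k ≤ flagSpace X l := by
  intro v hv
  obtain ⟨d, rfl⟩ := Nat.exists_eq_add_of_le h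
  rw [flagSpace, LinearMap.mem_ker] at hv ⊢
  rw [add_comm k d, pow_add, Module.End.mul_apply, hv, map_zero]

theorem lowering_anti (X : E) {j l : ℕ} (h : j ≤ l) : lowering X l ≤ lowering X j :=
  fun _ hf k v hv => flagSpace_mono X (by omega) (hf k v hv)

theorem lowering_mul {X f g : E} {j l : ℕ} (hf : f ∈ lowering X j) (hg : g ∈ lowering X l) :
    f * g ∈ lowering X (j + l) := fun k v hv => by
  have := hf _ _ (hg k v hv)
  rwa [show k - l - j = k - (j + l) by omega] at this

theorem one_mem_lowering (X : E) : (1 : E) ∈ lowering X 0 := fun k v hv => by simpa using hv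

theorem lowering_eq_zero {X f : E} {N j : ℕ} (hX : X ^ N = 0) (hj : N ≤ j) (hf : f ∈ lowering X j) : f = 0 := by
  refine LinearMap.ext fun v => ?_
  have := hf N v (by simp [flagSpace, hX])
  rw [show N - j = 0 by omega, flagSpace, pow_zero, LinearMap.mem_ker, Module.End.one_apply] at this
  rw [this, LinearMap.zero_apply]

theorem pow_sub_one_mem {X f : E} {j : ℕ} (hj : 1 ≤ j) (hf : f - 1 ∈ lowering X j) (k : ℕ) :
    f ^ k - 1 ∈ lowering X j ∧ f ^ k - 1 - (k : F) • (f - 1) ∈ lowering X (j + 1) := by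
  induction k with
  | zero => simp
  | succ k ih =>
    have h1 : f ^ (k + 1) - 1 = (f ^ k - 1) + (f - 1) + (f ^ k - 1) * (f - 1) := by
      rw [pow_succ]; noncomm_ring
    have h2 : (f ^ k - 1) * (f - 1) ∈ lowering X (j + 1) :=
      lowering_anti X (by omega) (lowering_mul ih.1 hf)
    refine ⟨?_, ?_⟩
    · rw [h1]
      exact add_mem (add_mem ih.1 hf) (lowering_anti X (by omega) h2)
    · rw [h1, Nat.cast_succ, add_smul, one_smul]
      have := add_mem ih.2 h2
      convert this using 1
      abel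

theorem mul_sub_one_mem {X f g : E} {j : ℕ} (hf : f - 1 ∈ lowering X j) (hg : g - 1 ∈ lowering X j) :
    f * g - 1 ∈ lowering X j ∧ (1 ≤ j → f * g - 1 - ((f - 1) + (g - 1)) ∈ lowering X (j + 1)) := by
  have h1 : f * g - 1 = (f - 1) + (g - 1) + (f - 1) * (g - 1) := by noncomm_ring
  refine ⟨?_, fun hj => ?_⟩
  · rw [h1]
    exact add_mem (add_mem hf hg) (lowering_anti X (Nat.le_add_right j j) (lowering_mul hf hg))
  · rw [h1, add_sub_cancel_left]
    exact lowering_anti X (by omega) (lowering_mul hf hg)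

/-- Conjugation by a map whose square root of one is `a`. -/
theorem conj_quarter_sq {i : F} (hi : i * i = -1) (h2 : (2 : F) ≠ 0) {a : E} (ha : a * a = 1) (f : E) :
    let t := quarter i a
    let t' := (2 : F)⁻¹ • quarter (-i) a
    t * (t * f * t') * t' = a * f * a := by
  intro t t'
  have h1 : t * t = (2 * i) • a := quarter_mul_self hi ha
  have h1' : t' * t' = (2 : F)⁻¹ • ((-i) • a) := by
    simp only [t']
    rw [smul_mul_smul_comm, quarter_mul_self (by rw [neg_mul_neg]; exact hi) ha, smul_smul, smul_smul]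
    congr 1
    field_simp
  have h0 : t * (t * f * t') * t' = t * t * f * (t' * t') := by simp only [mul_assoc]
  rw [h0, h1, h1', smul_mul_assoc, smul_mul_assoc, mul_smul_comm, mul_smul_comm, smul_smul, smul_smul]
  conv_rhs => rw [← one_smul F (a * f * a)]
  congr 1
  field_simp
  linear_combination -hi

theorem natCast_surj [Finite F] {p : ℕ} [Fact p.Prime] [CharP F p] (hF : Nat.card F = p) (c : F) :
    ∃ k : ℕ, (k : F) = c := by
  have hbij : Function.Bijective (ZMod.castHom (dvd_refl p) F) :=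
    (Nat.bijective_iff_injective_and_card _).2
      ⟨(ZMod.castHom (dvd_refl p) F).injective, by rw [hF, Nat.card_eq_fintype_card, ZMod.card]⟩
  obtain ⟨z, rfl⟩ := hbij.2 c
  exact ⟨z.val, by rw [ZMod.castHom_apply, ZMod.cast_eq_val]⟩

namespace Pauli

variable {i : F} {R : Set (Module.End F V)} (h : Pauli i R)
variable {p : ℕ} [Fact p.Prime] [CharP F p]
include h

/-- An element of order `p` inverted by `a` gives one with a single quadratic step. -/
theorem exists_step [Finite F] (hF : Nat.card F = p) (hp : p ≠ 2) {Γ : Subgroup Eˣ} (hΓ : Ambient i R Γ) {a : E}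
    (ha : a ∈ R) (haa : a * a = 1) {U : E} (hU : InG Γ U) (hU1 : U ≠ 1) (hUp : U ^ p = 1)
    (hinv : U * (a * U * a) = 1) :
    ∃ Y : E, Y ≠ 0 ∧ InG Γ (1 + Y) ∧ ∃ c : F, (c = 1 ∨ c = -1) ∧ a * Y = c • Y ∧ Y * a = -(c • Y) := by
  classical
  have hpr : p.Prime := Fact.out
  have hp2 := hpr.two_le
  haveI : Nontrivial V := by
    by_contra hV
    rw [not_nontrivial_iff_subsingleton] at hV
    exact hU1 (LinearMap.ext fun v => Subsingleton.elim _ _)
  haveI : CharP E p := charP_of_injective_algebraMap (algebraMap F E).injective p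
  set X := U - 1 with hXdef
  have hXp : X ^ p = 0 := by
    rw [hXdef, sub_pow_char_of_commute _ (Commute.one_right U), hUp, one_pow, sub_self]
  -- flags are stable under `a` and the quarter turns
  set V' := a * U * a with hV'
  have hVU : V' * U = 1 := by
    obtain ⟨u, -, hu⟩ := hU
    rw [show V' = (↑u⁻¹ : E) by rw [← mul_one (↑u⁻¹ : E), ← hinv, ← mul_assoc, ← hu, Units.inv_mul, one_mul],
      ← hu, Units.inv_mul]
  have haX : a * X = -(V' * X) * a := by
    have : a * X * a = V' - 1 := by rw [hXdef, mul_sub, sub_mul, mul_one, haa]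
    calc a * X = a * X * a * a := by rw [mul_assoc (a * X) a a, haa, mul_one]
      _ = (V' - 1) * a := by rw [this]
      _ = -(V' * X) * a := by rw [hXdef, mul_sub, hVU, mul_one, neg_sub]
  have hUX : Commute U X := (Commute.refl U).sub_right (Commute.one_right U)
  have haflag : ∀ k, ∀ v ∈ flagSpace X k, a v ∈ flagSpace X k := by
    intro k
    induction k with
    | zero =>
      intro v hv
      rw [flagSpace, pow_zero, LinearMap.mem_ker, Module.End.one_apply] at hv ⊢
      rw [hv, map_zero]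
    | succ k ih =>
      intro v hv
      have hXv : X v ∈ flagSpace X k := by
        rw [flagSpace, LinearMap.mem_ker] at hv ⊢
        rwa [← Module.End.mul_apply, ← pow_succ]
      have h1 : X (a v) = -(U (a (X v))) := by
        have := LinearMap.congr_fun haX (a v)
        have haav : a (a v) = v := by rw [← Module.End.mul_apply, haa, Module.End.one_apply]
        simp only [Module.End.mul_apply, LinearMap.neg_apply, haav] at this
        have h3 := congrArg a this
        rw [← Module.End.mul_apply a a, haa, Module.End.one_apply, map_neg] at h3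
        rw [h3]
        congr 1
        have h4 : a * V' = U * a := by rw [hV', ← mul_assoc, ← mul_assoc, haa, one_mul]
        exact LinearMap.congr_fun h4 (X v)
      rw [flagSpace, LinearMap.mem_ker, pow_succ, Module.End.mul_apply, h1, map_neg, neg_eq_zero,
        ← Module.End.mul_apply _ U, ((hUX.pow_right k).symm).eq, Module.End.mul_apply]
      have := ih _ hXv
      rw [flagSpace, LinearMap.mem_ker] at this
      rw [this, map_zero]
  have hqflag : ∀ c : F, quarter c a ∈ lowering X 0 := fun c k v hv => by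
    simp only [quarter, LinearMap.add_apply, Module.End.one_apply, LinearMap.smul_apply, Nat.sub_zero]
    exact add_mem hv (Submodule.smul_mem _ c (haflag k v hv))
  have ha0 : a ∈ lowering X 0 := fun k v hv => by simpa using haflag k v hv
  have hconj : ∀ {s s' f : E} {j : ℕ}, s ∈ lowering X 0 → s' ∈ lowering X 0 → f ∈ lowering X j →
      s * f * s' ∈ lowering X j := fun hs hs' hf => by
    have := lowering_mul (lowering_mul hs hf) hs'
    simpa using this
  -- the deepest step
  have hX1 : U - 1 ∈ lowering X 1 := fun k v hv => by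
    rcases Nat.eq_zero_or_pos k with rfl | hk
    · rw [flagSpace, pow_zero, LinearMap.mem_ker, Module.End.one_apply] at hv
      rw [hv, map_zero]; exact Submodule.zero_mem _
    · rw [← hXdef, flagSpace, LinearMap.mem_ker, ← Module.End.mul_apply, ← pow_succ, show k - 1 + 1 = k by omega]
      exact hv
  let P : ℕ → Prop := fun j => ∃ g : E, InG Γ g ∧ g ≠ 1 ∧ g - 1 ∈ lowering X j ∧ g * (a * g * a) = 1
  have hP1 : P 1 := ⟨U, hU, hU1, hX1, hinv⟩
  have hPlt : ∀ j, P j → j < p := fun j ⟨g, _, hg1, hgl, _⟩ => by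
    by_contra hj
    exact hg1 (sub_eq_zero.1 (lowering_eq_zero hXp (not_lt.1 hj) hgl))
  set j := Nat.findGreatest P p with hjdef
  have hPj : P j := Nat.findGreatest_spec hpr.one_lt.le hP1
  have hj1 : 1 ≤ j := Nat.le_findGreatest hpr.one_lt.le hP1
  have hmax : ¬ P (j + 1) := fun hj => by
    have := Nat.le_findGreatest (hPlt _ hj).le hj
    omega
  have hord : ∀ f : E, f - 1 ∈ lowering X 1 → f ^ p = 1 := by
    intro f hf
    have hk : ∀ k, (f - 1) ^ k ∈ lowering X k := by
      intro k
      induction k with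
      | zero => exact one_mem_lowering X
      | succ k ih => rw [pow_succ]; exact lowering_mul ih hf
    have h1 := lowering_eq_zero hXp le_rfl (hk p)
    rwa [sub_pow_char_of_commute _ (Commute.one_right f), one_pow, sub_eq_zero] at h1
  have hainv : ∀ f : E, InG Γ f → InG Γ (a * f * a) := fun f hf => ((hΓ.mem a ha).mul hf).mul (hΓ.mem a ha)
  have hconja : ∀ f g : E, a * (f * g) * a = (a * f * a) * (a * g * a) := fun f g => by
    simp only [mul_assoc]
    rw [← mul_assoc a a, haa, one_mul]
  have haaf : ∀ f : E, a * (a * f * a) * a = f := fun f => by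
    simp only [mul_assoc, haa, mul_one]
    rw [← mul_assoc, haa, one_mul]
  -- deeper elements are centralised by `a`
  have hfix : ∀ r : E, InG Γ r → r - 1 ∈ lowering X (j + 1) → a * r * a = r := by
    intro r hr hrl
    have hrp := hord r (lowering_anti X (by omega) hrl)
    set r' := r ^ (p - 1) with hr'
    have hrr' : r * r' = 1 := by rw [hr', ← pow_succ', show p - 1 + 1 = p by omega, hrp]
    have hr'r : r' * r = 1 := by rw [hr', ← pow_succ, show p - 1 + 1 = p by omega, hrp]
    set q := r * (a * r' * a) with hq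
    have hql : q - 1 ∈ lowering X (j + 1) := by
      refine (mul_sub_one_mem hrl ?_).1
      have : a * r' * a - 1 = a * (r' - 1) * a := by rw [mul_sub, sub_mul, mul_one, haa]
      rw [this]
      exact hconj ha0 ha0 (pow_sub_one_mem (by omega) hrl _).1
    have hqinv : q * (a * q * a) = 1 := by
      rw [hq, hconja, haaf, mul_assoc, ← mul_assoc (a * r' * a), ← hconja, hr'r, mul_one, haa, one_mul, hrr']
    by_contra hne
    refine hmax ⟨q, hr.mul (hainv _ (hr.inv hrr')), fun e => hne ?_, hql, hqinv⟩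
    calc a * r * a = q * (a * r * a) := by rw [e, one_mul]
      _ = r := by rw [hq, mul_assoc, ← hconja, hr'r, mul_one, haa, mul_one]
  obtain ⟨g, hg, hg1, hgl, hginv⟩ := hPj
  obtain ⟨Y, hY⟩ : ∃ Y : E, Y = g - 1 := ⟨_, rfl⟩
  have hYnot : Y ∉ lowering X (j + 1) := fun hh => hmax ⟨g, hg, hg1, hY ▸ hh, hginv⟩
  have hi : i * i = -1 := h.hi
  set t := quarter i a with ht
  set t' := (2 : F)⁻¹ • quarter (-i) a with ht'
  have htt' : t * t' = 1 := by rw [ht', mul_smul_comm, quarter_mul_neg hi haa, inv_smul_smul₀ h.two_ne]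
  have ht't : t' * t = 1 := by rw [ht', smul_mul_assoc, quarter_neg_mul hi haa, inv_smul_smul₀ h.two_ne]
  have ht0 : t ∈ lowering X 0 := hqflag i
  have ht'0 : t' ∈ lowering X 0 := Submodule.smul_mem _ _ (hqflag (-i))
  have hTmul : ∀ f k : E, t * (f * k) * t' = (t * f * t') * (t * k * t') := fun f k => by
    simp only [mul_assoc]
    rw [← mul_assoc t' t, ht't, one_mul]
  have hTa : ∀ f : E, a * (t * f * t') * a = t * (a * f * a) * t' := fun f => by
    have c1 : a * t = t * a := quarter_comm rfl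
    have c2 : t' * a = a * t' := by rw [ht', smul_mul_assoc, mul_smul_comm, quarter_comm (f := a) rfl]
    simp only [← mul_assoc, c1]
    simp only [mul_assoc, c2]
  have hTsub : ∀ f : E, t * f * t' - 1 = t * (f - 1) * t' := fun f => by rw [mul_sub, sub_mul, mul_one, htt']
  have hta : t * a * t' = a := by rw [show t * a = a * t from (quarter_comm (f := a) rfl).symm, mul_assoc, htt', mul_one]
  have hTsq : ∀ f : E, t * (t * f * t') * t' = a * f * a := fun f => conj_quarter_sq hi h.two_ne haa f
  have hTfix : ∀ z : E, a * z * a = z → t * z * t' = z := fun z hz => by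
    have : z * a = a * z := by conv_lhs => rw [← hz, mul_assoc, haa, mul_one]
    rw [show t * z = z * t from (quarter_comm this).symm, mul_assoc, htt', mul_one]
  clear_value t t'
  have haYa : a * Y * a + Y ∈ lowering X (j + 1) := by
    have hal : a * g * a - 1 ∈ lowering X j := by
      rw [show a * g * a - 1 = a * (g - 1) * a by rw [mul_sub, sub_mul, mul_one, haa]]
      exact hconj ha0 ha0 hgl
    have h1 := (mul_sub_one_mem hgl hal).2 hj1
    rw [hginv, sub_self, zero_sub, neg_mem_iff] at h1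
    convert h1 using 1
    rw [hY, mul_sub, sub_mul, mul_one, haa]; abel
  have hTY : t * Y * t' - i • (a * Y) ∈ lowering X (j + 1) := by
    have h1 : t * Y * t' - i • (a * Y) = (2 : F)⁻¹ • ((a * Y * a + Y) - i • ((a * Y * a + Y) * a)) := by
      have e1 : (a * Y * a + Y) * a = a * Y + Y * a := by rw [add_mul, mul_assoc (a * Y) a a, haa, mul_one]
      have e2 : t * Y * t' = (2 : F)⁻¹ • (Y + i • (a * Y) - i • (Y * a) + a * Y * a) := by
        rw [ht, ht', quarter, quarter, mul_smul_comm]
        congr 1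
        simp only [mul_add, add_mul, mul_one, one_mul, smul_mul_assoc, mul_smul_comm]
        match_scalars <;> first | linear_combination (0 : F) | linear_combination -hi | linear_combination hi
      rw [e1, e2]
      have := h.two_ne
      match_scalars <;> field_simp <;> ring
    rw [h1]
    refine Submodule.smul_mem _ _ (sub_mem haYa (Submodule.smul_mem _ _ ?_))
    have := lowering_mul haYa ha0
    simpa using this
  obtain ⟨k, m, hkm, hm2, hKnot⟩ : ∃ (k : ℕ) (m : F), (k : F) = m ∧
      m * m = -1 ∧ i • (a * Y) + m • Y ∉ lowering X (j + 1) := by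
    by_cases hc : i • (a * Y) + i • Y ∈ lowering X (j + 1)
    · obtain ⟨k, hk⟩ := natCast_surj hF (-i)
      refine ⟨k, -i, hk, by rw [neg_mul_neg]; exact hi, fun hh => hYnot ?_⟩
      have h1 := Submodule.smul_mem _ (2 * i)⁻¹ (sub_mem hc hh)
      rwa [show i • (a * Y) + i • Y - (i • (a * Y) + -i • Y) = (2 * i) • Y by
        rw [neg_smul, two_mul, add_smul]; abel, inv_smul_smul₀ (mul_ne_zero h.two_ne h.i_ne)] at h1
    · obtain ⟨k, hk⟩ := natCast_surj hF i
      exact ⟨k, i, hk, hi, hc⟩
  have htΓ : InG Γ t := by rw [ht]; exact hΓ.quarter a ha haa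
  have hgT : InG Γ (t * g * t') := (htΓ.mul hg).mul (htΓ.inv htt')
  have hTgl : t * g * t' - 1 ∈ lowering X j := by rw [hTsub]; exact hconj ht0 ht'0 hgl
  set E1 := t * g * t' * g ^ k with hE1
  have hgk : InG Γ (g ^ k) := by
    obtain ⟨u, hu, rfl⟩ := hg
    exact ⟨u ^ k, pow_mem hu k, by simp⟩
  have hE1Γ : InG Γ E1 := hgT.mul hgk
  have hgkl := pow_sub_one_mem hj1 hgl k
  have hE1l : E1 - 1 ∈ lowering X j := (mul_sub_one_mem hTgl hgkl.1).1
  set K := i • (a * Y) + m • Y with hK
  clear_value K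
  have hE1K : E1 - 1 - K ∈ lowering X (j + 1) := by
    have h1 := (mul_sub_one_mem hTgl hgkl.1).2 hj1
    have h2 := hgkl.2
    rw [hkm] at h2
    have h3 := add_mem (add_mem h1 h2) hTY
    rw [hTsub, ← hY] at h3
    convert h3 using 1
    rw [hE1, hK]
    abel
  have haK : a * K * a + K ∈ lowering X (j + 1) := by
    rw [show a * K * a + K = i • (a * (a * Y * a + Y)) + m • (a * Y * a + Y) by
      rw [hK, mul_add, add_mul, mul_smul_comm, mul_smul_comm, smul_mul_assoc, smul_mul_assoc, mul_add, smul_add,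
        smul_add]
      simp only [← mul_assoc]
      abel]
    have := lowering_mul ha0 haYa
    rw [Nat.zero_add] at this
    exact add_mem (Submodule.smul_mem _ _ this) (Submodule.smul_mem _ _ haYa)
  -- make it inverted by `a`
  have haal : ∀ f : E, f - 1 ∈ lowering X j → a * f * a - 1 ∈ lowering X j := fun f hf => by
    rw [show a * f * a - 1 = a * (f - 1) * a by rw [mul_sub, sub_mul, mul_one, haa]]
    exact hconj ha0 ha0 hf
  set E1' := E1 ^ (p - 1) with hE1'
  have hE1p := hord E1 (lowering_anti X hj1 hE1l)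
  have hE11 : E1 * E1' = 1 := by rw [hE1', ← pow_succ', show p - 1 + 1 = p by omega, hE1p]
  have hE1r : E1' * E1 = 1 := by rw [hE1', ← pow_succ, show p - 1 + 1 = p by omega, hE1p]
  set E0 := E1 * (a * E1' * a) with hE0
  have hE0Γ : InG Γ E0 := hE1Γ.mul (hainv _ (hE1Γ.inv hE11))
  have hE0inv : E0 * (a * E0 * a) = 1 := by
    rw [hE0, hconja, haaf, mul_assoc, ← mul_assoc (a * E1' * a), ← hconja, hE1r, mul_one, haa, one_mul, hE11]
  have hE1'l := pow_sub_one_mem hj1 hE1l (p - 1)
  rw [← hE1', Nat.cast_sub (by omega : 1 ≤ p), CharP.cast_eq_zero F p, Nat.cast_one, zero_sub, neg_smul, one_smul,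
    sub_neg_eq_add] at hE1'l
  have hE0l : E0 - 1 ∈ lowering X j := (mul_sub_one_mem hE1l (haal _ hE1'l.1)).1
  have hE0K : E0 - 1 - (2 : F) • K ∈ lowering X (j + 1) := by
    have h1 := (mul_sub_one_mem hE1l (haal _ hE1'l.1)).2 hj1
    have h2 : a * ((E1' - 1) + K) * a ∈ lowering X (j + 1) := by
      refine hconj ha0 ha0 ?_
      have := sub_mem hE1'l.2 hE1K
      convert this using 1
      abel
    have h3 := sub_mem (add_mem (add_mem h1 hE1K) h2) haK
    rw [show a * ((E1' - 1) + K) * a = a * E1' * a - 1 + a * K * a by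
      rw [mul_add, add_mul, mul_sub, sub_mul, mul_one, haa]] at h3
    convert h3 using 1
    rw [hE0, two_smul]
    abel
  have hE01 : E0 ≠ 1 := fun e => hKnot (by
    rw [e, sub_self, zero_sub, neg_mem_iff] at hE0K
    simpa [smul_smul, h.two_ne] using Submodule.smul_mem _ (2 : F)⁻¹ hE0K)
  -- it is an eigenvector of the quarter turn
  clear_value E0
  have hE0p := hord E0 (lowering_anti X hj1 hE0l)
  have hE0k := pow_sub_one_mem hj1 hE0l k
  rw [hkm] at hE0k
  have hEk : InG Γ (E0 ^ k) := by
    obtain ⟨u, hu, hue⟩ := hE0Γ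
    exact ⟨u ^ k, pow_mem hu k, by rw [Units.val_pow_eq_pow_val, hue]⟩
  have hTE : InG Γ (t * E0 * t') := (htΓ.mul hE0Γ).mul (htΓ.inv htt')
  have hTK : t * K * t' - m • K ∈ lowering X (j + 1) := by
    have hTaY : t * (a * Y) * t' = a * (t * Y * t') := by
      rw [hTmul, hta]
    have h1 : t * K * t' - m • K =
        i • (a * (t * Y * t' - i • (a * Y))) + m • (t * Y * t' - i • (a * Y)) := by
      rw [hK, mul_add, add_mul, mul_smul_comm, mul_smul_comm, smul_mul_assoc, smul_mul_assoc, hTaY, mul_sub,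
        mul_smul_comm, ← mul_assoc a a, haa, one_mul]
      match_scalars <;> first | linear_combination (0 : F) | linear_combination hi - hm2 | linear_combination hm2 - hi
    rw [h1]
    have := lowering_mul ha0 hTY
    rw [Nat.zero_add] at this
    exact add_mem (Submodule.smul_mem _ _ this) (Submodule.smul_mem _ _ hTY)
  have hEm : t * E0 * t' - 1 - (E0 ^ k - 1) ∈ lowering X (j + 1) := by
    have h1 : t * (E0 - 1 - (2 : F) • K) * t' ∈ lowering X (j + 1) := hconj ht0 ht'0 hE0K
    have h2 := add_mem (sub_mem (sub_mem h1 (Submodule.smul_mem _ m hE0K)) hE0k.2)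
      (Submodule.smul_mem _ (2 : F) hTK)
    convert h2 using 1
    rw [mul_sub, sub_mul, ← hTsub, mul_smul_comm, smul_mul_assoc]
    match_scalars <;> ring
  set Ek' := (E0 ^ k) ^ (p - 1) with hEk'
  have hEkp : (E0 ^ k) ^ p = 1 := by rw [← pow_mul, mul_comm, pow_mul, hE0p, one_pow]
  have hEk1 : E0 ^ k * Ek' = 1 := by rw [hEk', ← pow_succ', show p - 1 + 1 = p by omega, hEkp]
  have hEk2 : Ek' * E0 ^ k = 1 := by rw [hEk', ← pow_succ, show p - 1 + 1 = p by omega, hEkp]
  set r := t * E0 * t' * Ek' with hr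
  have hrΓ : InG Γ r := hTE.mul (hEk.inv hEk1)
  clear_value Ek'
  have hrl : r - 1 ∈ lowering X (j + 1) := by
    have hk0 : Ek' ∈ lowering X 0 := by
      have := pow_sub_one_mem hj1 hE0k.1 (p - 1)
      rw [← hEk'] at this
      have h1 := add_mem (lowering_anti X (Nat.zero_le j) this.1) (one_mem_lowering X)
      rwa [sub_add_cancel] at h1
    have := lowering_mul hEm hk0
    rw [Nat.add_zero, show (t * E0 * t' - 1 - (E0 ^ k - 1)) * Ek' = r - 1 by
      rw [sub_sub_sub_cancel_right, sub_mul, hEk1, hr]] at this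
    exact this
  have har := hfix r hrΓ hrl
  have hrp := hord r (lowering_anti X (by omega) hrl)
  have hrE : E0 * r = r * E0 := by
    set E0' := E0 ^ (p - 1) with hE0'
    have hEE : E0 * E0' = 1 := by rw [hE0', ← pow_succ', show p - 1 + 1 = p by omega, hE0p]
    have hEE' : E0' * E0 = 1 := by rw [hE0', ← pow_succ, show p - 1 + 1 = p by omega, hE0p]
    have haE : a * E0 * a = E0' := by rw [← one_mul (a * E0 * a), ← hEE', mul_assoc, hE0inv, mul_one]
    have haE' : a * E0' * a = E0 := by rw [← haE, haaf]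
    have hs : E0 * r * E0' - 1 ∈ lowering X (j + 1) := by
      rw [show E0 * r * E0' - 1 = E0 * (r - 1) * E0' by rw [mul_sub, sub_mul, mul_one, hEE]]
      refine hconj ?_ ?_ hrl
      · have := add_mem (lowering_anti X (Nat.zero_le j) hE0l) (one_mem_lowering X)
        rwa [sub_add_cancel] at this
      · have := add_mem (lowering_anti X (Nat.zero_le j) (pow_sub_one_mem hj1 hE0l (p - 1)).1) (one_mem_lowering X)
        rwa [sub_add_cancel, ← hE0'] at this
    have hfx := hfix _ ((hE0Γ.mul hrΓ).mul (hE0Γ.inv hEE)) hs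
    rw [hconja, hconja, haE, har, haE'] at hfx
    -- `E0² ` commutes with `r`
    have hsq : Commute (E0 ^ 2) r := by
      show E0 ^ 2 * r = r * E0 ^ 2
      calc E0 ^ 2 * r = E0 * (E0 * r * E0') * E0 := by
            rw [pow_two, mul_assoc E0 (E0 * r * E0') E0, mul_assoc (E0 * r) E0' E0, hEE', mul_one, mul_assoc]
        _ = r * E0 ^ 2 := by
            rw [← hfx, ← mul_assoc, ← mul_assoc, hEE, one_mul, pow_two, mul_assoc]
    obtain ⟨d, hd⟩ : ∃ d, p + 1 = 2 * d := by
      obtain ⟨q, hq⟩ := hpr.odd_of_ne_two hp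
      exact ⟨q + 1, by omega⟩
    have := (hsq.pow_left d).eq
    rwa [← pow_mul, ← hd, pow_succ, hE0p, one_mul] at this
  have hr1 : r = 1 := by
    have hTE' : t * E0 * t' = r * E0 ^ k := by rw [hr, mul_assoc (t * E0 * t'), hEk2, mul_one]
    have hapow : ∀ n : ℕ, (a * E0 * a) ^ n = a * E0 ^ n * a := by
      intro n
      induction n with
      | zero => rw [pow_zero, pow_zero, mul_one, haa]
      | succ n ih => rw [pow_succ, ih, pow_succ, hconja]
    have hprod : (t * E0 * t') * (a * (t * E0 * t') * a) = 1 := by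
      rw [hTa, ← hTmul, hE0inv, mul_one, htt']
    rw [hTE', hconja, har, ← hapow] at hprod
    have hcomm : Commute (E0 ^ k) r := (Commute.pow_left (show Commute E0 r from hrE) k)
    have hcE : Commute E0 (a * E0 * a) := by
      have haE : a * E0 * a = E0 ^ (p - 1) := by
        rw [← one_mul (a * E0 * a), ← hE0p, show p = p - 1 + 1 by omega, pow_succ, mul_assoc, hE0inv, mul_one,
          show p - 1 + 1 - 1 = p - 1 by omega]
      rw [haE]; exact Commute.self_pow E0 _
    have hr2 : r ^ 2 = 1 := by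
      rw [pow_two, ← hprod, mul_assoc r (E0 ^ k), ← mul_assoc (E0 ^ k) r, hcomm.eq, mul_assoc r (E0 ^ k),
        ← hcE.mul_pow, hE0inv, one_pow, mul_one]
    obtain ⟨q, hq⟩ := hpr.odd_of_ne_two hp
    rwa [hq, pow_succ, pow_mul, hr2, one_pow, one_mul] at hrp
  have heig : t * E0 * t' = E0 ^ k := by rw [← mul_one (t * E0 * t'), ← hEk2, ← mul_assoc, ← hr, hr1, one_mul]
  -- the eigenvector has a single step
  set N := E0 - 1 with hN
  obtain ⟨q₁, hq1, hNq⟩ : ∃ q₁ : E, Commute N q₁ ∧ E0 ^ k - 1 = m • N + N * (N * q₁) := by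
    have gen : ∀ n : ℕ, ∃ q₁ : E, Commute N q₁ ∧ (N + 1) ^ n - 1 = (n : F) • N + N * (N * q₁) := by
      intro n
      induction n with
      | zero => exact ⟨0, Commute.zero_right _, by simp⟩
      | succ n ih =>
        obtain ⟨q₁, hc, e⟩ := ih
        refine ⟨(n : F) • 1 + q₁ * (N + 1), ?_, ?_⟩
        · exact (Commute.smul_right (Commute.one_right N) _).add_right
            (hc.mul_right ((Commute.refl N).add_right (Commute.one_right N)))
        · rw [pow_succ, show (N + 1) ^ n = 1 + ((n : F) • N + N * (N * q₁)) by rw [← e]; abel, Nat.cast_succ,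
            add_smul, one_smul]
          simp only [mul_add, add_mul, mul_one, one_mul, smul_mul_assoc, mul_smul_comm, mul_assoc]
          abel
    obtain ⟨q₁, h1, h2⟩ := gen k
    rw [hkm, hN, sub_add_cancel] at h2
    exact ⟨q₁, h1, h2⟩
  have hTN : t * N * t' = m • N + N * (N * q₁) := by rw [hN, ← hTsub, heig]; exact hNq
  -- the square lies in the ideal of the cube
  have hI : ∀ f : E, ∃ g' : E, t * (N ^ 3 * f) * t' = N ^ 3 * g' := by
    intro f
    refine ⟨(m • 1 + N * q₁) ^ 3 * (t * f * t'), ?_⟩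
    have hc : Commute N (m • 1 + N * q₁) :=
      (Commute.smul_right (Commute.one_right N) _).add_right ((Commute.refl N).mul_right hq1)
    have hfac : t * N * t' = N * (m • 1 + N * q₁) := by rw [hTN, mul_add, mul_smul_comm, mul_one]
    have h3 : t * N ^ 3 * t' = (N * (m • 1 + N * q₁)) ^ 3 := by
      rw [pow_three, hTmul, hTmul, hfac, ← pow_three]
    rw [hTmul, h3, hc.mul_pow, mul_assoc]
  obtain ⟨q₂, hT2⟩ : ∃ q₂ : E, t * N ^ 2 * t' + N ^ 2 = N ^ 3 * q₂ := by
    refine ⟨(2 * m) • q₁ + N * (q₁ * q₁), ?_⟩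
    rw [pow_two, hTmul, hTN]
    have e1 : q₁ * N = N * q₁ := hq1.eq.symm
    have e2 : ∀ f : E, q₁ * (N * f) = N * (q₁ * f) := fun f => by rw [← mul_assoc, e1, mul_assoc]
    simp only [pow_three, mul_add, add_mul, smul_mul_assoc, mul_smul_comm, smul_smul, mul_assoc, hm2, e1, e2]
    match_scalars <;> first | linear_combination (0 : F) | linear_combination hm2
  obtain ⟨f₀, hf0⟩ : ∃ f₀ : E, N ^ 2 = N ^ 3 * f₀ := by
    obtain ⟨u₁, hu1⟩ := hI q₂
    obtain ⟨u₂, hu2⟩ := hI u₁
    refine ⟨(4 : F)⁻¹ • (u₂ + (3 : F) • q₂ - (2 : F) • u₁), ?_⟩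
    set S := N ^ 2 with hS
    have a1 : t * (t * S * t') * t' + t * S * t' = N ^ 3 * u₁ := by rw [← add_mul, ← mul_add, hT2, hu1]
    have a2 : t * (t * (t * S * t') * t') * t' + t * (t * S * t') * t' = N ^ 3 * u₂ := by
      rw [← add_mul, ← mul_add, a1, hu2]
    have a3 : t * (t * (t * S * t') * t') * t' + t * S * t' - (t * (t * S * t') * t' + S) = 0 := by
      rw [← add_mul, ← mul_add, hTsq, sub_eq_zero]
      exact hTfix _ (by rw [mul_add, add_mul, haaf, add_comm])
    have h4 : (4 : F) ≠ 0 := by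
      rw [show (4 : F) = 2 * 2 by norm_num]; exact mul_ne_zero h.two_ne h.two_ne
    rw [mul_smul_comm, mul_sub, mul_add, mul_smul_comm, mul_smul_comm, eq_inv_smul_iff₀ h4, ← hT2, ← a1, ← a2]
    linear_combination (norm := module) -a3
  have hN2 : N ^ 2 = 0 := by
    have hNp : N ^ p = 0 := by rw [hN, sub_pow_char_of_commute _ (Commute.one_right _), hE0p, one_pow, sub_self]
    have hind : ∀ n : ℕ, ∃ f : E, N ^ 2 = N ^ (2 + n) * f := by
      intro n
      induction n with
      | zero => exact ⟨1, by rw [Nat.add_zero, mul_one]⟩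
      | succ n ih =>
        obtain ⟨f, hf⟩ := ih
        refine ⟨f₀ * f, ?_⟩
        calc N ^ 2 = N ^ (2 + n) * f := hf
          _ = N ^ n * N ^ 2 * f := by rw [← pow_add, add_comm n 2]
          _ = N ^ (2 + (n + 1)) * (f₀ * f) := by
            rw [hf0, ← mul_assoc (N ^ n), ← pow_add, show n + 3 = 2 + (n + 1) by omega, mul_assoc]
    obtain ⟨f, hf⟩ := hind p
    rw [hf, pow_add, hNp, mul_zero, zero_mul]
  have hNN : N * N = 0 := by rw [← pow_two, hN2]
  rw [← mul_assoc N N, hNN, zero_mul, add_zero] at hTN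
  have hN0 : N ≠ 0 := sub_ne_zero.2 hE01
  have haN : a * N * a = -N := by
    rw [← hTsq, hTN, mul_smul_comm, smul_mul_assoc, hTN, smul_smul, hm2, neg_smul, one_smul]
  have hNa : N * a = -(a * N) := by
    have := congrArg (a * ·) haN
    simp only [← mul_assoc, haa, one_mul, mul_neg] at this
    exact this
  have hiaN : i • (a * N) = m • N := by
    rw [← hTN, ← sub_eq_zero]
    have : t * N = i • (a * N) * t := by
      rw [ht, quarter]
      simp only [add_mul, mul_add, one_mul, mul_one, smul_mul_assoc, mul_smul_comm, smul_smul, hi, neg_smul,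
        one_smul, mul_assoc a N a, hNa, mul_neg, neg_neg, ← mul_assoc, haa]
      abel
    rw [this, mul_assoc (i • (a * N)), htt', mul_one, sub_self]
  refine ⟨N, hN0, ?_, -i * m, ?_, ?_, ?_⟩
  · rw [hN, add_sub_cancel]; exact hE0Γ
  · exact mul_self_eq_one_iff.1 (by linear_combination (i * i) * hm2 - hi)
  · rw [neg_mul, neg_smul, ← smul_smul, ← hiaN, smul_smul, hi, neg_smul, one_smul, neg_neg]
  · rw [hNa, show a * N = (-i * m) • N by
      rw [mul_smul, ← hiaN, smul_smul, neg_mul, hi, neg_neg, one_smul]]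

/-- A single quadratic step does not normalise the system. -/
theorem not_nor_step [Nontrivial V] (hn : (finrank F V : F) ≠ 0) {A B : E} (hA : A ∈ R) (hY : B ∈ R)
    (hAA : A * A = 1) (hBA : B * A = -(A * B)) : ¬ Nor R (1 + proj A * B) := by
  intro hnor
  set N := proj A * B with hNdef
  have hns : ¬ IsScalarMap A := h.not_scalar_of_anti hA hY hBA
  obtain ⟨z, hz, hze⟩ := hnor A hA
  have hAN : A * N = N := by rw [hNdef, ← mul_assoc, mul_proj hAA h.two_ne]
  have hNA : N * A = -N := by
    rw [hNdef, mul_assoc, hBA, mul_neg, ← mul_assoc, proj_mul hAA h.two_ne]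
  have hNN : N * N = 0 := by
    have : (2 : F) • (N * N) = 0 := by
      rw [two_smul]
      nth_rw 1 [show N * N = -(N * N) by conv_lhs => arg 2; rw [← hAN]
                                         rw [← mul_assoc, hNA, neg_mul]]
      exact neg_add_cancel _
    exact (smul_eq_zero.1 this).resolve_left h.two_ne
  clear_value N
  have hz' : z = A - (2 : F) • N := by
    calc z = z * ((1 + N) * (1 - N)) := by
          rw [show (1 + N) * (1 - N) = 1 - N * N by noncomm_ring, hNN, sub_zero, mul_one]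
      _ = (1 + N) * A * (1 - N) := by rw [← mul_assoc, ← hze]
      _ = A - (2 : F) • N := by
          rw [add_mul, one_mul, hNA, mul_sub, mul_one, add_mul, hAN, neg_mul, hNN, neg_zero, add_zero, two_smul]
          abel
  have htr : LinearMap.trace F V (A * z) ≠ 0 := by
    rw [hz', mul_sub, hAA, mul_smul_comm, hAN, hNdef, map_sub, map_smul, LinearMap.trace_one, proj, smul_mul_assoc,
      add_mul, one_mul, map_smul, map_add, h.trace_eq_zero hY (h.not_scalar_of_anti hY hA (by rw [hBA, neg_neg])),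
      h.trace_eq_zero (h.mul_mem _ hA _ hY) (h.not_scalar_of_anti (h.mul_mem _ hA _ hY) hA (by
        rw [mul_assoc, hBA, mul_neg, ← mul_assoc, neg_neg]))]
    simpa using hn
  obtain ⟨e₁, he₁⟩ := h.eq_smul_of_trace hA hz htr
  have h5 : (1 - e₁) • A = (2 : F) • N := by rw [sub_smul, one_smul, ← he₁, hz']; abel
  have h6 := congrArg (A * ·) h5
  have h7 := congrArg (· * A) h5
  simp only [mul_smul_comm, smul_mul_assoc, hAA, hAN, hNA] at h6 h7
  have h8 : (2 : F) • ((2 : F) • N) = 0 := by
    rw [two_smul]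
    nth_rw 2 [← h6]
    rw [h7, smul_neg, add_neg_cancel]
  have hN0 : N = 0 := (smul_eq_zero.1 ((smul_eq_zero.1 h8).resolve_left h.two_ne)).resolve_left h.two_ne
  rw [hNdef] at hN0
  have hP0 : proj A = 0 := by
    obtain ⟨u, hu⟩ := h.isUnit hY
    calc proj A = proj A * B * (↑u⁻¹ : E) := by rw [mul_assoc, ← hu, Units.mul_inv, mul_one]
      _ = 0 := by rw [hN0, zero_mul]
  refine hns ⟨-1, ?_⟩
  have : (1 : E) + A = 0 := (smul_eq_zero.1 hP0).resolve_left (inv_ne_zero h.two_ne)
  rw [neg_smul, one_smul]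
  exact eq_neg_of_add_eq_zero_right this

/-- An element of order `p` inverted by `a` gives an element centralising some involution of the system whose
compression does not normalise the compressed system. -/
theorem exists_moving [Finite F] (hF : Nat.card F = p) (hp : p ≠ 2) (hn : (finrank F V : F) ≠ 0)
    (hdim : 4 ≤ finrank F V) {Γ : Subgroup Eˣ} (hΓ : Ambient i R Γ) {a : E} (ha : a ∈ R) (haa : a * a = 1)
    {U : E} (hU : InG Γ U) (hU1 : U ≠ 1) (hUp : U ^ p = 1) (hinv : U * (a * U * a) = 1) :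
    ∃ x ∈ R, x * x = 1 ∧ ¬ IsScalarMap x ∧ ∃ g : E, InG Γ g ∧ g * x = x * g ∧
      ¬ Nor (resSet x R) (res x g) := by
  classical
  haveI : Finite E := Module.finite_of_finite F
  haveI : Finite R := Finite.of_injective Subtype.val Subtype.val_injective
  haveI : Nontrivial V := Module.finrank_pos_iff.1 (by omega : 0 < finrank F V)
  obtain ⟨Y₀, hY₀, hYΓ, c, hc, haY, hYa⟩ := h.exists_step hF hp hΓ ha haa hU hU1 hUp hinv
  have hcc : c * c = 1 := by rcases hc with rfl | rfl <;> ring
  set a₁ := c • a with ha₁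
  have ha₁R : a₁ ∈ R := h.sign_smul_mem ha hc
  have ha₁a : a₁ * a₁ = 1 := by rw [ha₁, smul_mul_smul_comm, hcc, haa, one_smul]
  have hYl : a₁ * Y₀ = Y₀ := by rw [ha₁, smul_mul_assoc, haY, smul_smul, hcc, one_smul]
  have hYr : Y₀ * a₁ = -Y₀ := by rw [ha₁, mul_smul_comm, hYa, smul_neg, smul_smul, hcc, one_smul]
  have ha₁ns : ¬ IsScalarMap a₁ := by
    rintro ⟨d, hd⟩
    rw [hd, smul_mul_assoc, one_mul] at hYl
    rw [hd, mul_smul_comm, mul_one, hYl] at hYr
    have : (2 : F) • Y₀ = 0 := by rw [two_smul]; nth_rw 1 [hYr]; exact neg_add_cancel _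
    exact hY₀ ((smul_eq_zero.1 this).resolve_left h.two_ne)
  clear_value a₁
  -- a common eigenvector of the members commuting with `a₁`
  have hsq0 : ∀ f f' : E, f * a₁ = -f → a₁ * f' = f' → f * f' = 0 := fun f f' h1 h2 => by
    have : (2 : F) • (f * f') = 0 := by
      rw [two_smul]
      nth_rw 1 [show f * f' = -(f * f') by conv_lhs => rw [← h2, ← mul_assoc, h1, neg_mul]]
      exact neg_add_cancel _
    exact (smul_eq_zero.1 this).resolve_left h.two_ne
  have hsmulG : ∀ f : E, InG Γ (1 + f) → f * a₁ = -f → a₁ * f = f → ∀ d : F, InG Γ (1 + d • f) := by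
    intro f hf h1 h2 d
    obtain ⟨k, rfl⟩ := natCast_surj hF d
    induction k with
    | zero => exact ⟨1, Γ.one_mem, by simp⟩
    | succ k ih =>
      have := ih.mul hf
      rwa [mul_add, mul_one, add_mul, one_mul, smul_mul_assoc, hsq0 f f h1 h2, smul_zero, add_zero,
        add_assoc, show (k : F) • f + f = ((k + 1 : ℕ) : F) • f by
          rw [Nat.cast_succ, add_smul, one_smul]] at this
  have key : ∀ T : Finset E, (↑T : Set E) ⊆ {x | x ∈ R ∧ x * a₁ = a₁ * x} → ∃ f : E, f ≠ 0 ∧ InG Γ (1 + f) ∧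
      a₁ * f = f ∧ f * a₁ = -f ∧ ∀ x ∈ T, f * x = x * f ∨ f * x = -(x * f) := by
    intro T
    induction T using Finset.induction_on with
    | empty => exact fun _ => ⟨Y₀, hY₀, hYΓ, hYl, hYr, by simp⟩
    | @insert x T hxT ih =>
      intro hT
      obtain ⟨hx, hxa⟩ := hT (Finset.mem_insert_self x T)
      obtain ⟨f, hf0, hfΓ, hfl, hfr, hfT⟩ := ih fun y hy => hT (Finset.mem_insert_of_mem hy)
      obtain ⟨u, hu, hxx⟩ := h.sq_sign hx
      have huu : u * u = 1 := by rcases hu with rfl | rfl <;> ring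
      set f' := u • (x * f * x) with hf'
      have hf'Γ : InG Γ (1 + f') := by
        have := ((hΓ.mem x hx).mul hfΓ).mul (hΓ.mem _ (h.sign_smul_mem hx hu))
        rwa [mul_add, add_mul, mul_one, mul_smul_comm, mul_smul_comm, hxx, smul_smul, huu, one_smul] at this
      have hf'l : a₁ * f' = f' := by
        rw [hf', mul_smul_comm, ← mul_assoc, ← mul_assoc, ← hxa, mul_assoc x a₁ f, hfl]
      have hf'r : f' * a₁ = -f' := by
        rw [hf', smul_mul_assoc, mul_assoc, hxa, ← mul_assoc, mul_assoc x f a₁, hfr, mul_neg, neg_mul, smul_neg]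
      have hfx : f' * x = x * f := by
        rw [hf', smul_mul_assoc, mul_assoc, hxx, mul_smul_comm, mul_one, smul_smul, huu, one_smul]
      have hxf : x * f' = f * x := by
        rw [hf', mul_smul_comm, ← mul_assoc, ← mul_assoc, hxx, smul_mul_assoc, one_mul, smul_mul_assoc, smul_smul,
          huu, one_smul]
      by_cases hpm : f' = -f
      · refine ⟨f, hf0, hfΓ, hfl, hfr, fun y hy => ?_⟩
        rcases Finset.mem_insert.1 hy with rfl | hy
        · exact .inr (by rw [← hfx, hpm, neg_mul, neg_neg])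
        · exact hfT y hy
      refine ⟨f + f', fun e => hpm (eq_neg_of_add_eq_zero_right e), ?_, by rw [mul_add, hfl, hf'l],
        by rw [add_mul, hfr, hf'r, neg_add], fun y hy => ?_⟩
      · have := hfΓ.mul hf'Γ
        rwa [mul_add, add_mul, add_mul, mul_one, one_mul, mul_one, hsq0 f f' hfr hf'l, add_zero, add_assoc] at this
      rcases Finset.mem_insert.1 hy with rfl | hy
      · exact .inl (by rw [add_mul, mul_add, hfx, hxf, add_comm])
      obtain ⟨hyR, -⟩ := hT (Finset.mem_insert_of_mem hy)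
      obtain ⟨τ, hτ, hτe⟩ := h.comm_sign hx hyR
      have hττ : τ * τ = 1 := by rcases hτ with rfl | rfl <;> ring
      have hxy : x * y = τ • (y * x) := by rw [hτe, smul_smul, hττ, one_smul]
      have hsgn : ∀ s : F, f * y = s • (y * f) → f' * y = s • (y * f') := by
        intro s hs
        rw [hf', smul_mul_assoc, mul_smul_comm, mul_assoc (x * f) x y, hxy, mul_smul_comm, ← mul_assoc (x * f) y x,
          mul_assoc x f y, hs, mul_smul_comm, ← mul_assoc x y f, hxy, smul_mul_assoc, smul_mul_assoc, smul_mul_assoc,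
          smul_smul, smul_smul, smul_smul, smul_smul, mul_assoc y x f, ← mul_assoc y (x * f) x]
        congr 1
        linear_combination (u * s) * hττ
      rcases hfT y hy with e | e
      · refine .inl ?_
        rw [add_mul, mul_add, e, hsgn 1 (by rw [e, one_smul]), one_smul]
      · refine .inr ?_
        rw [add_mul, mul_add, e, hsgn (-1) (by rw [e, neg_smul, one_smul]), neg_smul, one_smul, neg_add]
  haveI := Fintype.ofFinite {x | x ∈ R ∧ x * a₁ = a₁ * x}
  obtain ⟨f, hf0, hfΓ, hfl, hfr, hfx⟩ := key {x | x ∈ R ∧ x * a₁ = a₁ * x}.toFinset (by simp)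
  simp only [Set.mem_toFinset, Set.mem_ofPred_eq, and_imp] at hfx
  obtain ⟨b, hb, hba⟩ := h.exists_anti ha₁R ha₁ns
  set k := f * b with hk
  have hka : k * a₁ = a₁ * k := by
    rw [hk, mul_assoc, hba, mul_neg, ← mul_assoc, hfr, ← mul_assoc, hfl, neg_mul, neg_neg]
  have hak : a₁ * k = k := by rw [hk, ← mul_assoc, hfl]
  have hPk : proj a₁ * k * proj a₁ = k := by
    have h22 : (2 : F)⁻¹ • (k + k) = k := by rw [← two_smul F k, inv_smul_smul₀ h.two_ne]
    have h1 : proj a₁ * k = k := by rw [proj, smul_mul_assoc, add_mul, one_mul, hak, h22]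
    rw [h1, proj, mul_smul_comm, mul_add, mul_one, hka, hak, h22]
  have hk0 : k ≠ 0 := fun e => hf0 (by
    obtain ⟨u, hu⟩ := h.isUnit hb
    calc f = k * (↑u⁻¹ : E) := by rw [hk, mul_assoc, ← hu, Units.mul_inv, mul_one]
      _ = 0 := by rw [e, zero_mul])
  haveI : Finite (Module.End F (plusSpace a₁)) := Module.finite_of_finite F
  haveI : Finite (resSet a₁ R) := Finite.of_injective Subtype.val Subtype.val_injective
  obtain ⟨_, ⟨r, ⟨hr, hra⟩, rfl⟩, d, hd, hdr⟩ := (h.pauli_res ha₁R ha₁a).exists_line'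
    (f := res a₁ k)
    (fun e => hk0 (by
      rw [← (res a₁).map_zero, res_eq_iff ha₁a h.two_ne, hPk] at e
      simpa using e))
    (by
      rintro _ ⟨x, ⟨hx, hxa⟩, rfl⟩
      rw [← res_mul ha₁a h.two_ne hxa, ← res_mul ha₁a h.two_ne hka, hk]
      rcases h.comm x hx b hb with e | e <;> rcases hfx x hx hxa with e' | e'
      · left; rw [mul_assoc, e, ← mul_assoc, e', mul_assoc]
      · right; rw [mul_assoc, e, ← mul_assoc, e', neg_mul, map_neg, mul_assoc]
      · right; rw [mul_assoc, e, mul_neg, ← mul_assoc, e', map_neg, mul_assoc]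
      · left; rw [mul_assoc, e, mul_neg, ← mul_assoc, e', neg_mul, neg_neg, mul_assoc])
  rw [← map_smul, res_eq_iff ha₁a h.two_ne, hPk] at hdr
  -- a member `y` giving an element `1 + P y`
  obtain ⟨t, ht, hbb⟩ := h.sq_sign hb
  have htt : t * t = 1 := by rcases ht with rfl | rfl <;> ring
  obtain ⟨y, hy, e, he, hye, hyy⟩ : ∃ y ∈ R, ∃ e : F, e ≠ 0 ∧ r * b = e • y ∧ y * y = 1 := by
    rcases h.sq _ (h.mul_mem _ hr _ hb) with e | e
    · exact ⟨r * b, h.mul_mem _ hr _ hb, 1, one_ne_zero, (one_smul _ _).symm, e⟩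
    · refine ⟨i • (r * b), h.i_smul_mem (h.mul_mem _ hr _ hb), -i, neg_ne_zero.2 h.i_ne, ?_, ?_⟩
      · rw [smul_smul, neg_mul, h.hi, neg_neg, one_smul]
      · rw [smul_mul_smul_comm, h.hi, e, neg_smul, one_smul, neg_neg]
  have hya : y * a₁ = -(a₁ * y) := by
    have h1 : r * b * a₁ = -(a₁ * (r * b)) := by
      rw [mul_assoc, hba, mul_neg, ← mul_assoc, hra, mul_assoc]
    rw [hye, smul_mul_assoc, mul_smul_comm, ← smul_neg] at h1
    exact smul_right_injective E he h1
  have hfy : f = (d * t * e) • (proj a₁ * y) := by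
    have h1 : f = t • (k * b) := by rw [hk, mul_assoc, hbb, mul_smul_comm, mul_one, smul_smul, htt, one_smul]
    rw [h1, hdr, mul_smul_comm, smul_mul_assoc, mul_assoc (proj a₁) r (proj a₁), comm_proj ha₁a h.two_ne hra,
      ← mul_assoc, proj_mul_self ha₁a h.two_ne, smul_mul_assoc, mul_assoc, hye, mul_smul_comm, smul_smul, smul_smul]
    congr 1
    ring
  have hdte : d * t * e ≠ 0 := mul_ne_zero (mul_ne_zero hd (by rcases ht with rfl | rfl <;> simp)) he
  have hgΓ : InG Γ (1 + proj a₁ * y) := by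
    have := hsmulG f hfΓ hfr hfl (d * t * e)⁻¹
    rwa [hfy, smul_smul, inv_mul_cancel₀ hdte, one_smul] at this
  -- a member commuting with both
  obtain ⟨x₀, hx₀, hx₀a, hx₀y, hx₀s⟩ : ∃ x ∈ R, x * a₁ = a₁ * x ∧ x * y = y * x ∧ ¬ IsScalarMap x := by
    by_contra hcon
    push Not at hcon
    have h1 := h.exists_comm_two ha₁R hy
    have h2 : Submodule.span F {z | z ∈ R ∧ z * a₁ = a₁ * z ∧ z * y = y * z} ≤ Submodule.span F {(1 : E)} := by
      refine Submodule.span_le.2 ?_
      rintro z ⟨hz, hza, hzy⟩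
      obtain ⟨c, rfl⟩ := hcon z hz hza hzy
      exact Submodule.smul_mem _ _ (Submodule.mem_span_singleton_self _)
    have h3 := (Submodule.finrank_mono h2).trans (finrank_span_singleton (one_ne_zero (α := E))).le
    rw [Module.finrank_linearMap] at h1
    nlinarith
  obtain ⟨x, hx, hxa, hxy, hxs, hxx⟩ : ∃ x ∈ R, x * a₁ = a₁ * x ∧ x * y = y * x ∧ ¬ IsScalarMap x ∧ x * x = 1 := by
    rcases h.sq x₀ hx₀ with e | e
    · exact ⟨x₀, hx₀, hx₀a, hx₀y, hx₀s, e⟩
    · refine ⟨i • x₀, h.i_smul_mem hx₀, by simp [hx₀a], by simp [hx₀y],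
        fun ⟨c, hc⟩ => hx₀s ⟨i⁻¹ * c, ?_⟩, by rw [smul_mul_smul_comm, h.hi, e, neg_smul, one_smul, neg_neg]⟩
      rw [← smul_smul, ← hc, inv_smul_smul₀ h.i_ne]
  have hxP : x * proj a₁ = proj a₁ * x := comm_proj ha₁a h.two_ne hxa
  refine ⟨x, hx, hxx, hxs, _, hgΓ, by rw [add_mul, mul_add, one_mul, mul_one, mul_assoc, ← hxy, ← mul_assoc, ← hxP,
    mul_assoc], fun hnor => ?_⟩
  have hh := h.pauli_res hx hxx
  haveI : Nontrivial (plusSpace x) := by
    have := h.res_finrank hx hxx hxs
    exact Module.finrank_pos_iff.1 (by omega : 0 < finrank F (plusSpace x))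
  have hax : a₁ * x = x * a₁ := hxa.symm
  have hyx : y * x = x * y := hxy.symm
  have hm : ∀ u v : E, v * x = x * v → res x (u * v) = res x u * res x v := fun u v => res_mul hxx h.two_ne
  have hA : res x a₁ ∈ resSet x R := h.res_mem ha₁R hax
  have hY : res x y ∈ resSet x R := h.res_mem hy hyx
  set A := res x a₁ with hAdef
  set B := res x y with hBdef
  have hAA : A * A = 1 := by rw [hAdef, ← hm _ _ hax, ha₁a, res_one hxx h.two_ne]
  have hBA : B * A = -(A * B) := by rw [hBdef, hAdef, ← hm _ _ hax, ← hm _ _ hyx, hya, map_neg]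
  set N := proj A * B with hNdef
  have hG : res x (1 + proj a₁ * y) = 1 + N := by
    have hP : res x (proj a₁) = proj A := by rw [proj, proj, map_smul, map_add, res_one hxx h.two_ne]
    rw [map_add, res_one hxx h.two_ne, hm _ _ hyx, hP, hNdef]
  clear_value A B
  have := hh.not_nor_step (h.finrank_cast_res hx hxx hxs hn) hA hY hAA hBA
  rw [← hNdef, ← hG] at this
  exact this hnor

end Pauli

end CfsgLib.Classical.PauliMax
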